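import Mathlib
import Cfsg.Agent.Lib.Grp.Solvable
import Cfsg.Agent.Lib.Grp.Frattini

/-!
# Rational groups

`RatGroup G`: every element is conjugate to all powers generating the same cyclic subgroup.
The property follows from distinct class sizes and passes to quotients; in a solvable nontrivial
group it gives a normal subgroup of index two.
-/

set_option autoImplicit false

set_option linter.unusedSectionVars false

namespace Cfsg.Agent.DistinctSizes

open Subgroup

universe u

/-- every element is conjugate to all generators of the cyclic group it generates -/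
def RatGroup (G : Type*) [Group G] : Prop :=
  ∀ (x : G) (s : ℕ), s.Coprime (orderOf x) → ∃ g : G, g * x * g⁻¹ = x ^ s

/-- elements with centralizers of the same order are conjugate -/
def Distinct (G : Type*) [Group G] : Prop :=
  ∀ x y : G, Nat.card (centralizer ({x} : Set G)) = Nat.card (centralizer ({y} : Set G)) →
    ∃ g : G, g * x * g⁻¹ = y

variable {G : Type u} [Group G]

theorem mem_cent {x g : G} : g ∈ centralizer ({x} : Set G) ↔ g * x = x * g :=
  mem_centralizer_singleton_iff

theorem conj_eq_iff {g x : G} : g * x * g⁻¹ = x ↔ g ∈ centralizer ({x} : Set G) := by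
  rw [mem_cent]; exact mul_inv_eq_iff_eq_mul

theorem commute_of_mem {g x : G} (h : g ∈ centralizer ({x} : Set G)) : Commute g x := mem_cent.1 h

theorem self_mem_cent (x : G) : x ∈ centralizer ({x} : Set G) := mem_cent.2 rfl

theorem card_cent_conj (g x : G) :
    Nat.card (centralizer ({g * x * g⁻¹} : Set G)) = Nat.card (centralizer ({x} : Set G)) := by
  refine (Nat.card_congr ((MulAut.conj g).toEquiv.subtypeEquiv fun a => ?_)).symm
  change a ∈ centralizer {x} ↔ g * a * g⁻¹ ∈ centralizer {g * x * g⁻¹}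
  rw [mem_cent, mem_cent]
  constructor
  · intro h
    rw [show g * a * g⁻¹ * (g * x * g⁻¹) = g * (a * x) * g⁻¹ by group, h]; group
  · intro h
    rw [show a * x = g⁻¹ * (g * a * g⁻¹ * (g * x * g⁻¹)) * g by group, h]; group

theorem orderOf_dvd_card_cent (x : G) : orderOf x ∣ Nat.card (centralizer ({x} : Set G)) := by
  rw [← Nat.card_zpowers]
  exact card_dvd_of_le (zpowers_le.2 (self_mem_cent x))

theorem cent_pow_eq {x : G} {s : ℕ} (hs : s.Coprime (orderOf x)) :
    centralizer ({x ^ s} : Set G) = centralizer ({x} : Set G) := by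
  obtain ⟨m, hm⟩ := exists_pow_eq_self_of_coprime hs
  ext g
  rw [mem_cent, mem_cent]
  refine ⟨fun h => ?_, fun h => (Commute.pow_right h s).eq⟩
  have := (Commute.pow_right h m).eq
  rwa [hm] at this

theorem Distinct.ratGroup (h : Distinct G) : RatGroup G := fun x s hs =>
  h x (x ^ s) (by rw [cent_pow_eq hs])

theorem distinct_of_injective [Finite G]
    (h : Function.Injective fun C : ConjClasses G => Nat.card C.carrier) : Distinct G := by
  have hmul : ∀ x : G,
      Nat.card ↥(ConjClasses.mk x).carrier * Nat.card ↥(centralizer ({x} : Set G)) = Nat.card G := by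
    intro x
    have h1 := MulAction.index_stabilizer (ConjAct G) x
    rw [ConjAct.stabilizer_eq_centralizer, ConjAct.orbit_eq_carrier_conjClasses] at h1
    rw [← (centralizer ({x} : Set G)).index_mul_card]
    exact congrArg (· * _) h1.symm
  intro x y hxy
  refine isConj_iff.1 (ConjClasses.mk_eq_mk_iff_isConj.1 (h ?_))
  refine Nat.eq_of_mul_eq_mul_right Nat.card_pos ((hmul x).trans ?_)
  rw [hxy, hmul y]

theorem RatGroup.map [Finite G] (h : RatGroup G) {H : Type*} [Group H] (f : G →* H)
    (hf : Function.Surjective f) : RatGroup H := by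
  intro y s hs
  obtain ⟨x, rfl⟩ := hf y
  have hd : orderOf (f x) ∣ orderOf x := orderOf_map_dvd f x
  haveI : NeZero (orderOf x) := ⟨(orderOf_pos x).ne'⟩
  obtain ⟨t, ht⟩ := ZMod.unitsMap_surjective hd (ZMod.unitOfCoprime s hs)
  obtain ⟨g, hg⟩ := h x _ (ZMod.val_coe_unit_coprime t)
  refine ⟨f g, ?_⟩
  rw [← map_inv, ← map_mul, ← map_mul, hg, map_pow, pow_eq_pow_iff_modEq,
    ← ZMod.natCast_eq_natCast_iff]
  have := congrArg Units.val ht
  rw [ZMod.unitsMap_val, ZMod.coe_unitOfCoprime] at this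
  rw [← this, ZMod.natCast_val]

theorem RatGroup.of_equiv [Finite G] (h : RatGroup G) {H : Type*} [Group H] (e : G ≃* H) : RatGroup H :=
  h.map e.toMonoidHom e.surjective

theorem RatGroup.exists_inv [Finite G] (h : RatGroup G) (x : G) : ∃ g : G, g * x * g⁻¹ = x⁻¹ := by
  have h0 := orderOf_pos x
  obtain ⟨g, hg⟩ := h x (orderOf x - 1) (by
    rcases Nat.lt_or_ge (orderOf x) 2 with h1 | h1
    · rw [show orderOf x = 1 by omega]; exact Nat.coprime_one_right _
    · exact (Nat.coprime_self_sub_left (by omega)).2 (Nat.coprime_one_left _))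
  refine ⟨g, hg.trans (eq_inv_of_mul_eq_one_left ?_)⟩
  rw [← pow_succ, Nat.sub_add_cancel h0, pow_orderOf_eq_one]

/-- conjugation respects the decomposition into commuting parts of coprime orders -/
theorem split_conj {y u y' u' h : G} (hc : Commute y u) (hc' : Commute y' u') {m n : ℕ}
    (hmn : m.Coprime n) (hy : y ^ m = 1) (hu : u ^ n = 1) (hy' : y' ^ m = 1) (hu' : u' ^ n = 1)
    (e : h * (y * u) * h⁻¹ = y' * u') : h * y * h⁻¹ = y' ∧ h * u * h⁻¹ = u' := by
  obtain ⟨a, h1, h2⟩ := Nat.chineseRemainder hmn 1 0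
  have key : ∀ {p q : G}, Commute p q → p ^ m = 1 → q ^ n = 1 → (p * q) ^ a = p := by
    intro p q hpq hp hq
    obtain ⟨k, hk⟩ := Nat.modEq_zero_iff_dvd.1 h2
    rw [hpq.mul_pow, show q ^ a = 1 by rw [hk, pow_mul, hq, one_pow], mul_one,
      pow_eq_pow_iff_modEq.2 (show a ≡ 1 [MOD orderOf p] from h1.of_dvd (orderOf_dvd_of_pow_eq_one hp)),
      pow_one]
  have hY : h * y * h⁻¹ = y' := by
    have := congrArg (· ^ a) e
    simpa only [conj_pow, key hc hy hu, key hc' hy' hu'] using this
  refine ⟨hY, ?_⟩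
  rw [show h * (y * u) * h⁻¹ = h * y * h⁻¹ * (h * u * h⁻¹) by group, hY] at e
  exact mul_left_cancel e

/-- independent exponents on the two parts of an element -/
theorem RatGroup.exists_parts [Finite G] (h : RatGroup G) {y u : G} (hc : Commute y u)
    (hcop : (orderOf y).Coprime (orderOf u)) {a b : ℕ} (ha : a.Coprime (orderOf y))
    (hb : b.Coprime (orderOf u)) :
    ∃ g : G, g * y * g⁻¹ = y ^ a ∧ g * u * g⁻¹ = u ^ b := by
  obtain ⟨s, h1, h2⟩ := Nat.chineseRemainder hcop a b
  have hs : s.Coprime (orderOf (y * u)) := by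
    rw [hc.orderOf_mul_eq_mul_orderOf_of_coprime hcop]
    exact Nat.Coprime.mul_right (by rw [Nat.Coprime, h1.gcd_eq]; exact ha)
      (by rw [Nat.Coprime, h2.gcd_eq]; exact hb)
  obtain ⟨g, hg⟩ := h _ s hs
  rw [hc.mul_pow, pow_eq_pow_iff_modEq.2 h1, pow_eq_pow_iff_modEq.2 h2] at hg
  refine ⟨g, split_conj hc (hc.pow_pow a b) hcop (pow_orderOf_eq_one y) (pow_orderOf_eq_one u) ?_ ?_ hg⟩
  · rw [← pow_mul, mul_comm, pow_mul, pow_orderOf_eq_one, one_pow]
  · rw [← pow_mul, mul_comm, pow_mul, pow_orderOf_eq_one, one_pow]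

/-- the `p'`-part and the `p`-part of an element -/
theorem exists_parts [Finite G] {p : ℕ} (hp : p.Prime) (x : G) :
    ∃ y u : G, x = y * u ∧ Commute y u ∧ (orderOf y).Coprime p ∧ (∃ k, u ^ p ^ k = 1) ∧
      y ∈ zpowers x ∧ u ∈ zpowers x := by
  obtain ⟨k, m, hm, hkm⟩ := Nat.exists_eq_pow_mul_and_not_dvd (orderOf_pos x).ne' p hp.ne_one
  have hmp : m.Coprime p := (hp.coprime_iff_not_dvd.2 hm).symm
  obtain ⟨a, h1, h2⟩ := Nat.chineseRemainder (hmp.pow_right k) 1 0
  obtain ⟨b, h3, h4⟩ := Nat.chineseRemainder (hmp.pow_right k) 0 1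
  refine ⟨x ^ a, x ^ b, ?_, (Commute.refl x).pow_pow a b, ?_, ⟨k, ?_⟩, npow_mem_zpowers x a,
    npow_mem_zpowers x b⟩
  · have : a + b ≡ 1 [MOD orderOf x] := by
      rw [hkm, mul_comm]
      exact (Nat.modEq_and_modEq_iff_modEq_mul (hmp.pow_right k)).1
        ⟨by simpa using h1.add h3, by simpa using h2.add h4⟩
    rw [← pow_add, pow_eq_pow_iff_modEq.2 this, pow_one]
  · refine hmp.coprime_dvd_left (orderOf_dvd_of_pow_eq_one ?_)
    obtain ⟨c, hc⟩ := Nat.modEq_zero_iff_dvd.1 h2
    rw [← pow_mul, hc, mul_right_comm, ← hkm, pow_mul, pow_orderOf_eq_one, one_pow]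
  · obtain ⟨c, hc⟩ := Nat.modEq_zero_iff_dvd.1 h3
    rw [← pow_mul, hc, mul_right_comm, mul_comm m (p ^ k), ← hkm, pow_mul, pow_orderOf_eq_one, one_pow]

/-- a nontrivial solvable rational group has a normal subgroup of index two -/
theorem RatGroup.exists_index_two [Finite G] [Nontrivial G] [hs : Group.IsSolvable G] (h : RatGroup G) :
    ∃ N : Subgroup G, N.Normal ∧ N.index = 2 := by
  have hne : commutator G ≠ ⊤ := (Group.IsSolvable.commutator_lt_top_of_nontrivial G).ne
  obtain ⟨M, hM, hle⟩ := (eq_top_or_exists_le_coatom (commutator G)).resolve_left hne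
  have hn : M.Normal := Subgroup.Normal.of_commutator_le G hle
  refine ⟨M, hn, ?_⟩
  have hq := Grp.normal_index_prime_of_coatom hM
  haveI := Fact.mk hq
  obtain ⟨z, hz⟩ := exists_prime_orderOf_dvd_card' (G := G ⧸ M) M.index (by rw [index_eq_card])
  obtain ⟨x, rfl⟩ := QuotientGroup.mk'_surjective M z
  have hcomm : ∀ a b : G ⧸ M, a * b = b * a := by
    intro a b
    obtain ⟨a, rfl⟩ := QuotientGroup.mk'_surjective M a
    obtain ⟨b, rfl⟩ := QuotientGroup.mk'_surjective M b
    rw [← commutatorElement_eq_one_iff_mul_comm, ← map_commutatorElement,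
      QuotientGroup.mk'_apply, QuotientGroup.eq_one_iff]
    exact hle (commutator_mem_commutator (mem_top a) (mem_top b))
  obtain ⟨g, hg⟩ := h.exists_inv x
  have hsq : QuotientGroup.mk' M x ^ 2 = 1 := by
    have := congrArg (QuotientGroup.mk' M) hg
    rw [map_mul, map_mul, map_inv, map_inv, hcomm (QuotientGroup.mk' M g), mul_inv_cancel_right] at this
    rw [pow_two]
    exact mul_eq_one_iff_eq_inv.2 this
  have := orderOf_dvd_of_pow_eq_one hsq
  rw [hz] at this
  exact (Nat.prime_dvd_prime_iff_eq hq Nat.prime_two).1 this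

theorem mem_of_odd_of_index_two {N : Subgroup G} (hN : N.index = 2) {x : G} (hx : Odd (orderOf x)) :
    x ∈ N := by
  obtain ⟨j, hj⟩ := hx
  have h : x * (x ^ j * x ^ j) = 1 := by
    rw [← pow_add, ← pow_succ', show j + j + 1 = 2 * j + 1 by omega, ← hj, pow_orderOf_eq_one]
  have h2 : x ^ j * x ^ j ∈ N := mul_self_mem_of_index_two hN _
  rw [eq_inv_of_mul_eq_one_left h]
  exact inv_mem h2

end Cfsg.Agent.DistinctSizes
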