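import Cfsg.Agent.Lib.Block.DistinctSizes.Four

/-!
# Blocks of covering groups

A minimal block of a covering group is a plane on which the stabiliser normalises a quaternion
group.
-/

set_option autoImplicit false

set_option linter.unusedSectionVars false

namespace Cfsg.Agent.DistinctSizes

universe u

variable {p : ℕ} [hp : Fact p.Prime] {W : Type u} [AddCommGroup W] [Module (ZMod p) W]

/-- a nondegenerate subspace whose translates are equal or orthogonal to it -/
structure IsBlock (B : LinearMap.BilinForm (ZMod p) W) (Γ : Subgroup (W ≃ₗ[ZMod p] W))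
    (U : Submodule (ZMod p) W) : Prop where
  ne : U ≠ ⊥
  nd : ∀ w ∈ U, (∀ y ∈ U, B w y = 0) → w = 0
  sep : ∀ g ∈ Γ, g ∈ preserver U ∨ ∀ u ∈ U, ∀ u' ∈ U, B u (g u') = 0

namespace Cover

variable [Finite W] [Nontrivial W] {B : LinearMap.BilinForm (ZMod p) W} {Γ : Subgroup (W ≃ₗ[ZMod p] W)}
  (h : Cover B Γ)
include h

theorem exists_planeQ (hS : ScalarAbelian Γ) (h7 : 7 ≤ p) : p = 7 ∧ ∃ i j, PlaneQ B Γ i j := by
  obtain ⟨Q, E⟩ := h.exists_exQ hS
  obtain ⟨A, M⟩ := h.exists_maxFix Q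
  obtain ⟨i, j, hQ⟩ := h.exists_quat E M (by omega)
  obtain ⟨i', j', ei, ej, P⟩ := hQ.plane
  have hp7 := P.prime_eq_seven h7
  have hA := h.quat_eq_bot hQ hp7
  subst hA
  have htop : fixedSpace (⊥ : Subgroup (W ≃ₗ[ZMod p] W)) = ⊤ :=
    eq_top_iff.2 fun w _ a ha => by rw [Subgroup.mem_bot.1 ha]; rfl
  have hall : ∀ w : W, w ∈ fixedSpace (⊥ : Subgroup (W ≃ₗ[ZMod p] W)) := fun w => by rw [htop]; trivial
  refine ⟨hp7, i, j, ⟨h, ?_, hQ.qp, E.le (mem_centIn.1 hQ.mem_i).1, E.le (mem_centIn.1 hQ.mem_j).1,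
    fun g hg a => ?_⟩⟩
  · rw [← P.dim, htop, finrank_top]
  · have hgN : g ∈ normIn Γ (⊥ : Subgroup (W ≃ₗ[ZMod p] W)) :=
      ⟨hg, Subgroup.mem_normalizer_iff.2 fun x => by simp⟩
    obtain ⟨g', hg', eg⟩ := exists_imageOn hgN (h.normIn_maps hgN)
    obtain ⟨b, hb⟩ := P.norm g' hg' a
    have hax : ∀ c (w : fixedSpace (⊥ : Subgroup (W ≃ₗ[ZMod p] W))),
        (axis i' j' c w : W) = axis i j c w.1 := fun c w => by
      fin_cases c
      · exact ei w
      · exact ej w
      · show ((i' (j' w) : fixedSpace (⊥ : Subgroup (W ≃ₗ[ZMod p] W))) : W) = i (j w.1)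
        rw [ei, ej]
    refine ⟨b, hb.imp (fun e w => ?_) (fun e w => ?_)⟩
    · have := congrArg Subtype.val (e ⟨w, hall w⟩)
      rwa [eg, hax, hax, eg] at this
    · have := congrArg Subtype.val (e ⟨w, hall w⟩)
      rwa [Submodule.coe_neg, eg, hax, hax, eg] at this

theorem block_top : IsBlock B Γ ⊤ where
  ne := by
    obtain ⟨v, hv⟩ := exists_ne (0 : W)
    exact fun e => hv ((Submodule.mem_bot (ZMod p)).1 (e ▸ Submodule.mem_top : v ∈ ⊥))
  nd w _ h0 := h.nd w fun y => h0 y trivial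
  sep g _ := Or.inl fun w => by simp

theorem block_cover {U : Submodule (ZMod p) W} (hU : IsBlock B Γ U) :
    Cover (restrictForm B U) (imageOn U Γ) := by
  refine h.restrict le_rfl hU.nd fun v hv c hc => ?_
  by_cases hv0 : v = 0
  · exact ⟨1, one_mem _, one_mem _, by rw [hv0, smul_zero]; rfl⟩
  obtain ⟨g, hg, hgv⟩ := h.cover v c hc
  refine ⟨g, hg, (hU.sep g hg).resolve_right fun ho => hv0 (hU.nd v hv fun y hy => ?_), hgv⟩
  have h1 := ho y hy v hv
  rw [hgv, map_smul, smul_eq_mul] at h1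
  rw [h.skew y v, (mul_eq_zero.1 h1).resolve_left hc, neg_zero]

/-- a block of least dimension has scalar abelian normal subgroups -/
theorem block_scalarAbelian (h5 : p ≠ 5) {U : Submodule (ZMod p) W} (hU : IsBlock B Γ U)
    (hmin : ∀ U', IsBlock B Γ U' → Module.finrank (ZMod p) U ≤ Module.finrank (ZMod p) U') :
    ScalarAbelian (imageOn U Γ) := by
  intro N hN hnor hab a₀ ha₀
  by_contra hns
  have hcov := h.block_cover hU
  haveI : Nontrivial U := Submodule.nontrivial_iff_ne_bot.2 hU.ne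
  obtain ⟨S, M⟩ := hcov.exists_maxFix N
  have hsq : ∀ a ∈ N, ∀ u, a (a u) = u := fun a ha u => by
    rw [← LinearEquiv.mul_apply, hcov.sq_eq_one_of_abelian h5 hN hnor hab ha]; rfl
  have hneg : ∀ a ∈ N, a ∉ S → ∀ u ∈ fixedSpace S, a u = -u := fun a ha haS u hu => by
    by_contra hne
    have hfix : u + a u ∈ fixedSpace S := (fixedSpace S).add_mem hu fun b hb => by
      rw [← LinearEquiv.mul_apply, hab b (M.le hb) a ha, LinearEquiv.mul_apply, hu b hb]
    exact haS (M.max a ha _ hfix (fun e => hne (eq_neg_of_add_eq_zero_right e))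
      (by rw [map_add, hsq a ha, add_comm]))
  have hlt : fixedSpace S < ⊤ := by
    rw [lt_top_iff_ne_top]
    intro e
    have hall : ∀ u : U, u ∈ fixedSpace S := fun u => by rw [e]; trivial
    by_cases haS : a₀ ∈ S
    · exact hns (Or.inl (LinearEquiv.ext fun u => hall u a₀ haS))
    · exact hns (Or.inr fun u => hneg a₀ ha₀ haS u (hall u))
  set U' := (fixedSpace S).map U.subtype with hU'
  have hfr : Module.finrank (ZMod p) U' < Module.finrank (ZMod p) U := by
    rw [hU', Submodule.finrank_map_subtype_eq]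
    exact Submodule.finrank_lt hlt.ne
  refine absurd (hmin U' ⟨?_, ?_, fun g hg => ?_⟩) (not_le.2 hfr)
  · obtain ⟨η, hη, hη0⟩ := M.ne
    intro e
    have : η.1 ∈ U' := ⟨η, hη, rfl⟩
    rw [e, Submodule.mem_bot] at this
    exact hη0 (Subtype.ext this)
  · rintro _ ⟨w, hw, rfl⟩ h0
    rw [hcov.nd_fixedSpace (M.le.trans hN) hw fun y hy => h0 y.1 ⟨y, hy, rfl⟩, map_zero]
  · rcases hU.sep g hg with hgU | ho
    swap
    · exact Or.inr (by rintro _ ⟨u, -, rfl⟩ _ ⟨u', -, rfl⟩; exact ho u.1 u.2 u'.1 u'.2)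
    obtain ⟨g', hg', eg⟩ := exists_imageOn hg hgU
    by_cases hc : ∀ a ∈ S, g'⁻¹ * a * g' ∈ S
    · refine Or.inl (preserver_of_maps ?_)
      rintro _ ⟨u, hu, rfl⟩
      exact ⟨g' u, ((fixedSpace_preserver hc) u).2 hu, eg u⟩
    · push Not at hc
      obtain ⟨a, ha, hb⟩ := hc
      have hbN : g'⁻¹ * a * g' ∈ N := by
        simpa using hnor g'⁻¹ ((imageOn U Γ).inv_mem hg') a (M.le ha)
      refine Or.inr ?_
      rintro _ ⟨u, hu, rfl⟩ _ ⟨u', hu', rfl⟩
      have h1 : a (g' u') = -g' u' := by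
        have := congrArg (fun z => g' z) (hneg _ hbN hb u' hu')
        simp only [LinearEquiv.mul_apply, apply_inv', map_neg] at this
        exact this
      have h2 := hcov.inv a (hN (M.le ha)) u (g' u')
      rw [h1, hu a ha, restrictForm_apply, restrictForm_apply, Submodule.coe_neg, map_neg, eg] at h2
      exact (mul_eq_zero.1 (show (2 : ZMod p) * B u.1 (g u'.1) = 0 by linear_combination -h2)).resolve_left
        h.two_ne

/-- a plane block with a quaternion group -/
theorem exists_plane_block (h7 : 7 ≤ p) :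
    p = 7 ∧ ∃ U i j, IsBlock B Γ U ∧ PlaneQ (restrictForm B U) (imageOn U Γ) i j := by
  classical
  have hex : ∃ n, ∃ U, IsBlock B Γ U ∧ Module.finrank (ZMod p) U = n := ⟨_, ⊤, h.block_top, rfl⟩
  obtain ⟨U, hU, hn⟩ := Nat.find_spec hex
  haveI : Nontrivial U := Submodule.nontrivial_iff_ne_bot.2 hU.ne
  obtain ⟨hp7, i, j, P⟩ := (h.block_cover hU).exists_planeQ
    (h.block_scalarAbelian (by omega) hU fun U' hU' => by rw [hn]; exact Nat.find_min' hex ⟨U', hU', rfl⟩) h7
  exact ⟨hp7, U, i, j, hU, P⟩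

end Cover

end Cfsg.Agent.DistinctSizes
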