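import Cfsg.Agent.Lib.Block.DistinctSizes.Basic

/-!
# The class equation in terms of centraliser orders, and sums over smooth numbers
-/

set_option autoImplicit false

set_option linter.unusedSectionVars false

namespace Cfsg.Agent.DistinctSizes

open Subgroup

universe u

variable {G : Type u} [Group G] [Finite G]

open Classical in
/-- the set of centraliser orders -/
noncomputable def centOrders (G : Type u) [Group G] [Finite G] : Finset ℕ :=
  haveI := Fintype.ofFinite G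
  (Finset.univ : Finset G).image fun g => Nat.card (centralizer ({g} : Set G))

theorem mem_centOrders {c : ℕ} :
    c ∈ centOrders G ↔ ∃ g : G, Nat.card (centralizer ({g} : Set G)) = c := by
  simp [centOrders]

theorem dvd_of_mem_centOrders {c : ℕ} (h : c ∈ centOrders G) : c ∣ Nat.card G := by
  obtain ⟨g, rfl⟩ := mem_centOrders.1 h
  exact Subgroup.card_subgroup_dvd_card _

theorem pos_of_mem_centOrders {c : ℕ} (h : c ∈ centOrders G) : 0 < c :=
  Nat.pos_of_dvd_of_pos (dvd_of_mem_centOrders h) Nat.card_pos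

/-- the class equation -/
theorem sum_inv_centOrders (hD : Distinct G) : ∑ c ∈ centOrders G, (1 : ℚ) / c = 1 := by
  classical
  haveI := Fintype.ofFinite G
  set cf : G → ℕ := fun g => Nat.card (centralizer ({g} : Set G))
  have hfib : ∀ x : G, (Finset.univ.filter fun g => cf g = cf x).card * cf x = Nat.card G := by
    intro x
    have h1 := MulAction.index_stabilizer (ConjAct G) x
    rw [ConjAct.stabilizer_eq_centralizer, ConjAct.orbit_eq_carrier_conjClasses] at h1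
    have h2 : (Finset.univ.filter fun g => cf g = cf x).card = (ConjClasses.mk x).carrier.ncard := by
      rw [← Set.ncard_coe_finset]
      congr 1
      ext g
      simp only [Finset.coe_filter, Finset.mem_univ, true_and, Set.mem_setOf_eq, ConjClasses.mem_carrier_iff_mk_eq,
        ConjClasses.mk_eq_mk_iff_isConj]
      refine ⟨fun e => (isConj_iff.2 (hD x g e.symm)).symm, fun e => ?_⟩
      obtain ⟨c, rfl⟩ := isConj_iff.1 e.symm
      exact card_cent_conj c x
    rw [h2, ← (centralizer ({x} : Set G)).index_mul_card]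
    congr 1
    exact h1.symm
  have hsum : ∀ c ∈ centOrders G, (1 : ℚ) / c = (Finset.univ.filter fun g => cf g = c).card / Nat.card G := by
    intro c hc
    have hpos := pos_of_mem_centOrders hc
    obtain ⟨x, rfl⟩ := mem_centOrders.1 hc
    rw [div_eq_div_iff (by exact_mod_cast hpos.ne') (by exact_mod_cast Nat.card_pos.ne'), one_mul]
    exact_mod_cast (hfib x).symm
  rw [Finset.sum_congr rfl hsum, ← Finset.sum_div, div_eq_one_iff_eq (by exact_mod_cast Nat.card_pos.ne')]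
  norm_cast
  rw [← Finset.card_eq_sum_card_fiberwise (fun g _ => mem_centOrders.2 ⟨g, rfl⟩), Finset.card_univ,
    Nat.card_eq_fintype_card]

/-- the reciprocal of the number with exponents `t` -/
def wgt (t : ℕ × ℕ × ℕ) : ℚ := (1 / 2) ^ t.1 * ((1 / 3) ^ t.2.1 * (1 / 5) ^ t.2.2)

theorem wgt_eq (t : ℕ × ℕ × ℕ) : wgt t = 1 / ((2 ^ t.1 * 3 ^ t.2.1 * 5 ^ t.2.2 : ℕ) : ℚ) := by
  push_cast
  simp only [wgt, div_pow, one_pow]
  field_simp

theorem wgt_nonneg (t : ℕ × ℕ × ℕ) : 0 ≤ wgt t := by unfold wgt; positivity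

/-- a geometric tail -/
theorem geom_tail (q : ℚ) (h0 : 0 ≤ q) (h1 : q < 1) (B : Finset ℕ) (b₀ : ℕ) (hB : ∀ b ∈ B, b₀ ≤ b) :
    ∑ b ∈ B, q ^ b ≤ q ^ b₀ / (1 - q) := by
  obtain ⟨M, hM⟩ : ∃ M, B ⊆ Finset.Ico b₀ (b₀ + M) := by
    refine ⟨B.sup id + 1, fun b hb => Finset.mem_Ico.2 ⟨hB b hb, ?_⟩⟩
    have := Finset.le_sup (f := id) hb
    simp only [id_eq] at this
    omega
  refine (Finset.sum_le_sum_of_subset_of_nonneg hM fun i _ _ => by positivity).trans ?_
  have h : ∀ M, (∑ b ∈ Finset.Ico b₀ (b₀ + M), q ^ b) * (1 - q) = q ^ b₀ - q ^ (b₀ + M) := by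
    intro M
    induction M with
    | zero => simp
    | succ M ih => rw [← add_assoc, Finset.sum_Ico_succ_top (by omega), add_mul, ih]; ring
  rw [le_div_iff₀ (by linarith), h]
  have : (0 : ℚ) ≤ q ^ (b₀ + M) := by positivity
  linarith

/-- the sum over part of a box -/
theorem wgt_box (T : Finset (ℕ × ℕ × ℕ)) {α β γ : ℚ} (A B J : Finset ℕ)
    (hA : ∑ a ∈ A, (1 / 2 : ℚ) ^ a ≤ α) (hB : ∑ b ∈ B, (1 / 3 : ℚ) ^ b ≤ β)
    (hJ : ∑ j ∈ J, (1 / 5 : ℚ) ^ j ≤ γ) (hT : ∀ t ∈ T, t.1 ∈ A ∧ t.2.1 ∈ B ∧ t.2.2 ∈ J) :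
    ∑ t ∈ T, wgt t ≤ α * (β * γ) := by
  refine (Finset.sum_le_sum_of_subset_of_nonneg (t := A ×ˢ (B ×ˢ J)) (fun t ht => ?_)
    fun t _ _ => wgt_nonneg t).trans ?_
  · simp only [Finset.mem_product]
    exact hT t ht
  · simp only [wgt, Finset.sum_product, ← Finset.mul_sum, ← Finset.sum_mul]
    refine mul_le_mul hA (mul_le_mul hB hJ (Finset.sum_nonneg fun _ _ => by positivity)
      ((Finset.sum_nonneg fun _ _ => by positivity).trans hB)) ?_
      ((Finset.sum_nonneg fun _ _ => by positivity).trans hA)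
    exact mul_nonneg (Finset.sum_nonneg fun _ _ => by positivity) (Finset.sum_nonneg fun _ _ => by positivity)

/-- the sum over the allowed exponents, some small ones with no factor five left out -/
theorem wgt_allowed (T E : Finset (ℕ × ℕ × ℕ)) (A : Finset ℕ) {α : ℚ}
    (hA : ∑ a ∈ A, (1 / 2 : ℚ) ^ a ≤ α) (hmem : ∀ t ∈ T ∪ E, t.1 ∈ A) (hE : ∀ e ∈ E, e.2.2 = 0)
    (hdisj : Disjoint T E) (hT : ∀ t ∈ T, t.2.2 ≠ 1 ∧ (t.2.2 = 2 → 1 ≤ t.2.1)) :
    ∑ t ∈ T, wgt t + ∑ e ∈ E, wgt e ≤ α * (307 / 200) := by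
  classical
  rw [← Finset.sum_union hdisj]
  set U := T ∪ E
  have hU : ∀ t ∈ U, t.2.2 ≠ 1 ∧ (t.2.2 = 2 → 1 ≤ t.2.1) := by
    intro t ht
    rcases Finset.mem_union.1 ht with h | h
    · exact hT t h
    · rw [hE t h]; simp
  rw [← Finset.sum_filter_add_sum_filter_not U (fun t => t.2.2 = 0),
    ← Finset.sum_filter_add_sum_filter_not (U.filter fun t => ¬ t.2.2 = 0) (fun t => t.2.2 = 2)]
  have g3 : ∀ b₀ (B : Finset ℕ), (∀ b ∈ B, b₀ ≤ b) → ∑ b ∈ B, (1 / 3 : ℚ) ^ b ≤ (1 / 3) ^ b₀ / (1 - 1 / 3) :=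
    fun b₀ B => geom_tail _ (by norm_num) (by norm_num) B b₀
  have h0 : ∑ t ∈ U.filter (fun t => t.2.2 = 0), wgt t ≤ α * (3 / 2 * 1) := by
    refine wgt_box _ A ((U.filter fun t => t.2.2 = 0).image fun t => t.2.1) {0} hA
      ((g3 0 _ fun b _ => Nat.zero_le b).trans (by norm_num)) (by simp) fun t ht => ?_
    exact ⟨hmem t (Finset.mem_filter.1 ht).1, Finset.mem_image_of_mem _ ht,
      Finset.mem_singleton.2 (Finset.mem_filter.1 ht).2⟩
  set V := U.filter fun t => ¬ t.2.2 = 0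
  have h2 : ∑ t ∈ V.filter (fun t => t.2.2 = 2), wgt t ≤ α * (1 / 2 * (1 / 25)) := by
    refine wgt_box _ A ((V.filter fun t => t.2.2 = 2).image fun t => t.2.1) {2} hA
      ((g3 1 _ ?_).trans (by norm_num)) (by norm_num) fun t ht => ?_
    · intro b hb
      obtain ⟨t, ht, rfl⟩ := Finset.mem_image.1 hb
      exact (hU t (Finset.mem_filter.1 (Finset.mem_filter.1 ht).1).1).2 (Finset.mem_filter.1 ht).2
    · exact ⟨hmem t (Finset.mem_filter.1 (Finset.mem_filter.1 ht).1).1, Finset.mem_image_of_mem _ ht,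
        Finset.mem_singleton.2 (Finset.mem_filter.1 ht).2⟩
  have h3 : ∑ t ∈ V.filter (fun t => ¬ t.2.2 = 2), wgt t ≤ α * (3 / 2 * (1 / 100)) := by
    refine wgt_box _ A ((V.filter fun t => ¬ t.2.2 = 2).image fun t => t.2.1)
      ((V.filter fun t => ¬ t.2.2 = 2).image fun t => t.2.2) hA
      ((g3 0 _ fun b _ => Nat.zero_le b).trans (by norm_num))
      ((geom_tail (1 / 5) (by norm_num) (by norm_num) _ 3 ?_).trans (by norm_num)) fun t ht => ?_
    · intro b hb
      obtain ⟨t, ht, rfl⟩ := Finset.mem_image.1 hb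
      obtain ⟨hV, hn2⟩ := Finset.mem_filter.1 ht
      obtain ⟨hU', hn0⟩ := Finset.mem_filter.1 hV
      have := (hU t hU').1
      omega
    · exact ⟨hmem t (Finset.mem_filter.1 (Finset.mem_filter.1 ht).1).1, Finset.mem_image_of_mem _ ht,
        Finset.mem_image_of_mem _ ht⟩
  linarith

/-- numbers with no prime factor beyond five -/
theorem exists_exponents {c : ℕ} (hc : c ≠ 0) (h : ∀ p, p.Prime → p ∣ c → p ≤ 5) :
    ∃ a b j, c = 2 ^ a * 3 ^ b * 5 ^ j := by
  induction c using Nat.strong_induction_on with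
  | _ c ih =>
  rcases eq_or_ne c 1 with rfl | h1
  · exact ⟨0, 0, 0, rfl⟩
  obtain ⟨p, hp, d, rfl⟩ := Nat.exists_prime_and_dvd h1
  have hd0 : d ≠ 0 := fun e => hc (by rw [e, mul_zero])
  obtain ⟨a, b, j, rfl⟩ := ih d (lt_mul_of_one_lt_left (Nat.pos_of_ne_zero hd0) hp.one_lt) hd0
    fun q hq hqd => h q hq (hqd.trans (dvd_mul_left _ _))
  have h5 := h p hp (dvd_mul_right _ _)
  have h2 := hp.two_le
  interval_cases p
  · exact ⟨a + 1, b, j, by ring⟩
  · exact ⟨a, b + 1, j, by ring⟩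
  · exact absurd hp (by norm_num)
  · exact ⟨a, b, j + 1, by ring⟩

theorem exists_exponent_fun {S : Finset ℕ} (hS : ∀ c ∈ S, c ≠ 0 ∧ ∀ p, p.Prime → p ∣ c → p ≤ 5) :
    ∃ T : Finset (ℕ × ℕ × ℕ), (∀ t ∈ T, 2 ^ t.1 * 3 ^ t.2.1 * 5 ^ t.2.2 ∈ S) ∧
      ∑ c ∈ S, (1 : ℚ) / c = ∑ t ∈ T, wgt t := by
  classical
  have := fun c (hc : c ∈ S) => exists_exponents (hS c hc).1 (hS c hc).2
  choose a b j e using this
  refine ⟨S.attach.image fun c => (a c.1 c.2, b c.1 c.2, j c.1 c.2), ?_, ?_⟩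
  · intro t ht
    obtain ⟨c, -, rfl⟩ := Finset.mem_image.1 ht
    dsimp only
    rw [← e c.1 c.2]
    exact c.2
  · rw [← Finset.sum_attach S, Finset.sum_image]
    · refine Finset.sum_congr rfl fun c _ => ?_
      rw [wgt_eq]
      dsimp only
      rw [← e c.1 c.2]
    · intro c _ c' _ hcc
      simp only [Prod.mk.injEq] at hcc
      exact Subtype.ext (by rw [e c.1 c.2, e c'.1 c'.2, hcc.1, hcc.2.1, hcc.2.2])

end Cfsg.Agent.DistinctSizes
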