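import Cfsg.Agent.Lib.Block.DistinctSizes.Restrict
import Cfsg.Agent.Lib.Grp.Solvable
import Cfsg.Agent.Lib.Grp.Frattini

/-!
# The Fitting subgroup of a covering group without nonscalar abelian normal subgroups

It is a normal `2`-subgroup with central signs in which squares and commutators are signs.
-/

set_option autoImplicit false

set_option linter.unusedSectionVars false

namespace Cfsg.Agent.DistinctSizes

universe u

variable {p : ℕ} [hp : Fact p.Prime] {W : Type u} [AddCommGroup W] [Module (ZMod p) W]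

/-- `x` is a sign -/
def IsSign (x : W ≃ₗ[ZMod p] W) : Prop := x = 1 ∨ ∀ w, x w = -w

/-- `x` and `y` commute or anticommute -/
def CommSign (x y : W ≃ₗ[ZMod p] W) : Prop :=
  (∀ w, x (y w) = y (x w)) ∨ ∀ w, x (y w) = -y (x w)

/-- every normal abelian subgroup consists of signs -/
def ScalarAbelian (Γ : Subgroup (W ≃ₗ[ZMod p] W)) : Prop :=
  ∀ A : Subgroup (W ≃ₗ[ZMod p] W), A ≤ Γ → (∀ g ∈ Γ, ∀ a ∈ A, g * a * g⁻¹ ∈ A) →
    (∀ a ∈ A, ∀ b ∈ A, a * b = b * a) → ∀ a ∈ A, IsSign a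

/-- the structure of the Fitting subgroup -/
structure ExQ (Γ Q : Subgroup (W ≃ₗ[ZMod p] W)) : Prop where
  le : Q ≤ Γ
  nor : ∀ g ∈ Γ, ∀ x ∈ Q, g * x * g⁻¹ ∈ Q
  neg_mem : ∃ z ∈ Q, ∀ w, z w = -w
  sq : ∀ x ∈ Q, IsSign (x * x)
  comm : ∀ x ∈ Q, ∀ y ∈ Q, CommSign x y
  cent : ∀ g ∈ Γ, (∀ x ∈ Q, g * x = x * g) → IsSign g
  two : IsPGroup 2 Q

theorem IsSign.commute {x : W ≃ₗ[ZMod p] W} (hx : IsSign x) (y : W ≃ₗ[ZMod p] W) : x * y = y * x := by
  rcases hx with rfl | e
  · rw [one_mul, mul_one]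
  · exact LinearEquiv.ext fun w => by rw [LinearEquiv.mul_apply, LinearEquiv.mul_apply, e, e, map_neg]

theorem IsSign.sq {x : W ≃ₗ[ZMod p] W} (hx : IsSign x) : x * x = 1 := by
  rcases hx with rfl | e
  · rw [one_mul]
  · exact LinearEquiv.ext fun w => by rw [LinearEquiv.mul_apply, e, e, neg_neg]; rfl

theorem commSign_of_commutator {x y : W ≃ₗ[ZMod p] W} (h : IsSign (x * y * x⁻¹ * y⁻¹)) : CommSign x y := by
  have e : ∀ w, x (y w) = (x * y * x⁻¹ * y⁻¹) (y (x w)) := fun w => by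
    rw [← LinearEquiv.mul_apply, ← LinearEquiv.mul_apply y, ← LinearEquiv.mul_apply,
      show x * y * x⁻¹ * y⁻¹ * (y * x) = x * y by group]
  rcases h with h1 | h1
  · exact Or.inl fun w => by rw [e, h1]; rfl
  · exact Or.inr fun w => by rw [e, h1]

/-- in a nilpotent group whose characteristic abelian subgroups are central, commutators are central -/
theorem commutator_le_center {F : Type*} [Group F] [Group.IsNilpotent F]
    (hS : ∀ S : Subgroup F, S.Characteristic → (∀ a ∈ S, ∀ b ∈ S, a * b = b * a) → S ≤ Subgroup.center F) :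
    commutator F ≤ Subgroup.center F := by
  by_contra hne
  set C := commutator F
  set Z := Subgroup.center F
  haveI : Z.Characteristic := Subgroup.centerCharacteristic
  set T := Subgroup.upperCentralSeriesStep Z
  haveI : Z.Characteristic := Subgroup.centerCharacteristic
  have hT : ⁅T, (⊤ : Subgroup F)⁆ ≤ Z := Subgroup.commutator_le.2 fun a ha b _ => ha b
  have hZt : ⁅Z, (⊤ : Subgroup F)⁆ = ⊥ := by
    rw [Subgroup.commutator_eq_bot_iff_le_centralizer, Subgroup.coe_top, Subgroup.centralizer_univ]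
  have h2 : ⁅⁅T, (⊤ : Subgroup F)⁆, (⊤ : Subgroup F)⁆ = ⊥ :=
    le_bot_iff.1 ((Subgroup.commutator_mono hT le_rfl).trans hZt.le)
  have h1 : ⁅⁅(⊤ : Subgroup F), T⁆, (⊤ : Subgroup F)⁆ = ⊥ := by rw [Subgroup.commutator_comm ⊤ T]; exact h2
  have h3 : ⁅C, T⁆ = ⊥ := Subgroup.commutator_commutator_eq_bot_of_rotate h1 h2
  haveI : T.Characteristic := inferInstance
  haveI hCc : C.Characteristic := inferInstance
  haveI : (C ⊓ T).Characteristic := Subgroup.characteristic_iff_comap_eq.2 fun φ => by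
    rw [Subgroup.comap_inf, Subgroup.characteristic_iff_comap_eq.1 hCc φ,
      Subgroup.characteristic_iff_comap_eq.1 (inferInstance : T.Characteristic) φ]
  have hCT : C ⊓ T ≤ Z := hS (C ⊓ T) inferInstance fun a ha b hb =>
    (Subgroup.mem_centralizer_iff.1 ((Subgroup.commutator_eq_bot_iff_le_centralizer.1 h3) ha.1) b hb.2).symm
  haveI : Group.IsNilpotent (F ⧸ Z) := inferInstance
  set E := C.map (QuotientGroup.mk' Z)
  haveI : E.Normal := (inferInstance : C.Normal).map _ (QuotientGroup.mk'_surjective Z)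
  have hEne : E ≠ ⊥ := fun e => hne (by
    rw [Subgroup.map_eq_bot_iff, QuotientGroup.ker_mk'] at e; exact e)
  obtain ⟨⟨x, hxE, hxc⟩, hx1⟩ : ∃ x : ↥(E ⊓ Subgroup.center (F ⧸ Z)), x ≠ 1 := by
    haveI := (Subgroup.nontrivial_iff_ne_bot _).2 (Grp.inf_center_ne_bot E hEne)
    exact exists_ne 1
  obtain ⟨c, hcC, rfl⟩ := hxE
  refine hx1 (Subtype.ext ?_)
  refine (QuotientGroup.eq_one_iff c).2 (hCT ⟨hcC, fun y => ?_⟩)
  rw [← QuotientGroup.eq_one_iff, ← QuotientGroup.mk'_apply, map_commutatorElement,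
    commutatorElement_eq_one_iff_mul_comm]
  exact (Subgroup.mem_center_iff.1 hxc _).symm

namespace Cover

variable [Finite W] [Nontrivial W] {B : LinearMap.BilinForm (ZMod p) W} {Γ : Subgroup (W ≃ₗ[ZMod p] W)}
  (h : Cover B Γ)
include h

theorem exists_not_sign : ∃ g ∈ Γ, ¬ IsSign g := by
  obtain ⟨v, hv⟩ := exists_ne (0 : W)
  have h2 := h.natCast_ne_zero (n := 2) (by norm_num) (by norm_num)
  obtain ⟨g, hg, hgv⟩ := h.cover v 2 (by simpa using h2)
  refine ⟨g, hg, fun hs => ?_⟩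
  rcases hs with rfl | e
  · have : (1 : ZMod p) = 2 := smul_left_injective _ hv (by
      show (1 : ZMod p) • v = (2 : ZMod p) • v
      rw [one_smul, ← hgv]; rfl)
    exact one_ne_zero (show (1 : ZMod p) = 0 by linear_combination -this)
  · have : (-1 : ZMod p) = 2 := smul_left_injective _ hv (by
      show (-1 : ZMod p) • v = (2 : ZMod p) • v
      rw [neg_one_smul, ← hgv, e])
    exact h.natCast_ne_zero (n := 3) (by norm_num) (by norm_num)
      (show ((3 : ℕ) : ZMod p) = 0 by push_cast; linear_combination -this)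

/-- existence of `Q` -/
theorem exists_exQ (hS : ScalarAbelian Γ) : ∃ Q, ExQ Γ Q := by
  haveI := h.solv
  -- normal abelian subgroups of `↥Γ` consist of signs
  have hsgn : ∀ S : Subgroup Γ, S.Normal → (∀ a ∈ S, ∀ b ∈ S, a * b = b * a) → ∀ a ∈ S, IsSign a.1 := by
    intro S hn hab a ha
    refine hS (S.map Γ.subtype) (Subgroup.map_subtype_le S) ?_ ?_ a.1 ⟨a, ha, rfl⟩
    · rintro g hg _ ⟨b, hb, rfl⟩
      exact ⟨⟨g, hg⟩ * b * ⟨g, hg⟩⁻¹, hn.conj_mem b hb _, rfl⟩
    · rintro _ ⟨a, ha, rfl⟩ _ ⟨b, hb, rfl⟩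
      exact congrArg Subtype.val (hab a ha b hb)
  have hsq : ∀ a : Γ, IsSign a.1 → a * a = 1 := fun a ha => Subtype.ext ha.sq
  obtain ⟨F, hFn, hC, hFp⟩ : ∃ F : Subgroup Γ, F.Normal ∧
      Subgroup.centralizer (F : Set Γ) ≤ F ∧ IsPGroup 2 F := by
    set F := Cfsg.fittingSubgroup Γ
    have hF2 : F = Cfsg.pCore 2 Γ := by
      refine le_antisymm ?_ Grp.pCore_le_fittingSubgroup
      rw [show F = _ from Grp.fittingSubgroup_eq_iSup_pCore]
      refine iSup_le fun q => ?_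
      by_cases hq : (q : ℕ) = 2
      · rw [hq]
      haveI := Fact.mk q.2
      haveI hn := Grp.pCore_isNormal (p := (q : ℕ)) (G := Γ)
      have hpg := Grp.pCore_isPGroup (p := (q : ℕ)) (G := Γ)
      suffices hbot : Cfsg.pCore (q : ℕ) Γ = ⊥ by rw [hbot]; exact bot_le
      by_contra hne
      haveI : Nontrivial (Cfsg.pCore (q : ℕ) Γ) := (Subgroup.nontrivial_iff_ne_bot _).2 hne
      haveI := hpg.center_nontrivial
      obtain ⟨z, hz⟩ := exists_ne (1 : Subgroup.center (Cfsg.pCore (q : ℕ) Γ))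
      set S := (Subgroup.center (Cfsg.pCore (q : ℕ) Γ)).map (Cfsg.pCore (q : ℕ) Γ).subtype
      have hSn : S.Normal := inferInstance
      have hzs := hsgn S hSn (by
        rintro _ ⟨a, ha, rfl⟩ _ ⟨b, hb, rfl⟩
        exact congrArg Subtype.val (Subgroup.mem_center_iff.1 hb a)) z.1.1 ⟨z.1, z.2, rfl⟩
      have ho : orderOf z.1.1 ∣ 2 := orderOf_dvd_of_pow_eq_one (by rw [pow_two]; exact hsq _ hzs)
      obtain ⟨k, hk⟩ := hpg z.1
      have ho' : orderOf z.1.1 ∣ (q : ℕ) ^ k := orderOf_dvd_of_pow_eq_one (by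
        rw [← SubmonoidClass.coe_pow, hk]; rfl)
      have := Nat.eq_one_of_dvd_coprimes (((Nat.coprime_primes q.2 Nat.prime_two).2 hq).pow_left k) ho' ho
      exact hz (Subtype.ext (Subtype.ext (orderOf_eq_one_iff.1 this)))
    refine ⟨Cfsg.pCore 2 Γ, Grp.pCore_isNormal, ?_, Grp.pCore_isPGroup⟩
    rw [← hF2]
    exact Grp.centralizer_fittingSubgroup_le (G := Γ)
  haveI := hFn
  haveI : Fact (Nat.Prime 2) := ⟨Nat.prime_two⟩
  haveI : Group.IsNilpotent F := hFp.isNilpotent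
  set ι := Γ.subtype.comp F.subtype
  have hι : Function.Injective ι := fun a b e => Subtype.ext (Subtype.ext e)
  have hsgnF : ∀ S : Subgroup F, S.Characteristic → (∀ a ∈ S, ∀ b ∈ S, a * b = b * a) → ∀ a ∈ S,
      IsSign (ι a) := by
    intro S hc hab a ha
    refine hsgn (S.map F.subtype) inferInstance ?_ a.1 ⟨a, ha, rfl⟩
    rintro _ ⟨a, ha, rfl⟩ _ ⟨b, hb, rfl⟩
    exact congrArg Subtype.val (hab a ha b hb)
  set Z := Subgroup.center F
  have hZ : ∀ a ∈ Z, IsSign (ι a) :=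
    hsgnF Z inferInstance fun a _ b hb => Subgroup.mem_center_iff.1 hb a
  have hZc : ∀ a : F, IsSign (ι a) → a ∈ Z := fun a ha =>
    Subgroup.mem_center_iff.2 fun b => hι (by rw [map_mul, map_mul]; exact (ha.commute _).symm)
  -- commutators are central
  set C := commutator F
  have hcl : C ≤ Z := commutator_le_center fun S hc hab x hx => hZc x (hsgnF S hc hab x hx)
  refine ⟨F.map Γ.subtype, ⟨Subgroup.map_subtype_le F, ?_, ?_, ?_, ?_, ?_, ?_⟩⟩
  · rintro g hg _ ⟨b, hb, rfl⟩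
    have hm := hFn.conj_mem b hb (⟨g, hg⟩ : Γ)
    exact Subgroup.mem_map.2 ⟨_, hm, by rw [map_mul, map_mul, map_inv]; rfl⟩
  · haveI : Nontrivial F := by
      rw [Subgroup.nontrivial_iff_ne_bot]
      intro hb
      obtain ⟨g, hg, hns⟩ := h.exists_not_sign
      have : (⟨g, hg⟩ : Γ) ∈ F := hC (by rw [hb, Subgroup.coe_bot]; simp [Subgroup.mem_centralizer_iff])
      rw [hb, Subgroup.mem_bot] at this
      exact hns (Or.inl (congrArg Subtype.val this))
    haveI := hFp.center_nontrivial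
    obtain ⟨z, hz⟩ := exists_ne (1 : Subgroup.center F)
    exact ⟨ι z.1, ⟨z.1.1, z.1.2, rfl⟩,
      (hZ z.1 z.2).resolve_left fun e => hz (Subtype.ext (hι (e.trans (map_one ι).symm)))⟩
  · rintro _ ⟨b, hb, rfl⟩
    have hcen : (⟨b, hb⟩ : F) * ⟨b, hb⟩ ∈ Z := by
      refine Subgroup.mem_center_iff.2 fun c => ?_
      have h1 : IsSign (ι ((⟨b, hb⟩ : F) * c * (⟨b, hb⟩ : F)⁻¹ * c⁻¹)) :=
        hZ _ (hcl (Subgroup.commutator_mem_commutator (Subgroup.mem_top _) (Subgroup.mem_top _)))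
      rw [map_mul, map_mul, map_mul, map_inv, map_inv] at h1
      refine hι ?_
      refine LinearEquiv.ext fun w => ?_
      simp only [map_mul, LinearEquiv.mul_apply]
      rcases commSign_of_commutator h1 with e | e
      · rw [e, e]
      · rw [e, map_neg, e, neg_neg]
    exact hZ _ hcen
  · rintro _ ⟨a, ha, rfl⟩ _ ⟨b, hb, rfl⟩
    refine commSign_of_commutator ?_
    exact hZ _ (hcl (Subgroup.commutator_mem_commutator (Subgroup.mem_top (⟨a, ha⟩ : F))
      (Subgroup.mem_top (⟨b, hb⟩ : F))))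
  · intro g hg hc
    have hgF : (⟨g, hg⟩ : Γ) ∈ F := hC (Subgroup.mem_centralizer_iff.2 fun x hx =>
      Subtype.ext (hc x.1 ⟨x, hx, rfl⟩).symm)
    exact hZ ⟨_, hgF⟩ (Subgroup.mem_center_iff.2 fun x => hι (hc x.1.1 ⟨x.1, x.2, rfl⟩).symm)
  · exact hFp.map Γ.subtype

end Cover

end Cfsg.Agent.DistinctSizes
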