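import Cfsg.Agent.Lib.Block.DistinctSizes.PlaneOrder

/-!
# Five anticommuting involutions, and solvable groups of degree five
-/

set_option autoImplicit false

set_option linter.unusedSectionVars false

namespace Cfsg.Agent.DistinctSizes

universe u

theorem perm_five_fixed : ∀ σ : Equiv.Perm (Fin 5), σ ^ 3 = 1 → σ ≠ 1 →
    ∃ a b, a ≠ b ∧ σ a = a ∧ σ b = b := by decide +kernel

theorem perm_five_cube {σ : Equiv.Perm (Fin 5)} {k : ℕ} (h : σ ^ 3 ^ k = 1) : σ ^ 3 = 1 := by
  have h1 := orderOf_dvd_of_pow_eq_one h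
  obtain ⟨i, -, hi⟩ := (Nat.dvd_prime_pow Nat.prime_three).1 h1
  have h2 : orderOf σ ∣ 120 := by
    have := orderOf_dvd_natCard σ
    rwa [Nat.card_perm, Nat.card_fin, show Nat.factorial 5 = 120 from rfl] at this
  rw [hi] at h2
  have : i ≤ 1 := by
    by_contra hlt
    exact absurd ((pow_dvd_pow 3 (show 2 ≤ i by omega)).trans h2) (by norm_num)
  exact orderOf_dvd_iff_pow_eq_one.1 (hi ▸ (pow_dvd_pow 3 this).trans (by norm_num))

theorem not_solvable_alternating_five : ¬ Group.IsSolvable (alternatingGroup (Fin 5)) := fun hs => by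
  haveI := hs
  refine Equiv.Perm.fin_5_not_solvable
    (Group.isSolvable_of_ker_le_range (alternatingGroup (Fin 5)).subtype Equiv.Perm.sign ?_)
  rw [Subgroup.range_subtype]
  exact le_refl _

/-- a solvable group of degree five has order at most 24 -/
theorem card_solvable_five (K : Subgroup (Equiv.Perm (Fin 5))) (hK : Group.IsSolvable K) :
    Nat.card K ≤ 24 := by
  by_contra hlt
  have hcard : Nat.card (Equiv.Perm (Fin 5)) = 120 := by
    rw [Nat.card_perm, Nat.card_fin]; rfl
  have hidx : K.index ≤ 4 := by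
    have := K.index_mul_card
    rw [hcard] at this
    by_contra h5
    have h6 : 5 * 25 ≤ K.index * Nat.card K := Nat.mul_le_mul (by omega) (by omega)
    omega
  set N := K.normalCore
  have hcore : N.index ∣ K.index.factorial := by
    rw [show N = (MulAction.toPermHom (Equiv.Perm (Fin 5)) (Equiv.Perm (Fin 5) ⧸ K)).ker from
      Subgroup.normalCore_eq_ker K, Subgroup.index_ker]
    refine (Subgroup.card_subgroup_dvd_card _).trans ?_
    rw [Nat.card_perm, ← Subgroup.index_eq_card]
  have h24 : N.index ≤ 24 :=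
    (Nat.le_of_dvd (Nat.factorial_pos _) hcore).trans (Nat.factorial_le hidx)
  have h5 : 5 ≤ Nat.card N := by
    have := N.index_mul_card
    rw [hcard] at this
    by_contra h5
    have h6 : N.index * Nat.card N ≤ 24 * 4 := Nat.mul_le_mul h24 (by omega)
    omega
  haveI : IsSimpleGroup (alternatingGroup (Fin 5)) := alternatingGroup.isSimpleGroup_five
  rcases (inferInstance : (N.subgroupOf (alternatingGroup (Fin 5))).Normal).eq_bot_or_eq_top with e | e
  · rw [Subgroup.subgroupOf_eq_bot, disjoint_iff] at e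
    have hinj : Function.Injective (Equiv.Perm.sign.comp N.subtype) := by
      rw [← MonoidHom.ker_eq_bot_iff, Subgroup.eq_bot_iff_forall]
      intro x hx
      refine Subtype.ext ?_
      have : x.1 ∈ N ⊓ alternatingGroup (Fin 5) := ⟨x.2, Equiv.Perm.mem_alternatingGroup.2 hx⟩
      rwa [e, Subgroup.mem_bot] at this
    have := Nat.card_le_card_of_injective _ hinj
    rw [show Nat.card ℤˣ = 2 by rw [Nat.card_eq_fintype_card]; rfl] at this
    omega
  · rw [Subgroup.subgroupOf_eq_top] at e
    haveI := hK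
    exact not_solvable_alternating_five (Group.isSolvable_of_isSolvable_injective
      (f := Subgroup.inclusion (e.trans K.normalCore_le)) (Subgroup.inclusion_injective _))

/-- at most eight elements of order three in a solvable group of degree five -/
theorem card_cubes_five (K : Subgroup (Equiv.Perm (Fin 5))) (hK : Group.IsSolvable K)
    [DecidablePred (fun σ => σ ∈ K ∧ σ ^ 3 = 1 ∧ σ ≠ 1)] :
    (Finset.univ.filter fun σ => σ ∈ K ∧ σ ^ 3 = 1 ∧ σ ≠ 1).card ≤ 8 := by
  classical
  haveI : Fact (Nat.Prime 3) := ⟨Nat.prime_three⟩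
  set S := Finset.univ.filter fun σ => σ ∈ K ∧ σ ^ 3 = 1 ∧ σ ≠ 1
  rcases S.eq_empty_or_nonempty with e | ⟨σ₀, hσ₀⟩
  · rw [e]; norm_num
  have hle := card_solvable_five K hK
  have hd : Nat.card K ∣ 120 := by
    have := K.card_subgroup_dvd_card
    rwa [Nat.card_perm, Nat.card_fin, show Nat.factorial 5 = 120 from rfl] at this
  have hord : ∀ {σ}, σ ∈ S → orderOf σ = 3 := fun {σ} hσ => by
    obtain ⟨-, -, h3, h1⟩ := Finset.mem_filter.1 hσ
    exact orderOf_eq_prime h3 h1
  have hfac : (Nat.card K).factorization 3 = 1 := by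
    have h3 : 3 ∣ Nat.card K := by
      rw [← hord hσ₀]
      exact Subgroup.orderOf_dvd_natCard K (Finset.mem_filter.1 hσ₀).2.1
    refine le_antisymm ?_ ((Nat.prime_three.dvd_iff_one_le_factorization Nat.card_pos.ne').1 h3)
    by_contra h2
    have : 3 ^ 2 ∣ Nat.card K := (Nat.prime_three.pow_dvd_iff_le_factorization Nat.card_pos.ne').2 (by omega)
    exact absurd (this.trans hd) (by norm_num)
  obtain ⟨P⟩ : Nonempty (Sylow 3 K) := inferInstance
  have hP : Nat.card (P : Subgroup K) = 3 := by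
    rw [P.card_eq_multiplicity, hfac, pow_one]
  have hn : Nat.card (Sylow 3 K) ≤ 4 := by
    have h1 := P.card_dvd_index
    have h2 : (P : Subgroup K).index * 3 = Nat.card K := by
      have := (P : Subgroup K).index_mul_card
      rwa [hP] at this
    have h3 := card_sylow_modEq_one 3 K
    have h4 : Nat.card (Sylow 3 K) ≤ (P : Subgroup K).index :=
      Nat.le_of_dvd (Nat.pos_of_ne_zero Subgroup.index_ne_zero_of_finite) h1
    have h5 : Nat.card (Sylow 3 K) ∣ 120 := h1.trans ((Dvd.intro 3 h2).trans hd)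
    have h6 : Nat.card (Sylow 3 K) ≤ 8 := by omega
    rw [Nat.ModEq] at h3
    interval_cases Nat.card (Sylow 3 K) <;> omega
  let f : Equiv.Perm (Fin 5) → Sylow 3 K := fun σ =>
    if hσ : σ ∈ S then Sylow.ofCard (Subgroup.zpowers (⟨σ, (Finset.mem_filter.1 hσ).2.1⟩ : K))
      (by rw [Nat.card_zpowers, Subgroup.orderOf_mk, hord hσ, hfac, pow_one]) else P
  haveI := Fintype.ofFinite (Sylow 3 K)
  have := Finset.card_le_mul_card_image_of_maps_to (f := f) (s := S) (t := Finset.univ)
    (fun _ _ => Finset.mem_univ _) 2 (fun Q _ => by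
      rcases (S.filter fun σ => f σ = Q).eq_empty_or_nonempty with e | ⟨σ, hσ⟩
      · rw [e]; norm_num
      rw [Finset.mem_filter] at hσ
      have hsub : (S.filter fun τ => f τ = Q) ⊆ {σ, σ ^ 2} := by
        intro τ hτ
        rw [Finset.mem_filter] at hτ
        have he := congrArg (fun R : Sylow 3 K => (R : Subgroup K)) (hτ.2.trans hσ.2.symm)
        simp only [f, dif_pos hτ.1, dif_pos hσ.1, Sylow.coe_ofCard] at he
        have hm := Subgroup.mem_zpowers (⟨τ, (Finset.mem_filter.1 hτ.1).2.1⟩ : K)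
        rw [he, ← mem_powers_iff_mem_zpowers, Submonoid.mem_powers_iff] at hm
        obtain ⟨n, hn⟩ := hm
        have hn' : σ ^ (n % 3) = τ := by
          rw [← hord hσ.1, pow_mod_orderOf]; exact congrArg Subtype.val hn
        have : n % 3 < 3 := Nat.mod_lt n (by norm_num)
        rw [Finset.mem_insert, Finset.mem_singleton]
        interval_cases hh : n % 3
        · exact absurd (hn'.symm.trans (pow_zero σ)) (Finset.mem_filter.1 hτ.1).2.2.2
        · exact Or.inl (hn'.symm.trans (pow_one σ))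
        · exact Or.inr hn'.symm
      exact (Finset.card_le_card hsub).trans Finset.card_le_two)
  rw [Finset.card_univ, ← Nat.card_eq_fintype_card] at this
  omega

/-! ### the five involutions -/

variable {p : ℕ} [hp : Fact p.Prime] {Y : Type u} [AddCommGroup Y] [Module (ZMod p) Y]

/-- two commuting pairs: a quaternion pair and a dihedral pair -/
structure Clifford (i j s d : Y ≃ₗ[ZMod p] Y) : Prop where
  qp : QPair i j
  ss : ∀ w, s (s w) = w
  dd : ∀ w, d (d w) = w
  sd : ∀ w, s (d w) = -d (s w)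
  si : ∀ w, s (i w) = i (s w)
  sj : ∀ w, s (j w) = j (s w)
  di : ∀ w, d (i w) = i (d w)
  dj : ∀ w, d (j w) = j (d w)

/-- the five involutions -/
def cliffAxis (i j s d : Y ≃ₗ[ZMod p] Y) : Fin 5 → (Y ≃ₗ[ZMod p] Y) :=
  ![s, d, i * (s * d), j * (s * d), i * j * (s * d)]

/-- `1, i, j, ij` -/
def cliffLeft (i j : Y ≃ₗ[ZMod p] Y) : Fin 4 → (Y ≃ₗ[ZMod p] Y) := ![1, i, j, i * j]

/-- `1, s, d, sd` -/
def cliffRight (s d : Y ≃ₗ[ZMod p] Y) : Fin 4 → (Y ≃ₗ[ZMod p] Y) := ![1, s, d, s * d]

variable {i j s d : Y ≃ₗ[ZMod p] Y} (C : Clifford i j s d)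
include C

theorem Clifford.ds (w : Y) : d (s w) = -s (d w) := by rw [C.sd, neg_neg]

theorem Clifford.ji (w : Y) : j (i w) = -i (j w) := by rw [C.qp.ij, neg_neg]

theorem Clifford.axis_sq (a : Fin 5) (w : Y) : cliffAxis i j s d a (cliffAxis i j s d a w) = w := by
  fin_cases a
  · exact C.ss w
  · exact C.dd w
  all_goals simp [cliffAxis, LinearEquiv.mul_apply, C.qp.ii, C.qp.jj, C.ji, C.ss, C.dd, C.ds, C.si,
    C.sj, C.di, C.dj, map_neg]

theorem Clifford.axis_anti {a b : Fin 5} (hab : a ≠ b) (w : Y) :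
    cliffAxis i j s d a (cliffAxis i j s d b w) = -cliffAxis i j s d b (cliffAxis i j s d a w) := by
  fin_cases a <;> fin_cases b <;> first | exact absurd rfl hab | skip
  all_goals simp [cliffAxis, LinearEquiv.mul_apply, C.qp.ii, C.qp.jj, C.ji, C.ss, C.dd, C.ds, C.si,
    C.sj, C.di, C.dj, map_neg]

/-- which signed products are involutions -/
theorem Clifford.product_cases (hne : ∃ w : Y, w ≠ -w) (l r : Fin 4)
    (hsq : ∀ w, cliffLeft i j l (cliffRight s d r (cliffLeft i j l (cliffRight s d r w))) = w) :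
    (l = 0 ∧ r = 0) ∨ ∃ a, ∀ w, cliffLeft i j l (cliffRight s d r w) = cliffAxis i j s d a w := by
  obtain ⟨w, hw⟩ := hne
  have h := hsq w
  fin_cases l <;> fin_cases r
  all_goals first
    | exact Or.inl ⟨rfl, rfl⟩
    | exact Or.inr ⟨0, fun w => rfl⟩
    | exact Or.inr ⟨1, fun w => rfl⟩
    | exact Or.inr ⟨2, fun w => rfl⟩
    | exact Or.inr ⟨3, fun w => rfl⟩
    | exact Or.inr ⟨4, fun w => rfl⟩
    | (exfalso
       simp [cliffLeft, cliffRight, LinearEquiv.mul_apply, C.qp.ii, C.qp.jj, C.ji, C.ss, C.dd, C.ds, C.si,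
         C.sj, C.di, C.dj, map_neg] at h
       first | exact hw h.symm | exact hw h)

theorem Clifford.axis_unique (hne : ∃ w : Y, w ≠ -w) {a b : Fin 5}
    (e : (∀ w, cliffAxis i j s d a w = cliffAxis i j s d b w) ∨
      ∀ w, cliffAxis i j s d a w = -cliffAxis i j s d b w) : a = b := by
  obtain ⟨w, hw⟩ := hne
  by_contra hab
  have h1 := C.axis_anti hab w
  rcases e with e | e
  · rw [← e w, ← e (cliffAxis i j s d a w), C.axis_sq] at h1
    exact hw h1
  · rw [← neg_eq_iff_eq_neg.2 (e w), ← neg_eq_iff_eq_neg.2 (e (cliffAxis i j s d a w)), map_neg,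
      C.axis_sq, neg_neg] at h1
    exact hw h1.symm

theorem Clifford.product_fourth (l r : Fin 4) (w : Y) :
    let x := fun w => cliffLeft i j l (cliffRight s d r w)
    x (x (x (x w))) = w := by
  fin_cases l <;> fin_cases r
  all_goals simp [cliffLeft, cliffRight, LinearEquiv.mul_apply, C.qp.ii, C.qp.jj, C.ji, C.ss, C.dd, C.ds,
    C.si, C.sj, C.di, C.dj, map_neg]

end Cfsg.Agent.DistinctSizes
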