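import Cfsg.Agent.Lib.Block.DistinctSizes.FiveNormal

/-!
# No invariant line in the five-part of a centraliser

For an element `y` of order prime to five in a rational solvable group no subgroup of order five
of its centraliser is normalised by the whole centraliser.
-/

set_option autoImplicit false

set_option linter.unusedSectionVars false

namespace Cfsg.Agent.DistinctSizes

open Subgroup

universe u

theorem five_arith : (2 : ZMod 5) * 2 ≠ 1 ∧ (2 : ZMod 5) ≠ 0 ∧ (2 : ZMod 5).val = 2 ∧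
    (3 : ZMod 5) * 2 = 1 ∧ ((3 : ZMod 5) ≠ 0) := by decide

variable {G : Type u} [Group G] [Finite G]

/-- a centralising element of a quotient by an abelian five-group lifts -/
theorem exists_lift_comm {V : Subgroup G} (hV : Elem 5 V) {y g : G} (hy : (orderOf y).Coprime 5)
    (hg : g * y * g⁻¹ * y⁻¹ ∈ V) : ∃ w ∈ V, (w⁻¹ * g) * y = y * (w⁻¹ * g) := by
  haveI := hV.nor
  have hc : ∀ {a b}, a ∈ V → b ∈ V → a * b = b * a := fun ha hb => hV.comm _ ha _ hb
  set v := y⁻¹ * (g * y * g⁻¹) with hv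
  have hvV : v ∈ V := by
    have := hV.nor.conj_mem _ hg y⁻¹
    rwa [show y⁻¹ * (g * y * g⁻¹ * y⁻¹) * y⁻¹⁻¹ = v by rw [hv]; group] at this
  have hconjV : ∀ {w}, w ∈ V → y⁻¹ * w * y ∈ V := fun hw => by simpa using hV.nor.conj_mem _ hw y⁻¹
  let D : Subgroup G :=
    { carrier := {d | ∃ w ∈ V, d = y⁻¹ * w * y * w⁻¹}
      one_mem' := ⟨1, V.one_mem, by group⟩
      mul_mem' := by
        rintro _ _ ⟨a, ha, rfl⟩ ⟨b, hb, rfl⟩
        refine ⟨a * b, V.mul_mem ha hb, ?_⟩
        have h1 := hc (V.inv_mem ha) (V.mul_mem (hconjV hb) (V.inv_mem hb))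
        rw [show y⁻¹ * (a * b) * y * (a * b)⁻¹ = y⁻¹ * a * y * ((y⁻¹ * b * y * b⁻¹) * a⁻¹) by group, ← h1]
        group
      inv_mem' := by
        rintro _ ⟨a, ha, rfl⟩
        refine ⟨a⁻¹, V.inv_mem ha, ?_⟩
        have h1 := hc ha (V.inv_mem (hconjV ha))
        rw [show (y⁻¹ * a * y * a⁻¹)⁻¹ = a * (y⁻¹ * a * y)⁻¹ by group, h1]
        group }
  have hDV : D ≤ V := by
    rintro _ ⟨a, ha, rfl⟩
    exact V.mul_mem (hconjV ha) (V.inv_mem ha)
  have hpow : ∀ k : ℕ, ∃ d ∈ D, (y * v) ^ k = y ^ k * (v ^ k * d) := by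
    intro k
    induction k with
    | zero => exact ⟨1, D.one_mem, by simp⟩
    | succ k ih =>
      obtain ⟨d, hd, e⟩ := ih
      set x := v ^ k * d with hx
      have hxV : x ∈ V := V.mul_mem (V.pow_mem hvV k) (hDV hd)
      refine ⟨d * (y⁻¹ * x * y * x⁻¹), D.mul_mem hd ⟨x, hxV, rfl⟩, ?_⟩
      have h1 := hc (V.mul_mem (V.inv_mem hxV) (hconjV hxV)) hvV
      calc (y * v) ^ (k + 1) = y ^ k * x * (y * v) := by rw [pow_succ, e]
        _ = y ^ (k + 1) * (x * (x⁻¹ * (y⁻¹ * x * y) * v)) := by rw [pow_succ]; group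
        _ = y ^ (k + 1) * (x * v * (x⁻¹ * (y⁻¹ * x * y))) := by rw [h1]; group
        _ = y ^ (k + 1) * (v ^ (k + 1) * (d * (y⁻¹ * x * y * x⁻¹))) := by
          rw [hc (V.inv_mem hxV) (hconjV hxV), hx, mul_assoc (v ^ k) d v, hc (hDV hd) hvV, pow_succ]
          group
  obtain ⟨d, hd, e⟩ := hpow (orderOf y)
  rw [hv, mul_inv_cancel_left, conj_pow, pow_orderOf_eq_one, mul_one, mul_inv_cancel, one_mul] at e
  obtain ⟨k, hk⟩ := exists_pow_eq_self_of_coprime
    (Nat.Coprime.coprime_dvd_right (orderOf_dvd_of_pow_eq_one (hV.pow v hvV)) hy)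
  have hvD : v ∈ D := by
    rw [← hk, eq_inv_of_mul_eq_one_left e.symm]
    exact D.pow_mem (D.inv_mem hd) k
  obtain ⟨w, hw, hw'⟩ := hvD
  refine ⟨w, hw, ?_⟩
  have h1 : g * y * g⁻¹ = w * y * w⁻¹ := by
    calc g * y * g⁻¹ = y * v := by rw [hv, mul_inv_cancel_left]
      _ = w * y * w⁻¹ := by rw [hw']; group
  calc w⁻¹ * g * y = w⁻¹ * (g * y * g⁻¹) * g := by group
    _ = y * (w⁻¹ * g) := by rw [h1]; group

/-- a minimal normal subgroup in the centre of a nontrivial normal five-subgroup -/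
theorem exists_elem_central (hs : Group.IsSolvable G) {P : Subgroup G} [P.Normal] (hP : IsPGroup 5 P)
    (hne : P ≠ ⊥) :
    ∃ V : Subgroup G, Elem 5 V ∧ V ≠ ⊥ ∧ V ≤ P ∧ (∀ v ∈ V, ∀ u ∈ P, u * v = v * u) ∧
      ∀ M : Subgroup G, M.Normal → M ≤ V → M = ⊥ ∨ M = V := by
  haveI := hs
  haveI : Fact (Nat.Prime 5) := ⟨Nat.prime_five⟩
  haveI : Nontrivial P := (Subgroup.nontrivial_iff_ne_bot _).2 hne
  haveI := hP.center_nontrivial
  set Z := (Subgroup.center P).map P.subtype with hZ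
  have hZn : Z.Normal := inferInstance
  have hZne : Z ≠ ⊥ := by
    rw [hZ, Ne, Subgroup.map_eq_bot_iff_of_injective _ P.subtype_injective]
    exact (Subgroup.nontrivial_iff_ne_bot _).1 inferInstance
  obtain ⟨V, hVn, hV, hVZ, hmin⟩ := Grp.exists_minimal_normal_le hZne
  haveI := hVn
  obtain ⟨hab, r, hr, hpow⟩ := Grp.minimal_normal_solvable
    (Group.isSolvable_of_isSolvable_injective V.subtype_injective) hV hmin
  have hVP : V ≤ P := hVZ.trans (Subgroup.map_subtype_le _)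
  obtain rfl : r = 5 := by
    obtain ⟨x, hx⟩ := (V.ne_bot_iff_exists_ne_one).1 hV
    obtain ⟨k, hk⟩ := hP.to_le hVP x
    have h1 : orderOf x ∣ r := orderOf_dvd_of_pow_eq_one (Subtype.ext (by simpa using hpow _ x.2))
    have h2 : orderOf x ∣ 5 ^ k := orderOf_dvd_of_pow_eq_one hk
    rw [(hr.eq_one_or_self_of_dvd _ h1).resolve_left fun e => hx (orderOf_eq_one_iff.1 e)] at h2
    exact (Nat.prime_dvd_prime_iff_eq hr Nat.prime_five).1 (hr.dvd_of_dvd_pow h2)
  refine ⟨V, ⟨hVn, fun a ha b hb => congrArg Subtype.val (hab.is_comm.comm (⟨a, ha⟩ : V) ⟨b, hb⟩), hpow⟩,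
    hV, hVP, fun v hv u hu => ?_, hmin⟩
  obtain ⟨c, hc, rfl⟩ := hVZ hv
  exact congrArg Subtype.val (Subgroup.mem_center_iff.1 hc ⟨u, hu⟩)

/-- the alternating form on a minimal normal five-subgroup -/
theorem RatGroup.exists_alt_form [Fact (Nat.Prime 5)] (hG : RatGroup G) {V : Subgroup G} (hV : Elem 5 V)
    (hne : V ≠ ⊥) (hmin : ∀ M : Subgroup G, M.Normal → M ≤ V → M = ⊥ ∨ M = V) :
    ∃ B : LinearMap.BilinForm (ZMod 5) (EMod hV),
      (∀ g x y, B (conjRep hV g x) (conjRep hV g y) = B x y) ∧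
      (∀ x, (∀ y, B x y = 0) → x = 0) ∧ ∀ x, B x x = 0 := by
  haveI := EMod.nontrivial hV hne
  obtain ⟨B, hB, hnd⟩ := exists_form (conjRep hV) (fun Y hY =>
    irreducible_of_minimal hV hmin (H := ⊤) (fun g => ⟨g, trivial, fun _ _ => rfl⟩) Y fun h => hY h.1)
    fun g => hG.exists_inv g
  refine ⟨B, hB, hnd, fun w => ?_⟩
  refine form_self_eq_zero hB (k := (2 : ZMod 5)) five_arith.1 ?_
  obtain ⟨g, hg⟩ := hG (w.val hV) 2 (Nat.Coprime.coprime_dvd_right
    (orderOf_dvd_of_pow_eq_one (hV.pow _ (w.val_mem hV))) (by norm_num))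
  exact ⟨g, EMod.val_inj hV (by rw [val_conjRep, EMod.val_smul, hg, five_arith.2.2.1])⟩

/-- pairing a fixed vector with a fixed partner -/
theorem exists_fixed_partner [Fact (Nat.Prime 5)] {V : Subgroup G} (hV : Elem 5 V)
    {B : LinearMap.BilinForm (ZMod 5) (EMod hV)}
    (hB : ∀ g x y, B (conjRep hV g x) (conjRep hV g y) = B x y) (hnd : ∀ x, (∀ y, B x y = 0) → x = 0)
    {y : G} (hy : (orderOf y).Coprime 5) {z : EMod hV} (hz : conjRep hV y z = z) (hz0 : z ≠ 0) :
    ∃ r, conjRep hV y r = r ∧ B z r = 1 := by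
  obtain ⟨w, hw⟩ : ∃ w, B z w ≠ 0 := by
    by_contra hc; push Not at hc; exact hz0 (hnd z hc)
  set T := conjRep hV y
  set r₀ := ∑ k ∈ Finset.range (orderOf y), (T ^ k) w with hr₀
  have hfix : T r₀ = r₀ := by
    have h1 : ∀ k, T ((T ^ k) w) = (T ^ (k + 1)) w := fun k => by rw [pow_succ', Module.End.mul_apply]
    have h2 := Finset.sum_range_succ' (fun k => (T ^ k) w) (orderOf y)
    rw [Finset.sum_range_succ, show T ^ orderOf y = 1 by rw [← map_pow, pow_orderOf_eq_one, map_one],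
      pow_zero] at h2
    rw [hr₀, map_sum, Finset.sum_congr rfl fun k _ => h1 k]
    exact (add_right_cancel h2).symm
  have hval : B z r₀ = (orderOf y : ZMod 5) * B z w := by
    have h1 : ∀ k, B z ((T ^ k) w) = B z w := fun k => by
      induction k with
      | zero => rfl
      | succ k ih =>
        rw [pow_succ', Module.End.mul_apply]
        nth_rw 1 [← hz]
        rw [hB, ih]
    rw [hr₀, map_sum, Finset.sum_congr rfl fun k _ => h1 k, Finset.sum_const, Finset.card_range,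
      nsmul_eq_mul]
  have hne : B z r₀ ≠ 0 := by
    rw [hval]
    refine mul_ne_zero (fun e => ?_) hw
    exact (Nat.prime_five.coprime_iff_not_dvd.1 hy.symm) ((ZMod.natCast_eq_zero_iff _ 5).1 e)
  exact ⟨(B z r₀)⁻¹ • r₀, by rw [map_smul, hfix], by rw [map_smul, smul_eq_mul, inv_mul_cancel₀ hne]⟩

/-- no line of the five-part of a centraliser is invariant under the centraliser -/
theorem RatGroup.no_invariant_five [Fact (Nat.Prime 5)] (hG : RatGroup G) (hs : Group.IsSolvable G) {y : G}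
    (hy : (orderOf y).Coprime 5) {z : G} (hz5 : z ^ 5 = 1) (hyz : Commute y z)
    (hinv : ∀ g : G, g * y = y * g → g * z * g⁻¹ ∈ zpowers z) : z = 1 := by
  induction hn : Nat.card G using Nat.strong_induction_on generalizing G with
  | _ n ih =>
  subst hn
  by_contra hz1
  obtain ⟨P₀⟩ : Nonempty (Sylow 5 G) := inferInstance
  haveI hPn := hG.sylow_five_normal hs P₀
  set P := (P₀ : Subgroup G) with hP
  have hind : ¬ 5 ∣ P.index := P₀.not_dvd_index
  have hzord : orderOf z = 5 := orderOf_eq_prime hz5 hz1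
  have hmemP : ∀ x : G, (∃ k, x ^ 5 ^ k = 1) → x ∈ P := by
    intro x ⟨k, hk⟩
    rw [← QuotientGroup.eq_one_iff, ← orderOf_eq_one_iff]
    refine Nat.eq_one_of_dvd_coprimes ((Nat.prime_five.coprime_iff_not_dvd.2 hind).pow_left k)
      ((orderOf_map_dvd (QuotientGroup.mk' P) x).trans (orderOf_dvd_of_pow_eq_one hk)) ?_
    rw [P.index_eq_card]; exact orderOf_dvd_natCard _
  have hzP : z ∈ P := hmemP z ⟨1, by simpa using hz5⟩
  obtain ⟨V, hV, hVne, hVP, hVc, hmin⟩ := exists_elem_central hs P₀.2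
    (fun e => hz1 (by rwa [show P = ⊥ from e, Subgroup.mem_bot] at hzP))
  haveI := hV.nor
  by_cases hzV : z ∈ V
  swap
  · set f := QuotientGroup.mk' V
    have hf := QuotientGroup.mk'_surjective V
    have h1 := ih (Nat.card (G ⧸ V)) (Grp.card_quotient_lt hVne) (hG.map f hf)
      (haveI := hs; Group.isSolvable_of_surjective hf) (y := f y) (z := f z)
      (Nat.Coprime.coprime_dvd_left (orderOf_map_dvd f y) hy) (by rw [← map_pow, hz5, map_one]) (hyz.map f)
      (fun gb e => by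
        obtain ⟨g, rfl⟩ := hf gb
        have hgV : g * y * g⁻¹ * y⁻¹ ∈ V := by
          rw [← QuotientGroup.eq_one_iff]
          show f (g * y * g⁻¹ * y⁻¹) = 1
          replace e : f g * f y = f y * f g := e
          rw [map_mul, map_mul, map_mul, map_inv, map_inv, e]; group
        obtain ⟨w, hw, ew⟩ := exists_lift_comm hV hy hgV
        have h2 : f (w⁻¹ * g) = f g := by
          rw [map_mul, show f w⁻¹ = 1 from (QuotientGroup.eq_one_iff _).2 (V.inv_mem hw), one_mul]
        rw [← h2, ← map_inv, ← map_mul, ← map_mul, ← MonoidHom.map_zpowers]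
        exact Subgroup.mem_map_of_mem f (hinv _ ew)) rfl
    exact hzV ((QuotientGroup.eq_one_iff z).1 h1)
  obtain ⟨B, hB, hnd, halt⟩ := hG.exists_alt_form hV hVne hmin
  set σ := conjRep hV
  set Z := EMod.mk hV hzV
  have hZ0 : Z ≠ 0 := fun e => hz1 ((EMod.val_eq_one hV).2 e)
  have hZfix : σ y Z = Z := EMod.val_inj hV (by
    rw [val_conjRep, EMod.val_mk, hyz.eq, mul_inv_cancel_right])
  obtain ⟨r, hr, hZr⟩ := exists_fixed_partner hV hB hnd hy hZfix hZ0
  -- an element doubling a fixed vector while centralising `y`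
  have hdouble : ∀ x : EMod hV, σ y x = x → B Z x = 1 → ∃ g : G,
      σ g Z = (3 : ZMod 5) • Z ∧ σ g x = (2 : ZMod 5) • x := by
    intro x hx hZx
    have hcm : Commute y (x.val hV) := mul_inv_eq_iff_eq_mul.1 (congrArg (EMod.val hV) hx)
    have hox : orderOf (x.val hV) ∣ 5 := orderOf_dvd_of_pow_eq_one (hV.pow _ (x.val_mem hV))
    obtain ⟨g, h1, h2⟩ := hG.exists_parts hcm (hy.coprime_dvd_right hox) (a := 1) (b := 2)
      (Nat.coprime_one_left _) (Nat.Coprime.coprime_dvd_right hox (by norm_num))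
    have hgy : g * y = y * g := by rw [pow_one] at h1; exact mul_inv_eq_iff_eq_mul.1 h1
    obtain ⟨m, hm⟩ := Subgroup.mem_zpowers_iff.1 (hinv g hgy)
    obtain ⟨n, hn⟩ : ∃ n : ℕ, z ^ n = g * z * g⁻¹ := by
      have : z ^ m ∈ zpowers z := Subgroup.zpow_mem_zpowers z m
      rw [← mem_powers_iff_mem_zpowers, Submonoid.mem_powers_iff] at this
      obtain ⟨n, hn⟩ := this
      exact ⟨n, hn.trans hm⟩
    have eZ : σ g Z = (n : ZMod 5) • Z := EMod.val_inj hV (by
      rw [val_conjRep, Nat.cast_smul_eq_nsmul, EMod.val_nsmul, EMod.val_mk, hn])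
    have ex : σ g x = (2 : ZMod 5) • x := EMod.val_inj hV (by
      rw [val_conjRep, EMod.val_smul, five_arith.2.2.1, h2])
    have h3 := hB g Z x
    rw [eZ, ex, map_smul, map_smul, LinearMap.smul_apply, hZx, smul_eq_mul, smul_eq_mul, mul_one] at h3
    refine ⟨g, ?_, ex⟩
    rw [eZ]
    congr 1
    linear_combination (3 : ZMod 5) * h3 - (n : ZMod 5) * five_arith.2.2.2.1
  obtain ⟨g, gZ, gr⟩ := hdouble r hr hZr
  obtain ⟨g', gZ', gr'⟩ := hdouble (r + Z) (by rw [map_add, hr, hZfix]) (by rw [map_add, hZr, halt, add_zero])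
  rw [map_add, gZ'] at gr'
  have h65 : (2 : ZMod 5) * 3 = 1 := by rw [mul_comm]; exact five_arith.2.2.2.1
  have hcancel : ∀ v w : EMod hV, σ g v = w → σ g⁻¹ w = v := fun v w e => by
    rw [← e, ← Module.End.mul_apply, ← map_mul, inv_mul_cancel, map_one, Module.End.one_apply]
  have giZ : σ g⁻¹ Z = (2 : ZMod 5) • Z := hcancel _ _ (by rw [map_smul, gZ, smul_smul, h65, one_smul])
  have gir : σ g⁻¹ r = (3 : ZMod 5) • r := hcancel _ _ (by
    rw [map_smul, gr, smul_smul, five_arith.2.2.2.1, one_smul])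
  set h := g⁻¹ * g'
  have hhZ : σ h Z = Z := by
    rw [map_mul, Module.End.mul_apply, gZ', map_smul, giZ, smul_smul, five_arith.2.2.2.1, one_smul]
  have hhr : σ h r = r + (3 : ZMod 5) • Z := by
    have e1 : σ g' r = (2 : ZMod 5) • r + (2 : ZMod 5) • Z - (3 : ZMod 5) • Z := by
      rw [← smul_add, ← gr', add_sub_cancel_right]
    rw [map_mul, Module.End.mul_apply, e1, map_sub, map_add, map_smul, map_smul, map_smul, gir, giZ,
      smul_smul, smul_smul, smul_smul, h65, five_arith.2.2.2.1, one_smul, one_smul,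
      show (2 : ZMod 5) * 2 = 3 + 1 from rfl, add_smul, one_smul]
    abel
  have hiter : ∀ m : ℕ, σ (h ^ m) r = r + ((m : ZMod 5) * 3) • Z := by
    intro m
    induction m with
    | zero => simp
    | succ m ih =>
      rw [pow_succ', map_mul, Module.End.mul_apply, ih, map_add, map_smul, hhZ, hhr, Nat.cast_succ,
        add_mul, add_smul, one_mul]
      abel
  have hmem : h ^ P.index ∈ P := Subgroup.pow_index_mem P h
  have htriv : σ (h ^ P.index) r = r := EMod.val_inj hV (by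
    rw [val_conjRep, hVc _ (r.val_mem hV) _ hmem, mul_inv_cancel_right])
  rw [hiter, add_eq_left] at htriv
  rcases smul_eq_zero.1 htriv with e | e
  · exact hind ((ZMod.natCast_eq_zero_iff _ 5).1 ((mul_eq_zero.1 e).resolve_right five_arith.2.2.2.2))
  · exact hZ0 e

end Cfsg.Agent.DistinctSizes
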