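import Cfsg.Agent.Lib.Block.DistinctSizes.Gow

/-!
# The Sylow five-subgroup of a rational solvable group is normal

In a minimal counterexample `V` is a minimal normal subgroup and `N` the normalizer of the Sylow
subgroup `P`, a complement of `V`. A minimal normal subgroup `W` of `N` in the centre of `P` carries
an alternating form; for a vector fixed by a hyperplane `M` of `W` rationality gives an element
fixing it which acts on `W / M` as the cube, and the invariant form on `V` forbids this.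
-/

set_option autoImplicit false

set_option linter.unusedSectionVars false

namespace Cfsg.Agent.DistinctSizes

universe u

variable {q : ℕ} [hq : Fact q.Prime]

/-- a nondegenerate invariant form can be replaced by a symmetric or skew one -/
theorem exists_sym_form {H : Type*} [Group H] {V : Type*} [AddCommGroup V] [Module (ZMod q) V]
    (ρ : Representation (ZMod q) H V) (hirr : ∀ Y : Submodule (ZMod q) V, (∀ g, ∀ y ∈ Y, ρ g y ∈ Y) → Y = ⊥ ∨ Y = ⊤)
    {B : LinearMap.BilinForm (ZMod q) V} (hB : ∀ g x y, B (ρ g x) (ρ g y) = B x y)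
    (hnd : ∀ x, (∀ y, B x y = 0) → x = 0) :
    ∃ (f : LinearMap.BilinForm (ZMod q) V) (ε : ZMod q), (ε = 1 ∨ ε = -1) ∧ (∀ g x y, f (ρ g x) (ρ g y) = f x y) ∧
      (∀ x y, f y x = ε * f x y) ∧ ∀ x, (∀ y, f x y = 0) → x = 0 := by
  set f : LinearMap.BilinForm (ZMod q) V := B + B.flip with hf
  have hfa : ∀ x y, f x y = B x y + B y x := fun x y => rfl
  have hfi : ∀ g x y, f (ρ g x) (ρ g y) = f x y := fun g x y => by rw [hfa, hfa, hB, hB]
  have hker : ∀ g, ∀ y ∈ LinearMap.ker f, ρ g y ∈ LinearMap.ker f := by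
    intro g y hy
    rw [LinearMap.mem_ker] at hy ⊢
    refine LinearMap.ext fun z => ?_
    have h1 := hfi g⁻¹ (ρ g y) z
    rw [← Module.End.mul_apply, ← map_mul, inv_mul_cancel, map_one, Module.End.one_apply, hy] at h1
    exact h1.symm
  rcases hirr _ hker with hb | ht
  · refine ⟨f, 1, Or.inl rfl, hfi, fun x y => by rw [one_mul, hfa, hfa, add_comm], fun x hx => ?_⟩
    exact LinearMap.ker_eq_bot'.1 hb x (LinearMap.ext hx)
  · refine ⟨B, -1, Or.inr rfl, hB, fun x y => ?_, hnd⟩
    have h1 : f x y = 0 := by rw [LinearMap.ker_eq_top.1 ht]; rfl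
    rw [hfa] at h1
    linear_combination h1

section Core

variable {W : Type*} [AddCommGroup W] [Module (ZMod 5) W] {V : Type*} [AddCommGroup V] [Module (ZMod q) V]

/-- the subspace fixing a vector -/
def stabVec (T : W → Module.End (ZMod q) V) (hT : ∀ x y v, T (x + y) v = T x (T y v)) (h0 : ∀ v, T 0 v = v)
    (v : V) : Submodule (ZMod 5) W :=
  AddSubgroup.toZModSubmodule 5
    { carrier := {x | T x v = v}
      zero_mem' := h0 v
      add_mem' := fun {x y} hx hy => by
        show T (x + y) v = v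
        rw [hT, show T y v = v from hy, show T x v = v from hx]
      neg_mem' := fun {x} hx => by
        show T (-x) v = v
        conv_lhs => rw [← show T x v = v from hx]
        rw [← hT, neg_add_cancel, h0] }

theorem mem_stabVec {T : W → Module.End (ZMod q) V} {hT : ∀ x y v, T (x + y) v = T x (T y v)}
    {h0 : ∀ v, T 0 v = v} {v : V} {x : W} : x ∈ stabVec T hT h0 v ↔ T x v = v := Iff.rfl

/-- no elementary abelian five-group acts fixed-point-freely with such symmetries -/
theorem no_five_action [Finite W] [Finite V] [Nontrivial V] (hq5 : q ≠ 5) (T : W → Module.End (ZMod q) V)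
    (hT : ∀ x y v, T (x + y) v = T x (T y v)) (h0 : ∀ v, T 0 v = v)
    (hfix : ∀ v, (∀ x, T x v = v) → v = 0)
    {B : LinearMap.BilinForm (ZMod 5) W} (halt : ∀ x, B x x = 0) (hnd : ∀ x, (∀ y, B x y = 0) → x = 0)
    {f : LinearMap.BilinForm (ZMod q) V} {ε : ZMod q} (hε : ε = 1 ∨ ε = -1)
    (hsym : ∀ x y, f y x = ε * f x y) (hfnd : ∀ x, (∀ y, f x y = 0) → x = 0)
    (hinv : ∀ x v w, f (T x v) (T x w) = f v w)
    (hrat : ∀ u v, T u v = v → ∃ (σ : W →ₗ[ZMod 5] W) (τ : Module.End (ZMod q) V), σ u = (2 : ZMod 5) • u ∧ τ v = v ∧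
      (∀ x y, B (σ x) (σ y) = B x y) ∧ (∀ x w, τ (T x w) = T (σ x) (τ w)) ∧ ∀ x y, f (τ x) (τ y) = f x y) :
    False := by
  classical
  haveI : Fact (Nat.Prime 5) := ⟨by norm_num⟩
  haveI := Fintype.ofFinite W
  have hcomm : ∀ x y v, T x (T y v) = T y (T x v) := fun x y v => by rw [← hT, ← hT, add_comm]
  -- a vector with the largest stabiliser
  obtain ⟨e, he⟩ := exists_ne (0 : V)
  obtain ⟨v0, hv0, hmax⟩ := (Set.toFinite {v : V | v ≠ 0}).exists_maximalFor
    (fun v => (stabVec T hT h0 v : Submodule (ZMod 5) W)) _ ⟨e, he⟩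
  set M := stabVec T hT h0 v0 with hM
  set U : Set V := {v | ∀ m ∈ M, T m v = v} with hU
  have hv0U : v0 ∈ U := fun m hm => hm
  have hUT : ∀ x, ∀ v ∈ U, T x v ∈ U := fun x v hv m hm => by rw [hcomm, hv m hm]
  have hMfpf : ∀ x, x ∉ M → ∀ v ∈ U, T x v = v → v = 0 := by
    intro x hx v hv hxv
    by_contra hv1
    exact hx (hmax hv1 (fun m hm => hv m hm) hxv)
  have hMtop : M ≠ ⊤ := fun h => hv0 (hfix v0 fun x => by
    have : x ∈ M := by rw [h]; trivial
    exact this)
  -- the norm of an element outside kills the fixed space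
  have hnorm : ∀ x, x ∉ M → ∀ v ∈ U, ∑ i : ZMod 5, T (i • x) v = 0 := by
    intro x hx v hv
    refine hMfpf x hx _ (fun m hm => ?_) ?_
    · rw [map_sum]
      exact Finset.sum_congr rfl fun i _ => hUT _ v hv m hm
    · rw [map_sum]
      refine Fintype.sum_equiv (Equiv.addRight (1 : ZMod 5)) _ _ fun i => ?_
      rw [← hT, Equiv.coe_addRight, add_smul, one_smul, add_comm]
  have hcoatom : ∀ a, a ∉ M → ∀ b, ∃ c : ZMod 5, b - c • a ∈ M := by
    intro a ha b
    by_contra hb
    push Not at hb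
    have hbM : b ∉ M := by simpa using hb 0
    have h1 : ∀ j : ZMod 5, ∑ i : ZMod 5, T (i • (a + j • b)) v0 = 0 := by
      intro j
      refine hnorm _ (fun hm => ?_) v0 hv0U
      by_cases hj : j = 0
      · subst hj; simp at hm; exact ha hm
      · refine hb (-j⁻¹) ?_
        have := M.smul_mem j⁻¹ hm
        rwa [smul_add, smul_smul, inv_mul_cancel₀ hj, one_smul, add_comm, ← sub_neg_eq_add, ← neg_smul] at this
    have h2 : ∑ j : ZMod 5, ∑ i : ZMod 5, T (i • (a + j • b)) v0 = 0 := Finset.sum_eq_zero fun j _ => h1 j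
    rw [Finset.sum_comm, Finset.sum_eq_single (0 : ZMod 5)] at h2
    · simp only [zero_smul, h0, Finset.sum_const, Finset.card_univ, ZMod.card] at h2
      rw [← Nat.cast_smul_eq_nsmul (ZMod q), smul_eq_zero] at h2
      rcases h2 with h2 | h2
      · exact hq5 ((Nat.prime_dvd_prime_iff_eq hq.out (by norm_num)).1 ((ZMod.natCast_eq_zero_iff _ _).1 h2))
      · exact hv0 h2
    · intro i _ hi
      have h3 : ∀ j : ZMod 5, T (i • (a + j • b)) v0 = T (i • a) (T ((i * j) • b) v0) := fun j => by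
        rw [← hT, smul_add, smul_smul]
      rw [Finset.sum_congr rfl fun j _ => h3 j, ← map_sum,
        Fintype.sum_equiv (Equiv.mulLeft₀ i hi) (fun j => T ((i * j) • b) v0) (fun z => T (z • b) v0)
          (fun j => rfl), hnorm b hbM v0 hv0U, map_zero]
    · intro h; exact absurd (Finset.mem_univ _) h
  -- the perpendicular line
  have hinj : Function.Injective B := (injective_iff_map_eq_zero B).2 fun x hx =>
    hnd x fun y => by rw [hx]; rfl
  obtain ⟨φ, hφ0, hφ⟩ := Submodule.exists_dual_map_eq_bot_of_lt_top (lt_top_iff_ne_top.2 hMtop) inferInstance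
  obtain ⟨u, hu⟩ := (LinearMap.injective_iff_surjective_of_finrank_eq_finrank
    (Subspace.dual_finrank_eq (K := ZMod 5) (V := W)).symm).1 hinj φ
  obtain ⟨a, hau⟩ : ∃ a, B u a ≠ 0 := by
    by_contra h
    push Not at h
    exact hφ0 (LinearMap.ext fun x => by rw [← hu]; exact h x)
  have hperp : ∀ m ∈ M, B u m = 0 := fun m hm => by
    have : φ m ∈ M.map φ := Submodule.mem_map_of_mem hm
    rw [hφ, Submodule.mem_bot] at this
    rwa [hu]
  have haM : a ∉ M := fun h => hau (hperp a h)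
  have hMiff : ∀ x, B u x = 0 → x ∈ M := by
    intro x hx
    obtain ⟨c, hc⟩ := hcoatom a haM x
    have := hperp _ hc
    rw [map_sub, map_smul, hx, zero_sub, neg_eq_zero, smul_eq_mul, mul_eq_zero] at this
    rw [this.resolve_right hau, zero_smul, sub_zero] at hc
    exact hc
  have huM : u ∈ M := hMiff u (halt u)
  -- the key identity
  have hkey : ∀ v ∈ U, f v (T a v) = f v (T ((3 : ZMod 5) • a) v) := by
    intro v hv
    obtain ⟨σ, τ, hσu, hτv, hσB, hτT, hτf⟩ := hrat u v (hv u huM)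
    have hm : σ a - (3 : ZMod 5) • a ∈ M := by
      refine hMiff _ ?_
      have h1 := hσB u a
      rw [hσu, map_smul, LinearMap.smul_apply, smul_eq_mul] at h1
      rw [map_sub, map_smul, smul_eq_mul, ← h1, ← mul_assoc, show (3 : ZMod 5) * 2 = 1 from rfl, one_mul,
        sub_self]
    rw [← hτf v (T a v), hτv, hτT, hτv]
    congr 1
    conv_lhs => rw [show σ a = (3 : ZMod 5) • a + (σ a - (3 : ZMod 5) • a) by abel, hT, hv _ hm]
  have hndU : ∀ y ∈ U, (∀ v ∈ U, f v y = 0) → y = 0 := by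
    intro y hy h
    refine hfnd y fun x => ?_
    haveI : Fintype M := Fintype.ofFinite M
    set s := ∑ m : M, T m.1 x with hs
    have hsU : s ∈ U := by
      intro m hm
      rw [hs, map_sum]
      refine Fintype.sum_equiv (Equiv.addLeft (⟨m, hm⟩ : M)) _ _ fun i => ?_
      rw [← hT]; rfl
    have h1 : f s y = (Nat.card M : ZMod q) * f x y := by
      rw [hs, map_sum, LinearMap.sum_apply, Finset.sum_congr rfl fun m _ => (show f (T m.1 x) y = f x y by
        conv_lhs => rw [← hy m.1 m.2]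
        exact hinv _ _ _), Finset.sum_const, Finset.card_univ, nsmul_eq_mul, Nat.card_eq_fintype_card]
    rw [h s hsU, eq_comm, mul_eq_zero] at h1
    have h5 : (Nat.card M : ZMod q) ≠ 0 := by
      rw [Module.natCard_eq_pow_finrank (K := ZMod 5), Nat.card_zmod, Nat.cast_pow]
      refine pow_ne_zero _ fun e => hq5 ?_
      exact (Nat.prime_dvd_prime_iff_eq hq.out (by norm_num)).1 ((ZMod.natCast_eq_zero_iff _ _).1 e)
    rw [hsym x y, h1.resolve_left h5, mul_zero]
  have hfl : ∀ x v w, f w (T x v) = ε * f v (T (-x) w) := by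
    intro x v w
    rw [← hsym, ← hinv (-x) w (T x v), ← hT, neg_add_cancel, h0]
  have hlin : ∀ w ∈ U, T a w - T ((3 : ZMod 5) • a) w +
      ε • (T (-a) w - T (-((3 : ZMod 5) • a)) w) = 0 := by
    intro w hw
    have hmem : ∀ x, ∀ m ∈ M, T m (T x w) = T x w := fun x m hm => hUT x w hw m hm
    refine hndU _ (fun m hm => ?_) fun v hv => ?_
    · simp only [map_add, map_sub, map_smul, hmem _ m hm]
    have hvw : v + w ∈ U := fun m hm => by rw [map_add, hv m hm, hw m hm]
    have h1 := hkey _ hvw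
    simp only [map_add, LinearMap.add_apply] at h1
    simp only [map_add, map_sub, map_smul, smul_eq_mul]
    linear_combination h1 - hkey v hv - hkey w hw - hfl a v w + hfl ((3 : ZMod 5) • a) v w
  -- conclude
  have h2a : (2 : ZMod 5) • a ∉ M := fun h => haM (by
    have := M.smul_mem (3 : ZMod 5) h
    rwa [smul_smul, show (3 : ZMod 5) * 2 = 1 from rfl, one_smul] at this)
  have e1 := hlin v0 hv0U
  rw [show -a = (4 : ZMod 5) • a by rw [show (4 : ZMod 5) = -1 from rfl, neg_one_smul],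
    show -((3 : ZMod 5) • a) = (2 : ZMod 5) • a by rw [← neg_smul, show -(3 : ZMod 5) = 2 from rfl]] at e1
  have hsh : ∀ (i : ZMod 5) (w : V), T ((2 : ZMod 5) • a) (T (i • a) w) = T ((2 + i) • a) w := fun i w => by
    rw [← hT, add_smul]
  have h12 : T ((2 : ZMod 5) • a) (T a v0) = T ((3 : ZMod 5) • a) v0 := by
    have := hsh 1 v0
    rwa [one_smul, show (2 : ZMod 5) + 1 = 3 from rfl] at this
  have h22 : T ((2 : ZMod 5) • a) (T ((2 : ZMod 5) • a) v0) = T ((4 : ZMod 5) • a) v0 := by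
    rw [hsh, show (2 : ZMod 5) + 2 = 4 from rfl]
  have hUa : T a v0 ∈ U := hUT _ _ hv0U
  have hU2 : T ((2 : ZMod 5) • a) v0 ∈ U := hUT _ _ hv0U
  have ha1 : T a v0 ≠ 0 := fun e => hv0 (by rw [← h0 v0, ← neg_add_cancel a, hT, e, map_zero])
  rcases hε with rfl | rfl
  · have hz : T a v0 - T ((2 : ZMod 5) • a) v0 = 0 := by
      refine hMfpf _ h2a _ (fun m hm => ?_) ?_
      · rw [map_sub, hUa m hm, hU2 m hm]
      · rw [map_sub, h12, h22]
        rw [one_smul] at e1
        rw [eq_comm, ← sub_eq_zero, ← e1]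
        abel
    refine ha1 (hMfpf a haM _ hUa ?_)
    rw [← hT, ← two_smul (ZMod 5) a]
    exact (sub_eq_zero.1 hz).symm
  · have hz : T a v0 + T ((2 : ZMod 5) • a) v0 = 0 := by
      refine hMfpf _ h2a _ (fun m hm => ?_) ?_
      · rw [map_add, hUa m hm, hU2 m hm]
      · rw [map_add, h12, h22]
        rw [neg_smul, one_smul] at e1
        rw [eq_comm, ← sub_eq_zero, ← e1]
        abel
    have hneg : T a (T a v0) = -T a v0 := by
      rw [← hT, ← two_smul (ZMod 5) a]
      exact eq_neg_of_add_eq_zero_right hz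
    refine ha1 (hMfpf _ h2a _ hUa ?_)
    rw [two_smul, hT, hneg, map_neg, hneg, neg_neg]

end Core

/-- the Sylow five-subgroup of a rational solvable group is normal -/
theorem RatGroup.sylow_five_normal {G : Type u} [Group G] [Finite G] (hG : RatGroup G) (hs : Group.IsSolvable G)
    (P : Sylow 5 G) : (P : Subgroup G).Normal := by
  haveI : Fact (Nat.Prime 5) := ⟨by norm_num⟩
  induction hn : Nat.card G using Nat.strong_induction_on generalizing G with
  | _ n ih =>
  subst hn
  by_contra hnot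
  haveI := hs
  haveI : Nontrivial G := by
    rcases subsingleton_or_nontrivial G with h | h
    · exact absurd ⟨fun x hx g => by rwa [Subsingleton.elim (g * x * g⁻¹) x]⟩ hnot
    · exact h
  have hquo : ∀ (R : Subgroup G) [R.Normal], R ≠ ⊥ → ((P : Subgroup G) ⊔ R).Normal := by
    intro R _ hR
    have h1 := ih (Nat.card (G ⧸ R)) (Grp.card_quotient_lt hR)
      (hG.map (QuotientGroup.mk' R) (QuotientGroup.mk'_surjective R))
      (Group.isSolvable_of_surjective (QuotientGroup.mk'_surjective R))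
      (P.mapSurjective (QuotientGroup.mk'_surjective R)) rfl
    rw [Sylow.coe_mapSurjective] at h1
    haveI := h1
    rw [← QuotientGroup.ker_mk' R, ← Subgroup.comap_map_eq]
    exact Subgroup.normal_comap _
  have hred : ∀ (R : Subgroup G), R.Normal → R ≤ (P : Subgroup G) → R = ⊥ := fun R hRn hR => by
    by_contra h
    haveI := hRn
    exact hnot (by simpa [sup_eq_left.2 hR] using hquo R h)
  obtain ⟨q, V, hq, hV, hVne, hmin⟩ := exists_minimal_elem hs
  haveI := Fact.mk hq
  haveI := hV.nor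
  have hVP := hquo V hVne
  have hq5 : q ≠ 5 := by
    rintro rfl
    have hle : V ≤ (P : Subgroup G) := by
      exact le_sup_left.trans (le_of_eq (P.is_maximal' (hV.isPGroup.to_sup_of_normal_left P.isPGroup')
        le_sup_right))
    exact hnot (by simpa [sup_eq_left.2 hle] using hVP)
  set N : Subgroup G := Subgroup.normalizer ((P : Subgroup G) : Set G) with hN
  have hPN : (P : Subgroup G) ≤ N := Subgroup.le_normalizer
  have hcover : N ⊔ V = ⊤ := by
    have h1 := Sylow.normalizer_sup_eq_top' (N := (P : Subgroup G) ⊔ V) P le_sup_left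
    rw [← top_le_iff, ← h1]
    exact sup_le le_sup_left (sup_le (hPN.trans le_sup_left) le_sup_right)
  have hdec : ∀ g : G, ∃ w ∈ V, ∃ h ∈ N, g = w * h := fun g => by
    have hg : g ∈ V ⊔ N := by rw [sup_comm, hcover]; trivial
    obtain ⟨w, hw, h, hh, e⟩ := Subgroup.mem_sup_of_normal_left.1 hg
    exact ⟨w, hw, h, hh, e.symm⟩
  have hact : ∀ g : G, ∃ h ∈ N, ∀ v ∈ V, g * v * g⁻¹ = h * v * h⁻¹ := fun g => by
    obtain ⟨w, hw, h, hh, rfl⟩ := hdec g
    refine ⟨h, hh, fun v hv => ?_⟩
    rw [show w * h * v * (w * h)⁻¹ = w * (h * v * h⁻¹) * w⁻¹ by group,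
      hV.comm w hw _ (hV.nor.conj_mem v hv h), mul_inv_cancel_right]
  have hVN : V ⊓ N = ⊥ := by
    have hnor : (V ⊓ N).Normal := by
      refine ⟨fun x hx g => ?_⟩
      obtain ⟨h, hh, e⟩ := hact g
      rw [e x hx.1]
      exact ⟨hV.nor.conj_mem x hx.1 h, show _ ∈ N from mul_mem (mul_mem hh hx.2) (inv_mem hh)⟩
    refine (hmin _ hnor inf_le_left).resolve_right fun e => hnot ?_
    rw [← Subgroup.normalizer_eq_top_iff]
    exact le_antisymm le_top (hcover.ge.trans (sup_le le_rfl (inf_eq_left.1 e)))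
  have hPV : ∀ x ∈ (P : Subgroup G), (∀ v ∈ V, x * v = v * x) → x = 1 := by
    set R : Subgroup G := (P : Subgroup G) ⊓ Subgroup.centralizer (V : Set G) with hR
    have hRn : R.Normal := by
      refine ⟨fun x hx g => ?_⟩
      obtain ⟨w, hw, h, hh, rfl⟩ := hdec g
      have h1 : h * x * h⁻¹ ∈ R := ⟨(Subgroup.mem_normalizer_iff.1 hh x).1 hx.1,
        (Subgroup.normal_centralizer (H := V)).conj_mem x hx.2 h⟩
      rw [show w * h * x * (w * h)⁻¹ = w * (h * x * h⁻¹) * w⁻¹ by group,
        Subgroup.mem_centralizer_iff.1 h1.2 w hw, mul_inv_cancel_right]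
      exact h1
    intro x hx hc
    have : x ∈ R := ⟨hx, Subgroup.mem_centralizer_iff.2 fun v hv => (hc v hv).symm⟩
    rwa [hred R hRn inf_le_left, Subgroup.mem_bot] at this
  -- the complement and its minimal central normal subgroup
  set P' : Subgroup N := (P : Subgroup G).subgroupOf N with hP'
  haveI hP'n : P'.Normal := Subgroup.normal_in_normalizer
  have hPne : (P : Subgroup G) ≠ ⊥ := fun e => hnot (by rw [e]; infer_instance)
  have hP'p : IsPGroup 5 P' := P.isPGroup'.of_equiv (Subgroup.subgroupOfEquivOfLe hPN).symm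
  have hCne : P' ⊓ Subgroup.centralizer (P' : Set N) ≠ ⊥ := by
    intro e
    haveI : Nontrivial P' := (Subgroup.nontrivial_iff_ne_bot P').2 fun e' => hPne (by
      rw [hP', Subgroup.subgroupOf_eq_bot, disjoint_iff, inf_eq_left.2 hPN] at e'
      exact e')
    haveI := hP'p.center_nontrivial
    obtain ⟨z, hz⟩ := exists_ne (1 : Subgroup.center P')
    have : z.1.1 ∈ P' ⊓ Subgroup.centralizer (P' : Set N) := ⟨z.1.2, Subgroup.mem_centralizer_iff.2
      fun y hy => congrArg Subtype.val (Subgroup.mem_center_iff.1 z.2 ⟨y, hy⟩)⟩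
    rw [e, Subgroup.mem_bot] at this
    exact hz (Subtype.ext (Subtype.ext this))
  obtain ⟨Ws, hWn, hWne, hWle, hWmin⟩ := Grp.exists_minimal_normal_le hCne
  haveI := hWn
  have hWab : ∀ a ∈ Ws, ∀ b ∈ Ws, a * b = b * a := fun a ha b hb =>
    (Subgroup.mem_centralizer_iff.1 (hWle hb).2 a (hWle ha).1)
  haveI : Group.IsSolvable Ws := inferInstance
  obtain ⟨-, r, hr, hrp⟩ := Grp.minimal_normal_solvable (N := Ws) inferInstance hWne hWmin
  have hW : Elem 5 Ws := by
    refine ⟨hWn, hWab, ?_⟩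
    obtain ⟨x, hx, hx1⟩ := (Subgroup.ne_bot_iff_exists_ne_one.1 hWne) |> fun ⟨y, hy⟩ =>
      (⟨y.1, y.2, fun e => hy (Subtype.ext e)⟩ : ∃ x ∈ Ws, x ≠ 1)
    haveI := Fact.mk hr
    have h1 : orderOf x = r := orderOf_eq_prime (hrp x hx) hx1
    obtain ⟨k, hk⟩ := hP'p ⟨x, (hWle hx).1⟩
    have h2 : orderOf x ∣ 5 ^ k := orderOf_dvd_of_pow_eq_one (congrArg Subtype.val hk)
    rw [h1] at h2
    obtain rfl : r = 5 := (Nat.prime_dvd_prime_iff_eq hr (by norm_num)).1 (hr.dvd_of_dvd_pow h2)
    exact hrp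
  have hNrat : RatGroup N := by
    let π : N →* G ⧸ V := (QuotientGroup.mk' V).comp N.subtype
    have hπ : Function.Bijective π := by
      refine ⟨(injective_iff_map_eq_one π).2 fun x hx => ?_, fun y => ?_⟩
      · have h1 : x.1 ∈ V ⊓ N := ⟨(QuotientGroup.eq_one_iff x.1).1 hx, x.2⟩
        rw [hVN, Subgroup.mem_bot] at h1
        exact Subtype.ext h1
      · obtain ⟨g, rfl⟩ := QuotientGroup.mk'_surjective V y
        obtain ⟨w, hw, h, hh, rfl⟩ := hdec g
        refine ⟨⟨h, hh⟩, ?_⟩
        show QuotientGroup.mk' V h = QuotientGroup.mk' V (w * h)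
        rw [map_mul, show QuotientGroup.mk' V w = 1 from (QuotientGroup.eq_one_iff w).2 hw, one_mul]
    exact (hG.map (QuotientGroup.mk' V) (QuotientGroup.mk'_surjective V)).of_equiv
      (MulEquiv.ofBijective π hπ).symm
  haveI := EMod.nontrivial hW hWne
  haveI := EMod.nontrivial hV hVne
  have hirrW : ∀ Y : Submodule (ZMod 5) (EMod hW), (∀ g, ∀ y ∈ Y, conjRep hW g y ∈ Y) → Y = ⊥ ∨ Y = ⊤ :=
    fun Y hY => irreducible_of_minimal hW hWmin (H := ⊤)
      (fun g => ⟨g, trivial, fun _ _ => rfl⟩) Y fun h y hy => hY h.1 y hy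
  obtain ⟨B, hB, hBnd⟩ := exists_form (conjRep hW) hirrW fun g => hNrat.exists_inv g
  have halt : ∀ x, B x x = 0 := fun x => by
    refine form_self_eq_zero hB (k := (2 : ZMod 5)) (fun e => absurd ((ZMod.natCast_eq_zero_iff 3 5).1 (by push_cast; linear_combination e)) (by norm_num)) ?_
    have hc : (2 : ZMod 5).val.Coprime (orderOf (x.val hW)) :=
      Nat.Coprime.coprime_dvd_right (orderOf_dvd_of_pow_eq_one (hW.pow _ (x.val_mem hW)))
        (show Nat.Coprime 2 5 by norm_num)
    obtain ⟨g, hg⟩ := hNrat (x.val hW) _ hc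
    exact ⟨g, EMod.val_inj hW (by rw [val_conjRep, EMod.val_smul, hg])⟩
  set ρ : Representation (ZMod q) N (EMod hV) := conjRepOn hV N with hρdef
  have hirrV : ∀ Y : Submodule (ZMod q) (EMod hV), (∀ g, ∀ y ∈ Y, ρ g y ∈ Y) → Y = ⊥ ∨ Y = ⊤ :=
    irreducible_of_minimal hV hmin hact
  obtain ⟨B', hB', hB'nd⟩ := exists_form ρ hirrV fun g => hNrat.exists_inv g
  obtain ⟨f, ε, hε, hf, hsym, hfnd⟩ := exists_sym_form ρ hirrV hB' hB'nd
  refine no_five_action hq5 (fun x => ρ (x.val hW)) ?_ ?_ ?_ halt hBnd hε hsym hfnd (fun x v w => hf _ v w) ?_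
  · intro x y v
    simp only [EMod.val_add, map_mul, Module.End.mul_apply]
  · intro v
    simp only [EMod.val_zero, map_one, Module.End.one_apply]
  · intro v hv
    set w := v.val hV with hw
    by_contra hv0
    have hw1 : w ≠ 1 := fun e => hv0 ((EMod.val_eq_one hV).1 e)
    have hWc : ∀ x ∈ Ws, (x : G) * w = w * (x : G) := fun x hx => by
      have h1 := congrArg (EMod.val hV) (hv (EMod.mk hW hx))
      simp only [hρdef, val_conjRepOn, EMod.val_mk] at h1
      exact mul_inv_eq_iff_eq_mul.1 h1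
    set C : Subgroup G := V ⊓ Subgroup.centralizer ((Ws.map N.subtype : Subgroup G) : Set G) with hC
    have hCn : C.Normal := by
      refine ⟨fun x hx g => ?_⟩
      obtain ⟨h, hh, e⟩ := hact g
      rw [e x hx.1]
      refine ⟨hV.nor.conj_mem x hx.1 h, Subgroup.mem_centralizer_iff.2 ?_⟩
      rintro _ ⟨y, hy, rfl⟩
      have h1 := Subgroup.mem_centralizer_iff.1 hx.2 _
        (Subgroup.mem_map_of_mem N.subtype (hWn.conj_mem y hy ⟨h, hh⟩⁻¹))
      simp only [Subgroup.coe_subtype, Subgroup.coe_mul, Subgroup.coe_inv, inv_inv] at h1 ⊢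
      calc (y : G) * (h * x * h⁻¹) = h * (h⁻¹ * y * h * x) * h⁻¹ := by group
        _ = h * (x * (h⁻¹ * y * h)) * h⁻¹ := by rw [h1]
        _ = h * x * h⁻¹ * y := by group
    have hwC : w ∈ C := ⟨v.val_mem hV, Subgroup.mem_centralizer_iff.2 (by
      rintro _ ⟨y, hy, rfl⟩; exact hWc y hy)⟩
    rcases hmin C hCn inf_le_left with e | e
    · rw [e, Subgroup.mem_bot] at hwC; exact hw1 hwC
    obtain ⟨y, hy⟩ := Subgroup.ne_bot_iff_exists_ne_one.1 hWne
    refine hy (Subtype.ext (Subtype.ext (hPV y.1.1 (hWle y.2).1 fun a ha => ?_)))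
    have : a ∈ C := by rw [e]; exact ha
    exact Subgroup.mem_centralizer_iff.1 this.2 _ (Subgroup.mem_map_of_mem N.subtype y.2)
  · intro u v huv
    have h1 := congrArg (EMod.val hV) huv
    simp only [hρdef, val_conjRepOn] at h1
    set un : N := u.val hW with hun
    set w := v.val hV with hw
    have hc : Commute w (un : G) := (mul_inv_eq_iff_eq_mul.1 h1).symm
    have ho1 : orderOf w ∣ q := orderOf_dvd_of_pow_eq_one (hV.pow _ (v.val_mem hV))
    have ho2 : orderOf (un : G) ∣ 5 := by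
      rw [Subgroup.orderOf_coe]
      exact orderOf_dvd_of_pow_eq_one (hW.pow _ (u.val_mem hW))
    have hco : (orderOf w).Coprime (orderOf (un : G)) :=
      (((Nat.coprime_primes hq (by norm_num : (5 : ℕ).Prime)).2 hq5).coprime_dvd_left ho1).coprime_dvd_right ho2
    obtain ⟨g, hgw, hgu⟩ := hG.exists_parts hc hco (a := 1) (b := 2) (Nat.coprime_one_left _)
      ((show Nat.Coprime 2 5 by norm_num).coprime_dvd_right ho2)
    rw [pow_one] at hgw
    obtain ⟨z, hz, h, hh, rfl⟩ := hdec g
    have hhw : h * w * h⁻¹ = w := by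
      have hy := hV.nor.conj_mem w (v.val_mem hV) h
      rwa [show z * h * w * (z * h)⁻¹ = z * (h * w * h⁻¹) * z⁻¹ by group, hV.comm z hz _ hy,
        mul_inv_cancel_right] at hgw
    have hhu : h * un * h⁻¹ = (un : G) ^ 2 := by
      have e : h * un * h⁻¹ = z⁻¹ * (un : G) ^ 2 * z := by rw [← hgu]; group
      have hm : z⁻¹ * ((un : G) ^ 2 * z * ((un : G) ^ 2)⁻¹) ∈ V ⊓ N := by
        refine ⟨show _ ∈ V from mul_mem (inv_mem hz) (hV.nor.conj_mem z hz _), show _ ∈ N from ?_⟩
        rw [show z⁻¹ * ((un : G) ^ 2 * z * ((un : G) ^ 2)⁻¹) = z⁻¹ * (un : G) ^ 2 * z * ((un : G) ^ 2)⁻¹ by group, ← e]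
        exact mul_mem (mul_mem (mul_mem hh un.2) (inv_mem hh)) (inv_mem (pow_mem un.2 2))
      rw [hVN, Subgroup.mem_bot] at hm
      rw [e, ← mul_inv_eq_one, ← hm]
      group
    refine ⟨conjRep hW ⟨h, hh⟩, ρ ⟨h, hh⟩, EMod.val_inj hW ?_, EMod.val_inj hV ?_, hB _, fun x y => ?_, hf _⟩
    · refine Subtype.ext ?_
      rw [val_conjRep, EMod.val_smul, SubmonoidClass.coe_pow]
      exact hhu
    · rw [hρdef, val_conjRepOn]; exact hhw
    · refine EMod.val_inj hV ?_
      simp only [hρdef, val_conjRepOn, val_conjRep, Subgroup.coe_mul, Subgroup.coe_inv]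
      group

end Cfsg.Agent.DistinctSizes
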