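import Cfsg.Agent.Lib.Block.DistinctSizes.Quartic

/-!
# Covering groups of a plane normalising a quaternion group

`QPair i j` is a pair of anticommuting square roots of `-1`; its axes are the three pairs
`±i`, `±j`, `±ij`.
-/

set_option autoImplicit false

set_option linter.unusedSectionVars false

namespace Cfsg.Agent.DistinctSizes

universe u

variable {p : ℕ} [hp : Fact p.Prime] {W : Type u} [AddCommGroup W] [Module (ZMod p) W]

/-- two anticommuting square roots of `-1` -/
structure QPair (i j : W ≃ₗ[ZMod p] W) : Prop where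
  ii : ∀ w, i (i w) = -w
  jj : ∀ w, j (j w) = -w
  ij : ∀ w, i (j w) = -(j (i w))

/-- representatives of the three axes -/
def axis (i j : W ≃ₗ[ZMod p] W) : Fin 3 → (W ≃ₗ[ZMod p] W) := ![i, j, i * j]

/-- `g` maps axis `a` to axis `b` -/
def MapsAxis (i j g : W ≃ₗ[ZMod p] W) (a b : Fin 3) : Prop :=
  (∀ w, g (axis i j a w) = axis i j b (g w)) ∨ ∀ w, g (axis i j a w) = -axis i j b (g w)

/-- `g` permutes the axes -/
def NormAxes (i j g : W ≃ₗ[ZMod p] W) : Prop := ∀ a, ∃ b, MapsAxis i j g a b

/-- the trace of `z` on a plane, read off from `z + z⁻¹` -/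
def HasTrace (z : W ≃ₗ[ZMod p] W) (t : ZMod p) : Prop := ∀ w, z w + z⁻¹ w = t • w

theorem inv_apply' (g : W ≃ₗ[ZMod p] W) (w : W) : g⁻¹ (g w) = w := g.symm_apply_apply w

theorem apply_inv' (g : W ≃ₗ[ZMod p] W) (w : W) : g (g⁻¹ w) = w := g.apply_symm_apply w

namespace Cover

variable [Finite W] {B : LinearMap.BilinForm (ZMod p) W} {Γ : Subgroup (W ≃ₗ[ZMod p] W)} (h : Cover B Γ)
include h

theorem two_ne : (2 : ZMod p) ≠ 0 := by
  simpa using h.natCast_ne_zero (n := 2) (by norm_num) (by norm_num)

theorem eq_zero_of_eq_neg {w : W} (e : w = -w) : w = 0 := by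
  have : (2 : ZMod p) • w = 0 := by rw [two_smul]; nth_rw 1 [e]; exact neg_add_cancel w
  exact (smul_eq_zero.1 this).resolve_left h.two_ne

section Axes

variable {i j : W ≃ₗ[ZMod p] W} (hq : QPair i j)
include hq

theorem axis_apply_self (a : Fin 3) (w : W) : axis i j a (axis i j a w) = -w := by
  fin_cases a
  · exact hq.ii w
  · exact hq.jj w
  · show i (j (i (j w))) = -w
    rw [show j (i (j w)) = -(i (j (j w))) by rw [hq.ij (j w), neg_neg], hq.jj, map_neg, map_neg,
      map_neg, neg_neg, hq.ii]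

theorem axis_anti {a b : Fin 3} (hab : a ≠ b) (w : W) :
    axis i j a (axis i j b w) = -axis i j b (axis i j a w) := by
  have hji : ∀ w, j (i w) = -(i (j w)) := fun w => by rw [hq.ij, neg_neg]
  fin_cases a <;> fin_cases b <;> first | exact absurd rfl hab | skip
  · exact hq.ij w
  · show i (i (j w)) = -i (j (i w))
    rw [hji, map_neg, neg_neg]
  · exact hji w
  · show j (i (j w)) = -i (j (j w))
    exact hji _
  · show i (j (i w)) = -i (i (j w))
    rw [hji, map_neg]
  · show i (j (j w)) = -j (i (j w))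
    rw [hji (j w), neg_neg]

theorem mapsAxis_unique [Nontrivial W] {g : W ≃ₗ[ZMod p] W} {a b b' : Fin 3} (hb : MapsAxis i j g a b)
    (hb' : MapsAxis i j g a b') : b = b' := by
  by_contra hne
  have e : (∀ w, axis i j b w = axis i j b' w) ∨ ∀ w, axis i j b w = -axis i j b' w := by
    rcases hb with e | e <;> rcases hb' with e' | e'
    · exact Or.inl fun w => by have := (e (g⁻¹ w)).symm.trans (e' (g⁻¹ w)); rwa [apply_inv'] at this
    · exact Or.inr fun w => by have := (e (g⁻¹ w)).symm.trans (e' (g⁻¹ w)); rwa [apply_inv'] at this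
    · exact Or.inr fun w => by
        have := (e (g⁻¹ w)).symm.trans (e' (g⁻¹ w)); rw [apply_inv'] at this; exact neg_eq_iff_eq_neg.1 this
    · exact Or.inl fun w => by
        have := (e (g⁻¹ w)).symm.trans (e' (g⁻¹ w)); rw [apply_inv'] at this; exact neg_injective this
  obtain ⟨w, hw⟩ := exists_ne (0 : W)
  refine hw (neg_eq_zero.1 (h.eq_zero_of_eq_neg ?_))
  have h1 := h.axis_anti hq hne w
  rcases e with e | e
  · rw [← e w, ← e, h.axis_apply_self hq] at h1; (simp at h1 ⊢; exact h1)
  · rw [← neg_eq_iff_eq_neg.2 (e (axis i j b w)), ← neg_eq_iff_eq_neg.2 (e w), map_neg,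
      h.axis_apply_self hq] at h1
    simp at h1 ⊢
    exact h1.symm

end Axes

variable (hdim : Module.finrank (ZMod p) W = 2)
include hdim

theorem nontrivial : Nontrivial W := Module.nontrivial_of_finrank_pos (R := ZMod p) (by omega)

theorem partner {v : W} (hv : v ≠ 0) : ∃ u, B v u ≠ 0 := by
  by_contra hc
  push Not at hc
  exact hv (h.nd v hc)

theorem expand {v u : W} (huv : B v u ≠ 0) (w : W) :
    w = ((B w u) / (B v u)) • v + ((B v w) / (B v u)) • u := by
  haveI : FiniteDimensional (ZMod p) W := Module.Finite.of_finite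
  have hli : LinearIndependent (ZMod p) ![v, u] := by
    rw [LinearIndependent.pair_iff]
    intro s t hst
    have h1 := congrArg (B v) hst
    have h2 := congrArg (fun x => B x u) hst
    simp only [map_add, map_smul, LinearMap.add_apply, LinearMap.smul_apply, smul_eq_mul, map_zero,
      LinearMap.zero_apply, h.alt v, h.alt u, mul_zero, zero_add, add_zero] at h1 h2
    exact ⟨(mul_eq_zero.1 h2).resolve_right huv, (mul_eq_zero.1 h1).resolve_right huv⟩
  have hsp := hli.span_eq_top_of_card_eq_finrank' (by simp [hdim])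
  have hw : w ∈ Submodule.span (ZMod p) (Set.range ![v, u]) := hsp ▸ Submodule.mem_top
  rw [Submodule.mem_span_range_iff_exists_fun] at hw
  obtain ⟨c, hc⟩ := hw
  simp only [Fin.sum_univ_two, Matrix.cons_val_zero, Matrix.cons_val_one, Matrix.head_cons] at hc
  subst hc
  simp only [map_add, map_smul, LinearMap.add_apply, LinearMap.smul_apply, smul_eq_mul, h.alt v,
    h.alt u, mul_zero, zero_add, add_zero]
  rw [mul_div_cancel_right₀ _ huv, mul_div_cancel_right₀ _ huv]

/-- a `p'`-isometry fixing a nonzero vector of the plane is trivial -/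
theorem eq_one_of_fixed {g : W ≃ₗ[ZMod p] W} (hg : g ∈ Γ) {v : W} (hv : v ≠ 0) (hgv : g v = v) :
    g = 1 := by
  obtain ⟨u, hu⟩ := h.partner hdim hv
  set c := B (g u) u / B v u
  have hgu : g u = c • v + u := by
    conv_lhs => rw [h.expand hdim hu (g u)]
    rw [show B v (g u) = B v u by nth_rw 1 [← hgv]; exact h.inv g hg v u, div_self hu, one_smul]
  have hpow : ∀ n : ℕ, (g ^ n) u = ((n : ZMod p) * c) • v + u := by
    intro n
    induction n with
    | zero => simp
    | succ n ih =>
      rw [pow_succ', LinearEquiv.mul_apply, ih, map_add, map_smul, hgv, hgu, ← add_assoc, ← add_smul]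
      congr 2
      push_cast
      ring
  have hn := hpow (orderOf (⟨g, hg⟩ : Γ))
  rw [show g ^ orderOf (⟨g, hg⟩ : Γ) = 1 from congrArg Subtype.val (pow_orderOf_eq_one (⟨g, hg⟩ : Γ)),
    LinearEquiv.coe_one, id_eq, right_eq_add] at hn
  have hc : c = 0 := (mul_eq_zero.1 ((smul_eq_zero.1 hn).resolve_right hv)).resolve_left fun e =>
    h.cop (((ZMod.natCast_eq_zero_iff _ p).1 e).trans (orderOf_dvd_natCard _))
  refine LinearEquiv.ext fun w => ?_
  rw [LinearEquiv.coe_one, id_eq, h.expand hdim hu w, map_add, map_smul, map_smul, hgv, hgu, hc,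
    zero_smul, zero_add]

theorem eq_of_apply {g g' : W ≃ₗ[ZMod p] W} (hg : g ∈ Γ) (hg' : g' ∈ Γ) {v : W} (hv : v ≠ 0)
    (e : g v = g' v) : g = g' :=
  (inv_mul_eq_one.1 (h.eq_one_of_fixed hdim (Γ.mul_mem (Γ.inv_mem hg') hg) hv
    (by rw [LinearEquiv.mul_apply, e, inv_apply']))).symm

/-- an involution of the plane is `-1` -/
theorem sq_one {g : W ≃ₗ[ZMod p] W} (hg : g ∈ Γ) (hsq : ∀ w, g (g w) = w) :
    g = 1 ∨ ∀ w, g w = -w := by
  by_cases hex : ∃ w, w + g w ≠ 0
  · obtain ⟨w, hw⟩ := hex
    exact Or.inl (h.eq_one_of_fixed hdim hg hw (by rw [map_add, hsq, add_comm]))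
  · push Not at hex
    exact Or.inr fun w => eq_neg_of_add_eq_zero_right (hex w)

theorem exists_hasTrace {g : W ≃ₗ[ZMod p] W} (hg : g ∈ Γ) : ∃ t, HasTrace g t := by
  haveI := h.nontrivial hdim
  obtain ⟨v, hv⟩ := exists_ne (0 : W)
  obtain ⟨u, hu⟩ := h.partner hdim hv
  have hT : ∀ a b, B (g a + g⁻¹ a) b = B a (g b + g⁻¹ b) := fun a b => by
    rw [map_add, LinearMap.add_apply, map_add, add_comm (B a (g b))]
    congr 1
    · conv_lhs => rw [← apply_inv' g b, h.inv g hg]
    · conv_rhs => rw [← h.inv g⁻¹ (Γ.inv_mem hg) a (g b), inv_apply']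
  have hz : ∀ a, B (g a + g⁻¹ a) a = 0 := fun a => by
    have h1 := hT a a
    rw [h.skew (g a + g⁻¹ a) a] at h1
    exact (mul_eq_zero.1 (show (2 : ZMod p) * B (g a + g⁻¹ a) a = 0 by linear_combination h1)).resolve_left
      h.two_ne
  set t := B (g v + g⁻¹ v) u / B v u
  have hv' : g v + g⁻¹ v = t • v := by
    conv_lhs => rw [h.expand hdim hu (g v + g⁻¹ v)]
    rw [h.skew (g v + g⁻¹ v) v, hz v, neg_zero, zero_div, zero_smul, add_zero]
  have hu' : g u + g⁻¹ u = t • u := by
    conv_lhs => rw [h.expand hdim hu (g u + g⁻¹ u)]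
    rw [hz u, zero_div, zero_smul, zero_add, ← hT v u]
  refine ⟨t, fun w => ?_⟩
  rw [h.expand hdim hu w, map_add, map_smul, map_smul, map_add, map_smul, map_smul, add_add_add_comm,
    ← smul_add, ← smul_add, hv', hu', smul_add, smul_comm t, smul_comm t]

variable {i j : W ≃ₗ[ZMod p] W} (hq : QPair i j)
include hq

/-- an operator commuting with both roots is a scalar -/
theorem exists_scalar (T : W →ₗ[ZMod p] W) (hi : ∀ w, T (i w) = i (T w))
    (hj : ∀ w, T (j w) = j (T w)) : ∃ c : ZMod p, ∀ w, T w = c • w := by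
  haveI := h.nontrivial hdim
  obtain ⟨α, β, hab⟩ := ZMod.sq_add_sq p (-1)
  set a : W → W := fun w => α • i w + β • j w with ha
  set k : W → W := fun w => i (j w) with hk
  have hji : ∀ w, j (i w) = -(i (j w)) := fun w => by rw [hq.ij, neg_neg]
  have haa : ∀ w, a (a w) = w := fun w => by
    simp only [ha, map_add, map_smul, hq.ii, hq.jj, hji, smul_add, smul_smul, smul_neg]
    have h1 : α * α + β * β = -1 := by rw [← sq, ← sq]; exact hab
    rw [mul_comm β α, show -((α * α) • w) + (α * β) • i (j w) + (-((α * β) • i (j w)) + -((β * β) • w)) =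
      -((α * α + β * β) • w) by rw [add_smul]; abel, h1]
    simp
  have hak : ∀ w, a (k w) = -k (a w) := fun w => by
    simp only [ha, hk, map_add, map_smul]
    rw [show j (i (j w)) = i w by rw [hji, hq.jj, map_neg, neg_neg],
      show j (j w) = -w from hq.jj w, show i (i (j w)) = -j w from hq.ii _,
      show j (i w) = -(i (j w)) from hji w]
    simp only [map_neg, hq.ii, smul_neg, neg_add_rev, neg_neg]
    abel
  have hkinj : ∀ w, k w = 0 → w = 0 := fun w e => by
    simpa [hk] using e
  obtain ⟨v, hv, hav⟩ : ∃ v, v ≠ 0 ∧ a v = v := by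
    by_contra hc
    push Not at hc
    obtain ⟨w, hw⟩ := exists_ne (0 : W)
    have hneg : ∀ x, a x = -x := fun x => by
      by_contra hne
      refine hc (x + a x) (fun e => hne (eq_neg_of_add_eq_zero_right e)) ?_
      rw [show a (x + a x) = a x + a (a x) by simp only [ha, map_add, smul_add]; abel, haa, add_comm]
    have := hak w
    rw [hneg, hneg] at this
    simp only [hk, map_neg, neg_neg] at this
    exact hw (hkinj w (h.eq_zero_of_eq_neg this.symm))
  set u := k v with hu
  have hau : a u = -u := by rw [hu, hak, hav]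
  have hli : LinearIndependent (ZMod p) ![v, u] := by
    rw [LinearIndependent.pair_iff]
    intro s t hst
    have h1 : a (s • v + t • u) = s • v - t • u := by
      have : a (s • v + t • u) = s • a v + t • a u := by
        simp only [ha, map_add, map_smul, smul_add]; rw [smul_comm α s, smul_comm α t, smul_comm β s,
          smul_comm β t]; abel
      rw [this, hav, hau, smul_neg, sub_eq_add_neg]
    rw [hst, show a 0 = 0 by simp [ha]] at h1
    have h2 : (2 : ZMod p) • (s • v) = 0 := by
      rw [two_smul]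
      linear_combination (norm := abel) hst - h1
    have hs : s = 0 := (smul_eq_zero.1 ((smul_eq_zero.1 h2).resolve_left h.two_ne)).resolve_right hv
    rw [hs, zero_smul, zero_add] at hst
    exact ⟨hs, (smul_eq_zero.1 hst).resolve_right fun e => hv (hkinj v e)⟩
  haveI : FiniteDimensional (ZMod p) W := Module.Finite.of_finite
  have hsp := hli.span_eq_top_of_card_eq_finrank' (by simp [hdim])
  have hex : ∀ w, ∃ s t : ZMod p, w = s • v + t • u := fun w => by
    have hw : w ∈ Submodule.span (ZMod p) (Set.range ![v, u]) := hsp ▸ Submodule.mem_top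
    rw [Submodule.mem_span_range_iff_exists_fun] at hw
    obtain ⟨c, hc⟩ := hw
    simp only [Fin.sum_univ_two, Matrix.cons_val_zero, Matrix.cons_val_one, Matrix.head_cons] at hc
    exact ⟨c 0, c 1, hc.symm⟩
  obtain ⟨c, d, hcd⟩ := hex (T v)
  have hTa : a (T v) = T v := by
    conv_rhs => rw [← hav]
    simp only [ha, map_add, map_smul, hi, hj]
  have hd : d = 0 := by
    rw [hcd, show a (c • v + d • u) = c • a v + d • a u by
      simp only [ha, map_add, map_smul, smul_add]; rw [smul_comm α c, smul_comm α d, smul_comm β c,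
        smul_comm β d]; abel, hav, hau, smul_neg] at hTa
    have := h.eq_zero_of_eq_neg (add_left_cancel hTa).symm
    exact (smul_eq_zero.1 this).resolve_right fun e => hv (hkinj v e)
  have hTv : T v = c • v := by rw [hcd, hd, zero_smul, add_zero]
  refine ⟨c, fun w => ?_⟩
  obtain ⟨s, t, rfl⟩ := hex w
  rw [map_add, map_smul, map_smul, hTv, show T u = c • u by
    simp only [hu, hk, hi, hj, hTv, map_smul], smul_add, smul_comm c s, smul_comm c t]

/-- an element fixing all axes is a signed axis or a sign -/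
theorem fixes_all {g : W ≃ₗ[ZMod p] W} (hi : i ∈ Γ) (hj : j ∈ Γ) (hg : g ∈ Γ)
    (hfix : ∀ a, MapsAxis i j g a a) :
    (∀ w, g w = w) ∨ (∀ w, g w = -w) ∨
      ∃ a, (∀ w, g w = axis i j a w) ∨ ∀ w, g w = -axis i j a w := by
  haveI := h.nontrivial hdim
  have hax : ∀ a, axis i j a ∈ Γ := fun a => by
    fin_cases a
    · exact hi
    · exact hj
    · exact Γ.mul_mem hi hj
  have key : ∀ T : W ≃ₗ[ZMod p] W, T ∈ Γ → (∀ w, T (i w) = i (T w)) → (∀ w, T (j w) = j (T w)) →
      (∀ w, T w = w) ∨ ∀ w, T w = -w := by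
    intro T hT h1 h2
    obtain ⟨c, hc⟩ := h.exists_scalar hdim hq (T : W →ₗ[ZMod p] W) h1 h2
    obtain ⟨v, hv⟩ := exists_ne (0 : W)
    obtain ⟨u, hu⟩ := h.partner hdim hv
    have hcT : ∀ w, T w = c • w := hc
    have h3 := h.inv T hT v u
    rw [hcT, hcT, map_smul, map_smul, LinearMap.smul_apply, smul_eq_mul, smul_eq_mul, ← mul_assoc,
      mul_eq_right₀ hu, mul_self_eq_one_iff] at h3
    rcases h3 with rfl | rfl
    · exact Or.inl fun w => by rw [hcT, one_smul]
    · exact Or.inr fun w => by rw [hcT, neg_one_smul]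
  -- multiply by an axis to kill the signs
  have hprod : ∀ a, ((∀ w, g (i w) = i (g w)) ↔ ∀ w, axis i j a (i w) = i (axis i j a w)) →
      ((∀ w, g (j w) = j (g w)) ↔ ∀ w, axis i j a (j w) = j (axis i j a w)) →
      ∃ a, (∀ w, g w = axis i j a w) ∨ ∀ w, g w = -axis i j a w := by
    intro a h1 h2
    have hstep : ∀ (x : W ≃ₗ[ZMod p] W), ((∀ w, g (x w) = x (g w)) ∨ ∀ w, g (x w) = -x (g w)) →
        ((∀ w, axis i j a (x w) = x (axis i j a w)) ∨ ∀ w, axis i j a (x w) = -x (axis i j a w)) →
        ((∀ w, g (x w) = x (g w)) ↔ ∀ w, axis i j a (x w) = x (axis i j a w)) →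
        ∀ w, (g * axis i j a) (x w) = x ((g * axis i j a) w) := by
      intro x hgx hax' hiff w
      simp only [LinearEquiv.mul_apply]
      rcases hax' with e | e
      · rw [e, hiff.2 e]
      · rw [e, map_neg]
        rcases hgx with e' | e'
        · exfalso
          obtain ⟨z, hz⟩ := exists_ne (0 : W)
          exact hz (by simpa using h.eq_zero_of_eq_neg ((hiff.1 e' z).symm.trans (e z)))
        · rw [e', neg_neg]
    have h3 := key _ (Γ.mul_mem hg (hax a))
      (hstep i (hfix 0) (by
        fin_cases a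
        · exact Or.inl fun w => rfl
        · exact Or.inr fun w => h.axis_anti hq (a := 1) (b := 0) (by decide) w
        · exact Or.inr fun w => h.axis_anti hq (a := 2) (b := 0) (by decide) w) h1)
      (hstep j (hfix 1) (by
        fin_cases a
        · exact Or.inr fun w => h.axis_anti hq (a := 0) (b := 1) (by decide) w
        · exact Or.inl fun w => rfl
        · exact Or.inr fun w => h.axis_anti hq (a := 2) (b := 1) (by decide) w) h2)
    refine ⟨a, ?_⟩
    have hg' : ∀ w, g w = -(g * axis i j a) (axis i j a w) := fun w => by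
      rw [LinearEquiv.mul_apply, h.axis_apply_self hq, map_neg, neg_neg]
    rcases h3 with e | e
    · exact Or.inr fun w => by rw [hg', e]
    · exact Or.inl fun w => by rw [hg', e, neg_neg]
  have hne : ∀ (x : W ≃ₗ[ZMod p] W) (f : W ≃ₗ[ZMod p] W), (∀ w, f (x w) = -x (f w)) →
      ¬ ∀ w, f (x w) = x (f w) := by
    intro x f e e'
    obtain ⟨z, hz⟩ := exists_ne (0 : W)
    exact hz (by simpa using h.eq_zero_of_eq_neg ((e' z).symm.trans (e z)))
  have hn10 : ¬ ∀ w, axis i j 1 (i w) = i (axis i j 1 w) :=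
    hne _ _ fun w => h.axis_anti hq (a := 1) (b := 0) (by decide) w
  have hn20 : ¬ ∀ w, axis i j 2 (i w) = i (axis i j 2 w) :=
    hne _ _ fun w => h.axis_anti hq (a := 2) (b := 0) (by decide) w
  have hn01 : ¬ ∀ w, axis i j 0 (j w) = j (axis i j 0 w) :=
    hne _ _ fun w => h.axis_anti hq (a := 0) (b := 1) (by decide) w
  have hn21 : ¬ ∀ w, axis i j 2 (j w) = j (axis i j 2 w) :=
    hne _ _ fun w => h.axis_anti hq (a := 2) (b := 1) (by decide) w
  by_cases hci : ∀ w, g (i w) = i (g w) <;> by_cases hcj : ∀ w, g (j w) = j (g w)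
  · exact (key g hg hci hcj).imp_right Or.inl
  · exact Or.inr (Or.inr (hprod 0 (iff_of_true hci fun w => rfl) (iff_of_false hcj hn01)))
  · exact Or.inr (Or.inr (hprod 1 (iff_of_false hci hn10) (iff_of_true hcj fun w => rfl)))
  · exact Or.inr (Or.inr (hprod 2 (iff_of_false hci hn20) (iff_of_false hcj hn21)))

end Cover

end Cfsg.Agent.DistinctSizes
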