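import Cfsg.Agent.Lib.Block.DistinctSizes.Basic
import Cfsg.Agent.Lib.Block.DistinctSizes.Plane

/-!
# No real transitive group on the plane of twenty-five points
-/

set_option autoImplicit false

set_option linter.unusedSectionVars false

namespace Cfsg.Agent.DistinctSizes

universe u

theorem norm_one_card :
    (Finset.univ.filter fun xt : ZMod 5 × ZMod 5 => xt.1 * xt.1 - xt.1 * xt.2 + xt.2 * xt.2 = 1).card = 6 := by
  decide +kernel

theorem cube_root_five : ∀ c : ZMod 5, c * c * c = 1 → c = 1 := by decide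

variable [hp : Fact (Nat.Prime 5)] {W : Type u} [AddCommGroup W] [Module (ZMod 5) W] [Finite W]
  {B : LinearMap.BilinForm (ZMod 5) W} {Γ : Subgroup (W ≃ₗ[ZMod 5] W)}

theorem Cover.false_of_regular (h : Cover B Γ) (hdim : Module.finrank (ZMod 5) W = 2)
    (htrans : ∀ v w : W, v ≠ 0 → w ≠ 0 → ∃ g ∈ Γ, g v = w)
    {r k : Γ} (hr3 : r ^ 3 = 1) (hr1 : r ≠ 1) (hk : k * r * k⁻¹ = r⁻¹) : False := by
  classical
  haveI := h.nontrivial hdim
  obtain ⟨v₀, hv₀⟩ := exists_ne (0 : W)
  have hext : ∀ g g' : Γ, g.1 v₀ = g'.1 v₀ → g = g' := fun g g' e =>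
    Subtype.ext (h.eq_of_apply hdim g.2 g'.2 hv₀ e)
  have h24 : Nat.card Γ = 24 := by
    have hcW : Nat.card W = 25 := by
      rw [Module.natCard_eq_pow_finrank (K := ZMod 5), hdim, Nat.card_zmod]; rfl
    let f : Γ → {w : W // w ≠ 0} := fun g => ⟨g.1 v₀, fun e => hv₀ (g.1.map_eq_zero_iff.1 e)⟩
    have hf : Function.Bijective f := ⟨fun g g' e => hext g g' (congrArg Subtype.val e), fun w => by
      obtain ⟨g, hg, e⟩ := htrans v₀ w.1 hv₀ w.2
      exact ⟨⟨g, hg⟩, Subtype.ext e⟩⟩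
    haveI := Fintype.ofFinite W
    rw [Nat.card_congr (Equiv.ofBijective f hf), Nat.card_eq_fintype_card, Fintype.card_subtype_compl,
      Fintype.card_subtype_eq, ← Nat.card_eq_fintype_card, hcW]
  have hr2 : r⁻¹ = r * r := by
    rw [inv_eq_iff_mul_eq_one, ← mul_assoc, ← pow_two, ← pow_succ, hr3]
  have hrr : r ≠ r⁻¹ := fun e => hr1 (by
    have h2 : r * r = r := hr2.symm.trans e.symm
    exact mul_left_cancel (h2.trans (mul_one r).symm))
  set C := Subgroup.centralizer ({r} : Set Γ)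
  have hC : ∀ {c}, c ∈ C ↔ c * r = r * c := fun {c} => Subgroup.mem_centralizer_singleton_iff
  -- the plane as a module over the cube roots of unity
  set β := B v₀ (r.1 v₀) with hβ
  have hr3' : ∀ w, r.1 (r.1 (r.1 w)) = w := fun w => by
    have := LinearEquiv.congr_fun (congrArg Subtype.val hr3) w
    simpa [pow_succ, LinearEquiv.mul_apply] using this
  have hβ0 : β ≠ 0 := by
    intro e
    obtain ⟨u, hu⟩ := h.partner hdim hv₀
    have h1 := h.expand hdim hu (r.1 v₀)
    rw [← hβ, e, zero_div, zero_smul, add_zero] at h1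
    set c := B (r.1 v₀) u / B v₀ u
    have h2 := hr3' v₀
    rw [h1, map_smul, h1, smul_smul, map_smul, h1, smul_smul] at h2
    have h3 : c * c * c = 1 := smul_left_injective (ZMod 5) hv₀ (h2.trans (one_smul _ v₀).symm)
    rw [cube_root_five c h3, one_smul] at h1
    exact hr1 (hext r 1 (by rw [h1]; rfl))
  have hsum : r.1 (r.1 v₀) = -v₀ - r.1 v₀ := by
    have hw : r.1 (v₀ + r.1 v₀ + r.1 (r.1 v₀)) = v₀ + r.1 v₀ + r.1 (r.1 v₀) := by
      rw [map_add, map_add, hr3']; abel
    by_cases hz : v₀ + r.1 v₀ + r.1 (r.1 v₀) = 0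
    · linear_combination (norm := module) hz
    · exact absurd (Subtype.ext (h.eq_one_of_fixed hdim r.2 hz hw)) hr1
  have hC6 : Nat.card C ≤ 6 := by
    let S := Finset.univ.filter fun xt : ZMod 5 × ZMod 5 => xt.1 * xt.1 - xt.1 * xt.2 + xt.2 * xt.2 = 1
    let co : C → ZMod 5 × ZMod 5 := fun c => (B (c.1.1 v₀) (r.1 v₀) / β, B v₀ (c.1.1 v₀) / β)
    have hco : ∀ c : C, c.1.1 v₀ = (co c).1 • v₀ + (co c).2 • r.1 v₀ := fun c =>
      h.expand hdim hβ0 (c.1.1 v₀)
    have hmem : ∀ c : C, co c ∈ S := by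
      intro c
      refine Finset.mem_filter.2 ⟨Finset.mem_univ _, ?_⟩
      have hcr : c.1.1 (r.1 v₀) = r.1 (c.1.1 v₀) :=
        LinearEquiv.congr_fun (congrArg Subtype.val (hC.1 c.2)) v₀
      have h1 := h.inv c.1.1 c.1.2 v₀ (r.1 v₀)
      rw [hcr, hco c] at h1
      have hskew : B (r.1 v₀) v₀ = -β := h.skew v₀ (r.1 v₀)
      simp only [map_sub, map_neg, map_add, map_smul, hsum, LinearMap.add_apply, LinearMap.sub_apply, LinearMap.neg_apply,
        LinearMap.smul_apply, smul_eq_mul, h.alt, hskew, ← hβ] at h1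
      exact mul_right_cancel₀ hβ0 (by linear_combination h1)
    have hinj : Function.Injective co := fun a b e => Subtype.ext (hext a.1 b.1 (by rw [hco, hco, e]))
    have h1 := Nat.card_le_card_of_injective (fun c => (⟨co c, hmem c⟩ : S))
      fun a b e => hinj (congrArg Subtype.val e)
    rw [Nat.card_eq_fintype_card (α := S), Fintype.card_coe, norm_one_card] at h1
    exact h1
  obtain ⟨n, hn⟩ : ∃ n : Γ, ∀ w, n.1 w = -w := by
    obtain ⟨g, hg, e⟩ := htrans v₀ (-v₀) hv₀ (neg_ne_zero.2 hv₀)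
    refine ⟨⟨g, hg⟩, (h.sq_one hdim hg ?_).resolve_left fun e1 => ?_⟩
    · intro w
      rw [← LinearEquiv.mul_apply, h.eq_one_of_fixed hdim (Γ.mul_mem hg hg) hv₀
        (by rw [LinearEquiv.mul_apply, e, map_neg, e, neg_neg])]
      rfl
    · rw [e1] at e
      exact hv₀ (h.eq_zero_of_eq_neg (show v₀ = -v₀ from e))
  have hnC : n ∈ C := hC.2 (Subtype.ext (LinearEquiv.ext fun w => by
    show n.1 (r.1 w) = r.1 (n.1 w)
    rw [hn, hn, map_neg]))
  have hn2 : orderOf n = 2 := orderOf_eq_prime (Subtype.ext (LinearEquiv.ext fun w => by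
      show (n.1 ^ 2) w = w
      rw [pow_two, LinearEquiv.mul_apply, hn, hn, neg_neg]))
    fun e => hv₀ (h.eq_zero_of_eq_neg (by
      have := hn v₀; rw [e] at this; exact this))
  have hr : orderOf r = 3 := orderOf_eq_prime hr3 hr1
  have hC' : Nat.card C = 6 := by
    have h2 : 2 ∣ Nat.card C := hn2 ▸ Subgroup.orderOf_dvd_natCard C hnC
    have h3 : 3 ∣ Nat.card C := hr ▸ Subgroup.orderOf_dvd_natCard C (hC.2 rfl)
    have := Nat.card_pos (α := C)
    omega
  -- the elements fixing or inverting `r`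
  let N : Subgroup Γ :=
    { carrier := {g | g * r * g⁻¹ = r ∨ g * r * g⁻¹ = r⁻¹}
      one_mem' := Or.inl (by group)
      mul_mem' := by
        intro a b ha hb
        show a * b * r * (a * b)⁻¹ = r ∨ a * b * r * (a * b)⁻¹ = r⁻¹
        rw [show a * b * r * (a * b)⁻¹ = a * (b * r * b⁻¹) * a⁻¹ by group]
        rcases hb with e | e
        · rw [e]; exact ha
        · rw [e, ← conj_inv]
          rcases ha with f | f
          · exact Or.inr (by rw [f])
          · exact Or.inl (by rw [f, inv_inv])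
      inv_mem' := by
        intro a ha
        show a⁻¹ * r * a⁻¹⁻¹ = r ∨ a⁻¹ * r * a⁻¹⁻¹ = r⁻¹
        rcases ha with f | f
        · left; nth_rw 1 [← f]; group
        · right
          have f' : a * r⁻¹ * a⁻¹ = r := by rw [← conj_inv, f, inv_inv]
          nth_rw 1 [← f']; group }
  have hCN : C ≤ N := fun c hc => Or.inl (by rw [hC.1 hc, mul_inv_cancel_right])
  have hkC : k ∉ C := fun hc => hrr (by rw [← hk, hC.1 hc, mul_inv_cancel_right])
  have hN12 : Nat.card N ≤ 12 := by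
    let f : C ⊕ C → N := Sum.elim (fun c => ⟨c.1, hCN c.2⟩) fun c => ⟨k * c.1, N.mul_mem (Or.inr hk) (hCN c.2)⟩
    have hf : Function.Surjective f := by
      rintro ⟨g, hg⟩
      rcases hg with e | e
      · exact ⟨Sum.inl ⟨g, hC.2 (mul_inv_eq_iff_eq_mul.1 e)⟩, rfl⟩
      · refine ⟨Sum.inr ⟨k⁻¹ * g, hC.2 ?_⟩, Subtype.ext (by show k * (k⁻¹ * g) = g; group)⟩
        have e1 : k⁻¹ * r⁻¹ * k = r := by rw [← hk]; group
        calc k⁻¹ * g * r = k⁻¹ * (g * r * g⁻¹) * k * (k⁻¹ * g) := by group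
          _ = r * (k⁻¹ * g) := by rw [e, e1]
    have := Nat.card_le_card_of_surjective f hf
    rw [Nat.card_sum, hC'] at this
    exact this
  have hN2 : N.index = 2 := by
    have hlt : C < N := lt_of_le_of_ne hCN fun e => hkC (e ▸ Or.inr hk)
    have h6 : Nat.card C < Nat.card N := by
      by_contra hle
      exact hlt.ne (Subgroup.eq_of_le_of_card_ge hCN (not_lt.1 hle))
    have hd := Subgroup.card_dvd_of_le hCN
    rw [hC'] at hd h6
    have h1 := N.index_mul_card
    rw [h24, show Nat.card N = 12 by omega] at h1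
    omega
  haveI := Subgroup.normal_of_index_eq_two hN2
  have hsub : ∀ x ∈ C, x ^ 3 = 1 → x = 1 ∨ x = r ∨ x = r⁻¹ := by
    intro x hx hx3
    have hidx : (Subgroup.zpowers (⟨r, hC.2 rfl⟩ : C)).index = 2 := by
      have h1 := (Subgroup.zpowers (⟨r, hC.2 rfl⟩ : C)).index_mul_card
      rw [Nat.card_zpowers, Subgroup.orderOf_mk, hr, hC'] at h1
      omega
    have hodd : Odd (orderOf (⟨x, hx⟩ : C)) :=
      Odd.of_dvd_nat (by decide : Odd 3) (orderOf_dvd_of_pow_eq_one (Subtype.ext (by simpa using hx3)))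
    have h1 := mem_of_odd_of_index_two hidx hodd
    rw [← mem_powers_iff_mem_zpowers, Submonoid.mem_powers_iff] at h1
    obtain ⟨m, hm⟩ := h1
    have hm' : x = r ^ (m % 3) := by
      rw [← hr, pow_mod_orderOf]; exact (congrArg Subtype.val hm).symm
    have : m % 3 < 3 := Nat.mod_lt m (by norm_num)
    interval_cases m % 3
    · exact Or.inl (hm'.trans (pow_zero r))
    · exact Or.inr (Or.inl (hm'.trans (pow_one r)))
    · exact Or.inr (Or.inr (hm'.trans ((pow_two r).trans hr2.symm)))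
  have hall : ∀ g : Γ, g ∈ N := by
    intro g
    set x := g * r * g⁻¹
    have hx : x ∈ N := (inferInstance : N.Normal).conj_mem r (Or.inl (by group)) g
    have hx3 : x ^ 3 = 1 := by rw [conj_pow, hr3, mul_one, mul_inv_cancel]
    have hxC : x ∈ C := by
      rcases hx with e | e
      · exact hC.2 (mul_inv_eq_iff_eq_mul.1 e)
      · exfalso
        have e' : x * r⁻¹ * x⁻¹ = r := by rw [← conj_inv, e, inv_inv]
        have h1 : x ^ 3 * r * (x ^ 3)⁻¹ = r⁻¹ := by
          rw [show x ^ 3 * r * (x ^ 3)⁻¹ = x * (x * (x * r * x⁻¹) * x⁻¹) * x⁻¹ by rw [pow_succ, pow_two]; group, e, e', e]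
        rw [hx3, one_mul, inv_one, mul_one] at h1
        exact hrr h1
    rcases hsub x hxC hx3 with e | e | e
    · exfalso
      refine hr1 ?_
      have h1 : r = g⁻¹ * x * g := by simp only [x]; group
      rw [h1, e, mul_one, inv_mul_cancel]
    · exact Or.inl e
    · exact Or.inr e
  rw [Subgroup.index_eq_one.2 (Subgroup.eq_top_iff' N |>.2 hall)] at hN2
  norm_num at hN2

end Cfsg.Agent.DistinctSizes
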