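import Cfsg.Agent.Lib.Block.DistinctSizes.FiveLine
import Cfsg.Agent.Lib.Block.DistinctSizes.PlaneFive

/-!
# The five-parts of centraliser orders

In a solvable group with distinct class sizes no centraliser order has five-part exactly five,
and those with five-part twenty-five are divisible by three.
-/

set_option autoImplicit false

set_option linter.unusedSectionVars false

namespace Cfsg.Agent.DistinctSizes

open Subgroup

universe u

variable {G : Type u} [Group G] [Finite G]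

/-- the five-elements lie in a normal Sylow subgroup -/
theorem mem_sylow_of_pow [Fact (Nat.Prime 5)] (P : Sylow 5 G) [(P : Subgroup G).Normal] {x : G}
    (hx : ∃ k, x ^ 5 ^ k = 1) : x ∈ (P : Subgroup G) := by
  obtain ⟨k, hk⟩ := hx
  rw [← QuotientGroup.eq_one_iff, ← orderOf_eq_one_iff]
  refine Nat.eq_one_of_dvd_coprimes
    ((Nat.prime_five.coprime_iff_not_dvd.2 P.not_dvd_index).pow_left k)
    ((orderOf_map_dvd (QuotientGroup.mk' (P : Subgroup G)) x).trans (orderOf_dvd_of_pow_eq_one hk)) ?_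
  rw [Subgroup.index_eq_card]; exact orderOf_dvd_natCard _

/-- the five-part of the centraliser of `y`, as a subgroup -/
def fivePart (P : Subgroup G) (y : G) : Subgroup G := P ⊓ centralizer ({y} : Set G)

theorem mem_fivePart {P : Subgroup G} {y a : G} : a ∈ fivePart P y ↔ a ∈ P ∧ a * y = y * a := by
  rw [fivePart, mem_inf, mem_cent]

theorem conj_mem_fivePart {P : Subgroup G} [hP : P.Normal] {y a g : G} (ha : a ∈ fivePart P y)
    (hg : g * y = y * g) : g * a * g⁻¹ ∈ fivePart P y := by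
  obtain ⟨h1, h2⟩ := mem_fivePart.1 ha
  exact mem_fivePart.2 ⟨hP.conj_mem a h1 g, (((show Commute g y from hg).mul_left h2).mul_left
    (show Commute g y from hg).inv_left).eq⟩

/-- a five-part of order twenty-five is elementary -/
theorem RatGroup.fivePart_elementary [Fact (Nat.Prime 5)] (hG : RatGroup G) (hs : Group.IsSolvable G)
    (P : Sylow 5 G) [(P : Subgroup G).Normal] {y : G} (hy : (orderOf y).Coprime 5)
    (hR : Nat.card (fivePart (P : Subgroup G) y) = 25) :
    (∀ a ∈ fivePart (P : Subgroup G) y, ∀ b ∈ fivePart (P : Subgroup G) y, a * b = b * a) ∧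
      ∀ a ∈ fivePart (P : Subgroup G) y, a ^ 5 = 1 := by
  set R := fivePart (P : Subgroup G) y with hRdef
  refine ⟨fun a ha b hb => congrArg Subtype.val
    (IsPGroup.commutative_of_card_eq_prime_sq (p := 5) (G := R) (by rw [hR]; rfl) ⟨a, ha⟩ ⟨b, hb⟩),
    fun a ha => ?_⟩
  by_contra ha5
  have h25 : a ^ 25 = 1 := by
    have h1 := pow_card_eq_one' (x := (⟨a, ha⟩ : R))
    rw [hR] at h1
    simpa using congrArg Subtype.val h1
  have hord : orderOf a = 25 := orderOf_eq_prime_pow (p := 5) (n := 1) (by simpa using ha5) (by simpa using h25)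
  have hRz : R = zpowers a := (Subgroup.eq_of_le_of_card_ge (zpowers_le.2 ha)
    (by rw [hR, Nat.card_zpowers, hord])).symm
  refine ha5 (hG.no_invariant_five hs hy (z := a ^ 5) (by rw [← pow_mul]; exact h25)
    ((show Commute a y from (mem_fivePart.1 ha).2).symm.pow_right 5) fun g hg => ?_)
  have h1 : g * a * g⁻¹ ∈ zpowers a := hRz ▸ conj_mem_fivePart ha hg
  obtain ⟨n, hn⟩ := mem_zpowers_iff.1 h1
  rw [← conj_pow, ← hn]
  refine mem_zpowers_iff.2 ⟨n, ?_⟩
  rw [← zpow_natCast a 5, ← zpow_natCast (a ^ n) 5, ← zpow_mul, ← zpow_mul, mul_comm]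

/-- an invariant alternating form on a five-part of order twenty-five -/
theorem RatGroup.exists_omega [Fact (Nat.Prime 5)] (hG : RatGroup G) (hs : Group.IsSolvable G)
    (P : Sylow 5 G) [(P : Subgroup G).Normal] {y : G} (hy : (orderOf y).Coprime 5)
    (hR : Nat.card (fivePart (P : Subgroup G) y) = 25) :
    ∃ ω : G → G → ZMod 5,
      (∀ a ∈ fivePart (P : Subgroup G) y, ∀ b ∈ fivePart (P : Subgroup G) y, ∀ c ∈ fivePart (P : Subgroup G) y,
        ω (a * b) c = ω a c + ω b c ∧ ω c (a * b) = ω c a + ω c b) ∧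
      (∀ a ∈ fivePart (P : Subgroup G) y, ω a a = 0) ∧
      (∀ a ∈ fivePart (P : Subgroup G) y, a ≠ 1 → ∃ b ∈ fivePart (P : Subgroup G) y, ω a b ≠ 0) ∧
      ∀ g : G, g * y = y * g → ∀ a ∈ fivePart (P : Subgroup G) y, ∀ b ∈ fivePart (P : Subgroup G) y,
        ω (g * a * g⁻¹) (g * b * g⁻¹) = ω a b := by
  induction hn : Nat.card G using Nat.strong_induction_on generalizing G with
  | _ n ih =>
  subst hn
  have hPne : (P : Subgroup G) ≠ ⊥ := fun e => by
    rw [fivePart, e, bot_inf_eq, Subgroup.card_bot] at hR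
    norm_num at hR
  obtain ⟨V, hV, hVne, hVP, hVc, hmin⟩ := exists_elem_central hs P.2 hPne
  haveI := hV.nor
  set R := fivePart (P : Subgroup G) y with hRdef
  by_cases hVR : V ⊓ R = ⊥
  · set f := QuotientGroup.mk' V
    have hf := QuotientGroup.mk'_surjective V
    haveI hPn' : ((P.mapSurjective hf : Sylow 5 (G ⧸ V)) : Subgroup (G ⧸ V)).Normal := by
      rw [Sylow.coe_mapSurjective]; exact Subgroup.Normal.map inferInstance f hf
    set R' := fivePart ((P.mapSurjective hf : Sylow 5 (G ⧸ V)) : Subgroup (G ⧸ V)) (f y)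
    have hmap : ∀ a ∈ R, f a ∈ R' := fun a ha => mem_fivePart.2 ⟨by
      rw [Sylow.coe_mapSurjective]; exact Subgroup.mem_map_of_mem f (mem_fivePart.1 ha).1,
      by rw [← map_mul, ← map_mul, (mem_fivePart.1 ha).2]⟩
    have hlift : ∀ gb : G ⧸ V, gb * f y = f y * gb → ∃ g, g * y = y * g ∧ f g = gb := by
      intro gb e
      obtain ⟨g, rfl⟩ := hf gb
      have hgV : g * y * g⁻¹ * y⁻¹ ∈ V := by
        rw [← QuotientGroup.eq_one_iff]
        show f (g * y * g⁻¹ * y⁻¹) = 1
        replace e : f g * f y = f y * f g := e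
        rw [map_mul, map_mul, map_mul, map_inv, map_inv, e]; group
      obtain ⟨w, hw, ew⟩ := exists_lift_comm hV hy hgV
      exact ⟨_, ew, by rw [map_mul, show f w⁻¹ = 1 from (QuotientGroup.eq_one_iff _).2 (V.inv_mem hw), one_mul]⟩
    have hbij : Function.Bijective fun a : R => (⟨f a.1, hmap a.1 a.2⟩ : R') := by
      refine ⟨fun a b e => Subtype.ext ?_, fun c => ?_⟩
      · have h1 : a.1⁻¹ * b.1 ∈ V := QuotientGroup.eq.1 (congrArg Subtype.val e)
        have h2 : a.1⁻¹ * b.1 ∈ V ⊓ R := ⟨h1, R.mul_mem (R.inv_mem a.2) b.2⟩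
        rwa [hVR, mem_bot, inv_mul_eq_one] at h2
      · obtain ⟨g, hg, e⟩ := hlift c.1 (mem_fivePart.1 c.2).2
        have hgP : g ∈ (P : Subgroup G) := by
          have h1 := (mem_fivePart.1 c.2).1
          rw [Sylow.coe_mapSurjective, ← e, ← Subgroup.mem_comap, Subgroup.comap_map_eq,
            QuotientGroup.ker_mk', sup_eq_left.2 hVP] at h1
          exact h1
        exact ⟨⟨g, mem_fivePart.2 ⟨hgP, hg⟩⟩, Subtype.ext e⟩
    obtain ⟨ω, hadd, halt, hnd, hinv⟩ := ih (Nat.card (G ⧸ V)) (Grp.card_quotient_lt hVne) (hG.map f hf)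
      (haveI := hs; Group.isSolvable_of_surjective hf) (P.mapSurjective hf) (y := f y)
      (Nat.Coprime.coprime_dvd_left (orderOf_map_dvd f y) hy) ((Nat.card_eq_of_bijective _ hbij).symm.trans hR) rfl
    refine ⟨fun a b => ω (f a) (f b), fun a ha b hb c hc => ?_, fun a ha => halt _ (hmap a ha),
      fun a ha ha1 => ?_, fun g hg a ha b hb => ?_⟩
    · dsimp only
      rw [map_mul]
      exact hadd _ (hmap a ha) _ (hmap b hb) _ (hmap c hc)
    · obtain ⟨b', hb', hne⟩ := hnd (f a) (hmap a ha) fun e => ha1 (by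
        have : a ∈ V ⊓ R := ⟨(QuotientGroup.eq_one_iff a).1 e, ha⟩
        rwa [hVR, mem_bot] at this)
      obtain ⟨b, hb⟩ := hbij.2 ⟨b', hb'⟩
      exact ⟨b.1, b.2, by
        dsimp only
        rwa [show f b.1 = b' from congrArg Subtype.val hb]⟩
    · dsimp only
      rw [map_mul, map_mul, map_mul, map_mul, map_inv]
      exact hinv (f g) (by rw [← map_mul, ← map_mul, hg]) _ (hmap a ha) _ (hmap b hb)
  obtain ⟨B, hB, hBnd, hBalt⟩ := hG.exists_alt_form hV hVne hmin
  obtain ⟨z, hz, hz1⟩ : ∃ z ∈ V ⊓ R, z ≠ 1 := by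
    by_contra hc; push Not at hc; exact hVR ((Subgroup.eq_bot_iff_forall _).2 hc)
  set Z := EMod.mk hV hz.1
  have hfixR : ∀ {a}, a ∈ R → ∀ ha : a ∈ V, conjRep hV y (EMod.mk hV ha) = EMod.mk hV ha :=
    fun haR ha => EMod.val_inj hV (by
      rw [val_conjRep, EMod.val_mk, ← (mem_fivePart.1 haR).2, mul_inv_cancel_right])
  have hfix_mem : ∀ v : EMod hV, conjRep hV y v = v → v.val hV ∈ R := fun v e =>
    mem_fivePart.2 ⟨hVP (v.val_mem hV), (mul_inv_eq_iff_eq_mul.1 (congrArg (EMod.val hV) e)).symm⟩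
  have hZ0 : Z ≠ 0 := fun e => hz1 ((EMod.val_eq_one hV).2 e)
  obtain ⟨r, hr, hZr⟩ := exists_fixed_partner hV hB hBnd hy (hfixR hz.2 hz.1) hZ0
  -- the two vectors span the five-part
  have hRV : R ≤ V := by
    let φ : ZMod 5 × ZMod 5 → ↥(V ⊓ R : Subgroup G) := fun c => ⟨(c.1 • Z + c.2 • r).val hV,
      EMod.val_mem hV _, hfix_mem _ (by rw [map_add, map_smul, map_smul, hfixR hz.2 hz.1, hr])⟩
    have hφ : Function.Injective φ := by
      intro c c' e
      have e' : c.1 • Z + c.2 • r = c'.1 • Z + c'.2 • r :=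
        EMod.val_inj hV (congrArg (fun t : ↥(V ⊓ R : Subgroup G) => (t : G)) e)
      have h1 := congrArg (fun w => B Z w) e'
      have h2 := congrArg (fun w => B w r) e'
      simp only [map_add, map_smul, LinearMap.add_apply, LinearMap.smul_apply, hBalt, hZr, smul_eq_mul,
        mul_zero, mul_one, zero_add, add_zero] at h1 h2
      exact Prod.ext (mul_right_cancel₀ (by rw [hZr]; exact one_ne_zero) h2)
        (mul_right_cancel₀ (by rw [hZr]; exact one_ne_zero) h1)
    have h1 := Nat.card_le_card_of_injective φ hφ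
    rw [Nat.card_prod, Nat.card_zmod] at h1
    have h2 : V ⊓ R = R := Subgroup.eq_of_le_of_card_ge inf_le_right (by rw [hR]; exact h1)
    exact h2 ▸ inf_le_left
  classical
  refine ⟨fun a b => if ha : a ∈ V then if hb : b ∈ V then B (EMod.mk hV ha) (EMod.mk hV hb) else 0 else 0,
    fun a ha b hb c hc => ?_, fun a ha => ?_, fun a ha ha1 => ?_, fun g hg a ha b hb => ?_⟩
  · have e : EMod.mk hV (V.mul_mem (hRV ha) (hRV hb)) = EMod.mk hV (hRV ha) + EMod.mk hV (hRV hb) :=
      EMod.val_inj hV rfl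
    simp only [dif_pos (hRV ha), dif_pos (hRV hb), dif_pos (hRV hc), dif_pos (V.mul_mem (hRV ha) (hRV hb)), e,
      map_add, LinearMap.add_apply, and_self]
  · simp only [dif_pos (hRV ha), hBalt]
  · obtain ⟨w, hw, hAw⟩ := exists_fixed_partner hV hB hBnd hy (hfixR ha (hRV ha))
      (fun e => ha1 ((EMod.val_eq_one hV).2 e))
    refine ⟨w.val hV, hfix_mem w hw, ?_⟩
    simp only [dif_pos (hRV ha), dif_pos (w.val_mem hV)]
    rw [show EMod.mk hV (w.val_mem hV) = w from EMod.val_inj hV rfl, hAw]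
    exact one_ne_zero
  · simp only [dif_pos (hRV ha), dif_pos (hRV hb), dif_pos (hV.nor.conj_mem _ (hRV ha) g),
      dif_pos (hV.nor.conj_mem _ (hRV hb) g)]
    rw [← hB g (EMod.mk hV (hRV ha)) (EMod.mk hV (hRV hb))]
    congr 2

/-- the centraliser of a product of commuting parts -/
theorem cent_mul_parts {y u g : G} (hc : Commute y u) (hy : (orderOf y).Coprime 5) (hu : u ^ 5 = 1) :
    g * (y * u) = y * u * g ↔ g * y = y * g ∧ g * u = u * g := by
  refine ⟨fun e => ?_, fun ⟨e1, e2⟩ => by rw [← mul_assoc, e1, mul_assoc, e2, mul_assoc]⟩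
  obtain ⟨e1, e2⟩ := split_conj (h := g) hc hc hy (pow_orderOf_eq_one y) hu (pow_orderOf_eq_one y) hu
    (mul_inv_eq_iff_eq_mul.2 e)
  exact ⟨mul_inv_eq_iff_eq_mul.1 e1, mul_inv_eq_iff_eq_mul.1 e2⟩

/-- the three-part of a centraliser over a five-part of order twenty-five -/
theorem three_dvd_cent [Fact (Nat.Prime 5)] (hD : Distinct G) (hs : Group.IsSolvable G) (P : Sylow 5 G)
    [(P : Subgroup G).Normal] {y u : G} (hy : (orderOf y).Coprime 5)
    (hR : Nat.card (fivePart (P : Subgroup G) y) = 25) (hu : u ∈ fivePart (P : Subgroup G) y) :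
    3 ∣ Nat.card (centralizer ({y * u} : Set G)) := by
  classical
  have hG := hD.ratGroup
  obtain ⟨hab, hpow⟩ := hG.fivePart_elementary hs P hy hR
  obtain ⟨ω, hadd, halt, hnd, hinv⟩ := hG.exists_omega hs P hy hR
  set K := centralizer ({y} : Set G)
  set R₀ := fivePart (P : Subgroup G) y with hR₀
  set R := R₀.subgroupOf K with hRK
  have hRle : R₀ ≤ K := inf_le_right
  haveI hRn : R.Normal := ⟨fun a ha g => conj_mem_fivePart (show a.1 ∈ R₀ from ha) (mem_cent.1 g.2)⟩
  have hE : Elem 5 R := ⟨hRn, fun a ha b hb => Subtype.ext (hab a.1 ha b.1 hb),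
    fun a ha => Subtype.ext (by simpa using hpow a.1 ha)⟩
  have hcardR : Nat.card (EMod hE) = 25 := by
    rw [EMod.card, Nat.card_congr (Subgroup.subgroupOfEquivOfLe hRle).toEquiv, hR]
  have hmem : ∀ v : EMod hE, ((v.val hE : K) : G) ∈ R₀ := fun v => v.val_mem hE
  have hdim : Module.finrank (ZMod 5) (EMod hE) = 2 := by
    have h1 := Module.natCard_eq_pow_finrank (K := ZMod 5) (V := EMod hE)
    rw [hcardR, Nat.card_zmod] at h1
    exact Nat.pow_right_injective (by norm_num) (h1.symm.trans (show 25 = 5 ^ 2 by norm_num))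
  haveI := Module.nontrivial_of_finrank_pos (R := ZMod 5) (M := EMod hE) (by omega)
  let B₀ : EMod hE →+ EMod hE →+ ZMod 5 :=
    AddMonoidHom.mk' (fun a => AddMonoidHom.mk' (fun b => ω (a.val hE : K) (b.val hE : K))
      fun b c => (hadd _ (hmem b) _ (hmem c) _ (hmem a)).2)
      fun a b => AddMonoidHom.ext fun c => (hadd _ (hmem a) _ (hmem b) _ (hmem c)).1
  let B : LinearMap.BilinForm (ZMod 5) (EMod hE) :=
    AddMonoidHom.toZModLinearMap 5
      (AddMonoidHom.mk' (fun a => AddMonoidHom.toZModLinearMap 5 (B₀ a))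
        fun a b => LinearMap.ext fun c => by
          show B₀ (a + b) c = B₀ a c + B₀ b c
          rw [map_add]; rfl)
  have hBω : ∀ a b, B a b = ω (a.val hE : K) (b.val hE : K) := fun a b => rfl
  set ρ := conjRep hE
  let θ : K →* (EMod hE ≃ₗ[ZMod 5] EMod hE) := MonoidHom.mk'
    (fun h => LinearEquiv.ofLinear (ρ h) (ρ h⁻¹)
      (by rw [← Module.End.mul_eq_comp, ← map_mul, mul_inv_cancel, map_one]; rfl)
      (by rw [← Module.End.mul_eq_comp, ← map_mul, inv_mul_cancel, map_one]; rfl))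
    fun a b => LinearEquiv.ext fun w => by
      show ρ (a * b) w = ρ a (ρ b w)
      rw [map_mul, Module.End.mul_apply]
  have hθ : ∀ k w, ((θ k w).val hE : K) = k * w.val hE * k⁻¹ := fun k w => rfl
  have hRker : ∀ k : K, (k : G) ∈ (P : Subgroup G) → θ k = 1 := fun k hk => LinearEquiv.ext fun w =>
    EMod.val_inj hE (by
      rw [hθ]
      exact mul_inv_eq_iff_eq_mul.2 (Subtype.ext (hab _ (mem_fivePart.2 ⟨hk, mem_cent.1 k.2⟩) _ (hmem w))))
  have hcov : Cover B θ.range := by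
    refine ⟨le_rfl, fun v => halt _ (hmem v), fun v hv => ?_, ?_, ?_,
      (haveI := hs; haveI : Group.IsSolvable K := Group.isSolvable_of_isSolvable_injective K.subtype_injective
       Group.isSolvable_of_surjective θ.rangeRestrict_surjective), fun v c hc => ?_⟩
    · by_contra hv0
      obtain ⟨b, hb, hne⟩ := hnd _ (hmem v) fun e => hv0 ((EMod.val_eq_one hE).1 (Subtype.ext e))
      exact hne (hv (EMod.mk hE (show (⟨b, hRle hb⟩ : K) ∈ R from hb)))
    · rintro _ ⟨k, rfl⟩ v w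
      exact hinv k.1 (mem_cent.1 k.2) _ (hmem v) _ (hmem w)
    · intro hdc
      obtain ⟨⟨t, k, rfl⟩, ht⟩ := exists_prime_orderOf_dvd_card' (G := θ.range) 5 hdc
      obtain ⟨m, hm, hk5⟩ : ∃ m : ℕ, ¬ 5 ∣ m ∧ θ (k ^ m) = 1 := by
        refine ⟨(P : Subgroup G).index, P.not_dvd_index, hRker _ ?_⟩
        rw [SubmonoidClass.coe_pow]; exact Subgroup.pow_index_mem _ _
      replace ht : orderOf (θ k) = 5 := (Subgroup.orderOf_coe (⟨θ k, k, rfl⟩ : θ.range)).trans ht
      rw [map_pow, ← orderOf_dvd_iff_pow_eq_one, ht] at hk5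
      exact hm hk5
    · have hox : orderOf ((v.val hE : K) : G) ∣ 5 := orderOf_dvd_of_pow_eq_one (hpow _ (hmem v))
      obtain ⟨g, h1, h2⟩ := hG.exists_parts (show Commute y ((v.val hE : K) : G) from
        ((mem_fivePart.1 (hmem v)).2).symm) (hy.coprime_dvd_right hox) (a := 1) (b := c.val)
        (Nat.coprime_one_left _) (Nat.Coprime.coprime_dvd_right hox
          (Nat.prime_five.coprime_iff_not_dvd.2 fun hdc => hc (by
            rw [← ZMod.natCast_zmod_val c, (ZMod.natCast_eq_zero_iff _ _).2 hdc])).symm)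
      rw [pow_one] at h1
      refine ⟨θ ⟨g, mem_cent.2 (mul_inv_eq_iff_eq_mul.1 h1)⟩, ⟨_, rfl⟩, EMod.val_inj hE ?_⟩
      rw [hθ, EMod.val_smul]
      exact Subtype.ext (by simpa using h2)
  haveI := hcov.nontrivial hdim
  by_contra h3
  -- reduce to a nontrivial element of the five-part
  have hKu : ∀ {w}, w ∈ R₀ → ∀ g, g ∈ centralizer ({y * w} : Set G) ↔ g * y = y * g ∧ g * w = w * g :=
    fun hw g => by
      rw [mem_cent]; exact cent_mul_parts (show Commute y _ from (mem_fivePart.1 hw).2.symm) hy (hpow _ hw)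
  obtain ⟨u₀, hu₀, hu01, h30⟩ : ∃ u₀ ∈ R₀, u₀ ≠ 1 ∧ ¬ 3 ∣ Nat.card (centralizer ({y * u₀} : Set G)) := by
    by_cases hu1 : u = 1
    · obtain ⟨u₀, hu₀, h1⟩ : ∃ u₀ ∈ R₀, u₀ ≠ 1 := by
        by_contra hc; push Not at hc
        rw [(Subgroup.eq_bot_iff_forall R₀).2 hc, Subgroup.card_bot] at hR
        norm_num at hR
      refine ⟨u₀, hu₀, h1, fun hd => h3 (hd.trans (Subgroup.card_dvd_of_le fun g hg => ?_))⟩
      rw [hu1, mul_one, mem_cent]
      exact ((hKu hu₀ g).1 hg).1
    · exact ⟨u, hu, hu1, h3⟩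
  -- all these centralisers are the kernel of the action
  have hker : ∀ w ∈ R₀, w ≠ 1 → centralizer ({y * w} : Set G) = θ.ker.map K.subtype := by
    intro w hw hw1
    ext g
    rw [hKu hw, Subgroup.mem_map]
    constructor
    · rintro ⟨e1, e2⟩
      refine ⟨⟨g, mem_cent.2 e1⟩, MonoidHom.mem_ker.2 (hcov.eq_one_of_fixed hdim ⟨_, rfl⟩
        (v := EMod.mk hE (show (⟨w, hRle hw⟩ : K) ∈ R from hw))
        (fun e => hw1 (congrArg Subtype.val ((EMod.val_eq_one hE).2 e))) (EMod.val_inj hE ?_)), rfl⟩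
      rw [hθ, EMod.val_mk]
      exact Subtype.ext (mul_inv_eq_iff_eq_mul.2 e2)
    · rintro ⟨k, hk, rfl⟩
      refine ⟨mem_cent.1 k.2, ?_⟩
      have h1 := congrArg (fun t : EMod hE ≃ₗ[ZMod 5] EMod hE =>
        ((((t (EMod.mk hE (show (⟨w, hRle hw⟩ : K) ∈ R from hw))).val hE : K)) : G)) (MonoidHom.mem_ker.1 hk)
      exact mul_inv_eq_iff_eq_mul.1 h1
  have htrans : ∀ v w : EMod hE, v ≠ 0 → w ≠ 0 → ∃ g ∈ θ.range, g v = w := by
    intro v w hv hw
    have ne1 : ∀ {t : EMod hE}, t ≠ 0 → ((t.val hE : K) : G) ≠ 1 := fun ht e =>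
      ht ((EMod.val_eq_one hE).1 (Subtype.ext e))
    obtain ⟨g, hg⟩ := hD (y * (v.val hE : K)) (y * (w.val hE : K))
      (by rw [hker _ (hmem v) (ne1 hv), hker _ (hmem w) (ne1 hw)])
    obtain ⟨e1, e2⟩ := split_conj (h := g) (show Commute y _ from (mem_fivePart.1 (hmem v)).2.symm)
      (show Commute y _ from (mem_fivePart.1 (hmem w)).2.symm) hy (pow_orderOf_eq_one y) (hpow _ (hmem v))
      (pow_orderOf_eq_one y) (hpow _ (hmem w)) hg
    refine ⟨θ ⟨g, mem_cent.2 (mul_inv_eq_iff_eq_mul.1 e1)⟩, ⟨_, rfl⟩, EMod.val_inj hE ?_⟩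
    rw [hθ]
    exact Subtype.ext e2
  have hker3 : ¬ 3 ∣ Nat.card θ.ker := by
    rwa [hker u₀ hu₀ hu01, Subgroup.card_map_of_injective K.subtype_injective] at h30
  -- an element of order three outside the kernel, real in the centraliser
  haveI : Fact (Nat.Prime 3) := ⟨Nat.prime_three⟩
  have h3K : 3 ∣ Nat.card K := by
    have h1 := θ.ker.index_mul_card
    rw [Subgroup.index_ker] at h1
    have h24 : Nat.card θ.range = 24 := by
      obtain ⟨v₀, hv₀⟩ := exists_ne (0 : EMod hE)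
      let f : θ.range → {w : EMod hE // w ≠ 0} := fun g => ⟨g.1 v₀, fun e => hv₀ (g.1.map_eq_zero_iff.1 e)⟩
      have hf : Function.Bijective f :=
        ⟨fun g g' e => Subtype.ext (hcov.eq_of_apply hdim g.2 g'.2 hv₀ (congrArg Subtype.val e)), fun w => by
          obtain ⟨g, hg, e⟩ := htrans v₀ w.1 hv₀ w.2
          exact ⟨⟨g, hg⟩, Subtype.ext e⟩⟩
      haveI := Fintype.ofFinite (EMod hE)
      rw [Nat.card_congr (Equiv.ofBijective f hf), Nat.card_eq_fintype_card, Fintype.card_subtype_compl,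
        Fintype.card_subtype_eq, ← Nat.card_eq_fintype_card, hcardR]
    rw [← h1, h24]
    exact Dvd.dvd.mul_right (by norm_num) _
  obtain ⟨k, hk⟩ := exists_prime_orderOf_dvd_card' (G := K) 3 h3K
  have hok : orderOf (k : G) = 3 := by rw [Subgroup.orderOf_coe, hk]
  have hθk : θ k ≠ 1 := fun e => hker3 (hk ▸ Subgroup.orderOf_dvd_natCard _ (MonoidHom.mem_ker.2 e))
  have hy3 : (orderOf y).Coprime (orderOf (k : G)) := by
    rw [hok]
    refine (Nat.prime_three.coprime_iff_not_dvd.2 fun hd => h30 ?_).symm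
    refine hd.trans (Subgroup.orderOf_dvd_natCard _ ((hKu hu₀ y).2 ⟨rfl, (mem_fivePart.1 hu₀).2.symm⟩))
  obtain ⟨g, h1, h2⟩ := hG.exists_parts (show Commute y (k : G) from (mem_cent.1 k.2).symm) hy3
    (a := 1) (b := 2) (Nat.coprime_one_left _) (by rw [hok]; norm_num)
  rw [pow_one] at h1
  set g' : K := ⟨g, mem_cent.2 (mul_inv_eq_iff_eq_mul.1 h1)⟩
  have hk3 : k ^ 3 = 1 := hk ▸ pow_orderOf_eq_one k
  refine hcov.false_of_regular hdim htrans (r := θ.rangeRestrict k) (k := θ.rangeRestrict g')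
    (by rw [← map_pow, hk3, map_one]) (fun e => hθk (congrArg Subtype.val e)) ?_
  rw [← map_inv, ← map_mul, ← map_mul, ← map_inv]
  congr 1
  refine eq_inv_of_mul_eq_one_left ?_
  rw [show g' * k * g'⁻¹ = k ^ 2 from Subtype.ext (by simpa using h2), ← pow_succ, hk3]

/-- the five-parts of centraliser orders -/
theorem five_dichotomy (hD : Distinct G) (hs : Group.IsSolvable G) (x : G) :
    ¬ 5 ∣ Nat.card (centralizer ({x} : Set G)) ∨ 125 ∣ Nat.card (centralizer ({x} : Set G)) ∨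
      (25 ∣ Nat.card (centralizer ({x} : Set G)) ∧ 3 ∣ Nat.card (centralizer ({x} : Set G))) := by
  haveI : Fact (Nat.Prime 5) := ⟨Nat.prime_five⟩
  rcases em (5 ∣ Nat.card (centralizer ({x} : Set G))) with h5 | h5
  swap
  · exact Or.inl h5
  refine Or.inr ?_
  have hG := hD.ratGroup
  obtain ⟨P⟩ : Nonempty (Sylow 5 G) := inferInstance
  haveI := hG.sylow_five_normal hs P
  obtain ⟨y, u, rfl, hyu, hy, hu, hyx, hux⟩ := exists_parts Nat.prime_five x
  set C := centralizer ({y * u} : Set G)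
  set D := (P : Subgroup G) ⊓ C
  set R := fivePart (P : Subgroup G) y with hRdef
  have hCy : ∀ {g}, g ∈ C → g * y = y * g := fun {g} hg => by
    obtain ⟨n, hn⟩ := mem_zpowers_iff.1 hyx
    rw [← hn]; exact ((show Commute g (y * u) from mem_cent.1 hg).zpow_right n).eq
  have hDR : D ≤ R := fun g hg => mem_fivePart.2 ⟨hg.1, hCy hg.2⟩
  have huR : u ∈ R := mem_fivePart.2 ⟨mem_sylow_of_pow P hu, hyu.symm.eq⟩
  have hDne : D ≠ ⊥ := by
    obtain ⟨a, ha⟩ := exists_prime_orderOf_dvd_card' (G := C) 5 h5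
    intro e
    have : (a : G) ∈ D := ⟨mem_sylow_of_pow P ⟨1, by
      rw [pow_one, ← SubmonoidClass.coe_pow, ← ha, pow_orderOf_eq_one]; rfl⟩, a.2⟩
    rw [e, mem_bot] at this
    rw [show a = 1 from Subtype.ext this, orderOf_one] at ha
    norm_num at ha
  have hR5 : IsPGroup 5 R := P.2.to_le inf_le_left
  haveI : Nontrivial R := (Subgroup.nontrivial_iff_ne_bot _).2 fun e => hDne (eq_bot_iff.2 (e ▸ hDR))
  set Z := (Subgroup.center R).map R.subtype
  haveI := hR5.center_nontrivial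
  obtain ⟨i, hi⟩ := (hR5.to_subgroup (Subgroup.center R)).exists_card_eq
  have hZcard : Nat.card Z = 5 ^ i := by
    rw [Subgroup.card_map_of_injective R.subtype_injective, hi]
  have hi2 : 2 ≤ i := by
    by_contra hlt
    have hi1 : i = 1 := by
      have := (Subgroup.center R).one_lt_card_iff_ne_bot.2 ((Subgroup.nontrivial_iff_ne_bot _).1 inferInstance)
      rw [hi] at this
      rcases Nat.eq_zero_or_pos i with e | e
      · rw [e] at this; norm_num at this
      · omega
    obtain ⟨z, hz⟩ := exists_ne (1 : Subgroup.center R)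
    have hz5 : z.1.1 ^ 5 = 1 := by
      have h1 := pow_card_eq_one' (x := z)
      rw [hi, hi1, pow_one] at h1
      simpa using congrArg (fun t : Subgroup.center R => ((t : R) : G)) h1
    refine hz (Subtype.ext (Subtype.ext (hG.no_invariant_five hs hy hz5
      ((show Commute z.1.1 y from (mem_fivePart.1 z.1.2).2).symm) fun g hg => ?_)))
    have hgz : g * z.1.1 * g⁻¹ ∈ Z := by
      refine ⟨⟨_, conj_mem_fivePart z.1.2 hg⟩, Subgroup.mem_center_iff.2 fun b => Subtype.ext ?_, rfl⟩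
      have hb' : g⁻¹ * b.1 * g ∈ R := by
        simpa using conj_mem_fivePart (g := g⁻¹) b.2 ((show Commute g y from hg).inv_left.eq)
      have h1 := congrArg Subtype.val (Subgroup.mem_center_iff.1 z.2 ⟨_, hb'⟩)
      simp only [Subgroup.coe_mul] at h1 ⊢
      calc b.1 * (g * z.1.1 * g⁻¹) = g * (g⁻¹ * b.1 * g * z.1.1) * g⁻¹ := by group
        _ = g * (z.1.1 * (g⁻¹ * b.1 * g)) * g⁻¹ := by rw [h1]
        _ = g * z.1.1 * g⁻¹ * b.1 := by group
    have hzZ : zpowers z.1.1 = Z := Subgroup.eq_of_le_of_card_ge (zpowers_le.2 ⟨z.1, z.2, rfl⟩) (by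
      rw [hZcard, hi1, pow_one, Nat.card_zpowers, orderOf_eq_prime hz5 fun e => hz (Subtype.ext (Subtype.ext e))])
    rwa [hzZ]
  have hZD : Z ≤ D := by
    rintro _ ⟨c, hc, rfl⟩
    refine ⟨(mem_fivePart.1 c.2).1, mem_cent.2 ?_⟩
    have h1 := congrArg Subtype.val (Subgroup.mem_center_iff.1 hc ⟨u, huR⟩)
    exact ((show Commute c.1 y from (mem_fivePart.1 c.2).2).mul_right h1.symm).eq
  obtain ⟨k, hk⟩ := (P.2.to_le (inf_le_left : D ≤ P)).exists_card_eq
  have hDC : 5 ^ k ∣ Nat.card C := hk ▸ Subgroup.card_dvd_of_le inf_le_right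
  have hik : i ≤ k := by
    have h1 := Subgroup.card_le_of_le hZD
    rw [hZcard, hk] at h1
    exact (Nat.pow_le_pow_iff_right (by norm_num)).1 h1
  rcases (show k = 2 ∨ 3 ≤ k by omega) with rfl | h3
  · refine Or.inr ⟨by simpa using hDC, three_dvd_cent hD hs P hy ?_ huR⟩
    have hZeq : Z = D := Subgroup.eq_of_le_of_card_ge hZD (by rw [hZcard, hk, show i = 2 by omega])
    have huD : u ∈ D := ⟨(mem_fivePart.1 huR).1, by
      show u ∈ centralizer ({y * u} : Set G)
      rw [mem_cent, ← mul_assoc, ← hyu.eq]⟩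
    have hRD : R ≤ D := fun a ha => ⟨(mem_fivePart.1 ha).1, by
      obtain ⟨c, hc, hcu⟩ := hZeq ▸ huD
      have h1 := congrArg Subtype.val (Subgroup.mem_center_iff.1 hc ⟨a, ha⟩)
      have h2 : Commute a u := hcu ▸ h1
      exact mem_cent.2 ((show Commute a y from (mem_fivePart.1 ha).2).mul_right h2).eq⟩
    rw [show fivePart (P : Subgroup G) y = D from le_antisymm hRD hDR, hk]; rfl
  · exact Or.inl ((pow_dvd_pow 5 h3).trans hDC |> fun hh => by simpa using hh)

end Cfsg.Agent.DistinctSizes
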