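import Cfsg.Agent.Lib.Block.DistinctSizes.Plane

/-!
# A covering group normalising a quaternion group acting without fixed points lives on a plane
-/

set_option autoImplicit false

set_option linter.unusedSectionVars false

namespace Cfsg.Agent.DistinctSizes

universe u

variable {p : ℕ} [hp : Fact p.Prime] {W : Type u} [AddCommGroup W] [Module (ZMod p) W]

namespace Cover

variable [Finite W] [Nontrivial W] {B : LinearMap.BilinForm (ZMod p) W} {Γ : Subgroup (W ≃ₗ[ZMod p] W)}
  (h : Cover B Γ) {i j : W ≃ₗ[ZMod p] W}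
include h

theorem axis_sum (h5 : p ≠ 5) (hq : QPair i j) (hn : ∀ g ∈ Γ, NormAxes i j g) (v : W) :
    ∑ a : Fin 3, B v (axis i j a v) ^ 2 = 0 := by
  have h2 := h.natCast_ne_zero (n := 2) (by norm_num) (by norm_num)
  obtain ⟨g, hg, hgv⟩ := h.cover v 2 (by simpa using h2)
  have hinj : Function.Injective fun a => (hn g hg a).choose := fun a b e => by
    have h1 := (hn g hg a).choose_spec
    have h2 := (hn g hg b).choose_spec
    rw [show (hn g hg a).choose = (hn g hg b).choose from e] at h1
    -- `g` maps both axes to the same axis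
    refine (h.mapsAxis_unique hq (g := 1) (a := a) (b := b) (b' := a) ?_ (Or.inl fun _ => rfl)).symm
    rcases h1 with e1 | e1 <;> rcases h2 with e2 | e2
    · exact Or.inl fun w => g.injective ((e1 w).trans (e2 w).symm)
    · exact Or.inr fun w => g.injective (by
        show g (axis i j a w) = g (-axis i j b w)
        rw [map_neg, e1, e2, neg_neg])
    · exact Or.inr fun w => g.injective (by
        show g (axis i j a w) = g (-axis i j b w)
        rw [map_neg, e1, e2])
    · exact Or.inl fun w => g.injective ((e1 w).trans (e2 w).symm)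
  refine sum_sq_eq_zero B (fun a => ((axis i j a : W ≃ₗ[ZMod p] W) : W →ₗ[ZMod p] W)) g (h.inv g hg)
    (Equiv.ofBijective _ (Finite.injective_iff_bijective.1 hinj)) (fun a => ?_)
    (two_pow_four_ne_one h.five h5) hgv
  exact (hn g hg a).choose_spec

/-- the space is a plane -/
theorem finrank_eq_two (h5 : p ≠ 5) (hq : QPair i j) (hi : i ∈ Γ) (hj : j ∈ Γ)
    (hn : ∀ g ∈ Γ, NormAxes i j g) : Module.finrank (ZMod p) W = 2 := by
  obtain ⟨α, β, hab⟩ := ZMod.sq_add_sq p (-1)
  have hji : ∀ w, j (i w) = -(i (j w)) := fun w => by rw [hq.ij, neg_neg]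
  set a : W →ₗ[ZMod p] W := α • (i : W →ₗ[ZMod p] W) + β • (j : W →ₗ[ZMod p] W) with ha
  set k : W →ₗ[ZMod p] W := (i : W →ₗ[ZMod p] W) ∘ₗ (j : W →ₗ[ZMod p] W) with hk
  have h1 : α * α + β * β = -1 := by rw [← sq, ← sq]; exact hab
  have haa : ∀ w, a (a w) = w := fun w => by
    simp only [ha, LinearMap.add_apply, LinearMap.smul_apply, LinearEquiv.coe_coe, map_add, map_smul,
      hq.ii, hq.jj, hji, smul_add, smul_smul, smul_neg]
    rw [mul_comm β α, show -((α * α) • w) + -((α * β) • i (j w)) + ((α * β) • i (j w) + -((β * β) • w)) =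
      -((α * α + β * β) • w) by rw [add_smul]; abel, h1]
    simp
  have hkk : ∀ w, k (k w) = -w := fun w => by
    simp only [hk, LinearMap.comp_apply, LinearEquiv.coe_coe, hji, map_neg, hq.ii, hq.jj, neg_neg]
  have hak : ∀ w, a (k w) = -k (a w) := fun w => by
    simp only [ha, hk, LinearMap.add_apply, LinearMap.smul_apply, LinearMap.comp_apply,
      LinearEquiv.coe_coe, map_add, map_smul, hji, hq.ii, hq.jj, map_neg, neg_neg, smul_neg, neg_add_rev]
    abel
  have hskew : ∀ (f : W ≃ₗ[ZMod p] W), f ∈ Γ → (∀ w, f (f w) = -w) → ∀ x y, B (f x) y = -B x (f y) :=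
    fun f hf hff x y => by
      have := h.inv f hf x (f y)
      rw [hff, map_neg] at this
      rw [← this, neg_neg]
  have hka : ∀ x y, B (k x) y = -B x (k y) := fun x y => by
    show B (i (j x)) y = -B x (i (j y))
    rw [hskew i hi hq.ii, hskew j hj hq.jj, neg_neg, hji, map_neg]
  have haB : ∀ x y, B (a x) y = -B x (a y) := fun x y => by
    simp only [ha, LinearMap.add_apply, LinearMap.smul_apply, LinearEquiv.coe_coe, map_add, map_smul,
      smul_eq_mul, hskew i hi hq.ii, hskew j hj hq.jj]
    ring
  have hiso : ∀ x y, a x = x → a y = y → B x y = 0 := fun x y hx hy => by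
    have h3 := haB x y
    rw [hx, hy] at h3
    exact (mul_eq_zero.1 (show (2 : ZMod p) * B x y = 0 by linear_combination h3)).resolve_left h.two_ne
  -- the quartic on `x + k y`
  have hS : ∀ x y, a x = x → a y = y → B x (k x) * B y (k y) - B x (k y) ^ 2 = 0 := by
    intro x y hx hy
    have hsum := h.axis_sum h5 hq hn (x + k y)
    rw [Fin.sum_univ_three] at hsum
    set η := x + k y
    have e2 : axis i j 2 η = k η := rfl
    have qa : B η (a η) = α * B η (axis i j 0 η) + β * B η (axis i j 1 η) := by
      simp only [ha, LinearMap.add_apply, LinearMap.smul_apply, LinearEquiv.coe_coe, map_add, map_smul,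
        smul_eq_mul]
      rfl
    have qc : B η (a (k η)) = β * B η (axis i j 0 η) - α * B η (axis i j 1 η) := by
      simp only [ha, hk, LinearMap.add_apply, LinearMap.smul_apply, LinearMap.comp_apply,
        LinearEquiv.coe_coe, map_add, map_smul, smul_eq_mul, hq.ii, hji, hq.jj, map_neg, neg_neg]
      show α * -(B η) (j η) + β * (B η) (i η) = β * (B η) (i η) - α * (B η) (j η)
      ring
    have haη : a η = x - k y := by rw [map_add, hx, hak, hy, sub_eq_add_neg]
    have hkη : k η = k x - y := by rw [map_add, hkk, sub_eq_add_neg]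
    have hyk : B (k y) (k x) = 0 := by rw [hka, hkk, map_neg, neg_neg]; exact hiso y x hy hx
    have hxy := hiso x y hx hy
    have hyx := hiso y x hy hx
    have hxx := h.alt x
    have hyy := h.alt y
    have hkyk : B (k y) (k y) = 0 := h.alt _
    have hkx : B (k y) x = -B x (k y) := h.skew x (k y)
    have hky : B (k y) y = -B y (k y) := h.skew y (k y)
    have va : B η (a η) = -2 * B x (k y) := by
      rw [haη]
      simp only [η, map_add, map_sub, LinearMap.add_apply, hxx, hkyk, hkx]
      ring
    have vk : B η (k η) = B x (k x) + B y (k y) := by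
      rw [hkη]
      simp only [η, map_add, map_sub, LinearMap.add_apply, hxy, hyk, hky]
      ring
    have vc : B η (a (k η)) = B y (k y) - B x (k x) := by
      rw [hkη, map_sub, hak, hx, hy]
      simp only [η, map_add, map_sub, map_neg, LinearMap.add_apply, hxy, hyk, hky]
      ring
    have : (4 : ZMod p) * (B x (k x) * B y (k y) - B x (k y) ^ 2) = 0 := by
      rw [qa] at va
      rw [qc] at vc
      rw [e2, vk] at hsum
      linear_combination hsum + (B η (axis i j 0 η) ^ 2 + B η (axis i j 1 η) ^ 2) * (-h1) +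
        (α * B η (axis i j 0 η) + β * B η (axis i j 1 η) - 2 * B x (k y)) * va +
        (β * B η (axis i j 0 η) - α * B η (axis i j 1 η) + (B y (k y) - B x (k x))) * vc
    refine (mul_eq_zero.1 this).resolve_left ?_
    rw [show (4 : ZMod p) = 2 * 2 by norm_num]
    exact mul_ne_zero h.two_ne h.two_ne
  have hsplit : ∀ w : W, ∃ x y, a x = x ∧ a y = y ∧ w = x + k y := by
    intro w
    refine ⟨(2 : ZMod p)⁻¹ • (w + a w), (2 : ZMod p)⁻¹ • -k (w - a w), ?_, ?_, ?_⟩
    · rw [map_smul, map_add, haa, add_comm]
    · rw [map_smul, map_neg, hak, neg_neg, map_sub a, haa, ← neg_sub w, map_neg]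
    · rw [map_smul, map_neg, hkk, neg_neg, ← smul_add]
      refine ((inv_smul_eq_iff₀ h.two_ne).2 ?_).symm
      rw [two_smul]; abel
  -- a vector with nonzero value
  obtain ⟨x, hx, hxk⟩ : ∃ x, a x = x ∧ B x (k x) ≠ 0 := by
    by_contra hc
    push Not at hc
    have hzero : ∀ x y, a x = x → a y = y → B x (k y) = 0 := fun x y hx hy => by
      have h3 := hS x y hx hy
      rw [hc x hx, zero_mul, zero_sub, neg_eq_zero] at h3
      exact sq_eq_zero_iff.1 h3
    obtain ⟨w, hw⟩ := exists_ne (0 : W)
    obtain ⟨x, y, hx, hy, rfl⟩ := hsplit w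
    have h0 : ∀ x, a x = x → x = 0 := fun x hx => h.nd x fun z => by
      obtain ⟨x', y', hx', hy', rfl⟩ := hsplit z
      rw [map_add, hiso x x' hx hx', hzero x y' hx hy', add_zero]
    exact hw (by rw [h0 x hx, h0 y hy, map_zero, add_zero])
  have hline : ∀ y, a y = y → ∃ c : ZMod p, y = c • x := by
    intro y hy
    refine ⟨B x (k y) / B x (k x), eq_of_sub_eq_zero (h.nd _ fun z => ?_)⟩
    set y' := y - (B x (k y) / B x (k x)) • x
    have hy' : a y' = y' := by rw [map_sub, map_smul, hx, hy]
    have hxy' : B x (k y') = 0 := by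
      rw [map_sub, map_smul, map_sub, map_smul, smul_eq_mul, div_mul_cancel₀ _ hxk, sub_self]
    have hperp : ∀ z, a z = z → B x (k z) = 0 → B z (k z) = 0 := fun z hz hxz => by
      have h3 := hS x z hx hz
      rw [hxz, zero_pow two_ne_zero, sub_zero] at h3
      exact (mul_eq_zero.1 h3).resolve_left hxk
    have hsym : ∀ u v, B u (k v) = B v (k u) := fun u v => by
      rw [h.skew (k v) u, hka, neg_neg]
    have hall : ∀ z, a z = z → B y' (k z) = 0 := by
      intro z hz
      set z' := z - (B x (k z) / B x (k x)) • x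
      have hz' : a z' = z' := by rw [map_sub, map_smul, hx, hz]
      have hxz' : B x (k z') = 0 := by
        rw [map_sub, map_smul, map_sub, map_smul, smul_eq_mul, div_mul_cancel₀ _ hxk, sub_self]
      have h3 := hperp (y' + z') (by rw [map_add, hy', hz'])
        (by rw [map_add, map_add, hxy', hxz', add_zero])
      simp only [map_add, LinearMap.add_apply, hperp y' hy' hxy', hperp z' hz' hxz'] at h3
      rw [hsym z' y'] at h3
      have h4 : B y' (k z') = 0 :=
        (mul_eq_zero.1 (show (2 : ZMod p) * B y' (k z') = 0 by linear_combination h3)).resolve_left h.two_ne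
      rw [show z = z' + (B x (k z) / B x (k x)) • x by simp [z'], map_add, map_add, map_smul, map_smul,
        h4, hsym y' x, hxy', smul_zero, add_zero]
    obtain ⟨x', y'', hx', hy'', rfl⟩ := hsplit z
    rw [map_add, hiso y' x' hy' hx', hall y'' hy'', add_zero]
  have hne : x ≠ 0 := fun e => hxk (by rw [e, map_zero, LinearMap.zero_apply])
  haveI : FiniteDimensional (ZMod p) W := Module.Finite.of_finite
  have hli : LinearIndependent (ZMod p) ![x, k x] := by
    rw [LinearIndependent.pair_iff]
    intro s t hst
    have h2 := congrArg (B x) hst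
    simp only [map_add, map_smul, smul_eq_mul, h.alt, mul_zero, zero_add, map_zero] at h2
    have ht := (mul_eq_zero.1 h2).resolve_right hxk
    rw [ht, zero_smul, add_zero] at hst
    exact ⟨(smul_eq_zero.1 hst).resolve_right hne, ht⟩
  have hsp : Submodule.span (ZMod p) (Set.range ![x, k x]) = ⊤ := by
    refine Submodule.eq_top_iff'.2 fun w => ?_
    obtain ⟨x', y', hx', hy', rfl⟩ := hsplit w
    obtain ⟨c, rfl⟩ := hline x' hx'
    obtain ⟨d, rfl⟩ := hline y' hy'
    rw [map_smul]
    exact add_mem (Submodule.smul_mem _ _ (Submodule.subset_span ⟨0, rfl⟩))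
      (Submodule.smul_mem _ _ (Submodule.subset_span ⟨1, rfl⟩))
  have := finrank_span_eq_card hli
  rw [hsp, finrank_top] at this
  simpa using this

end Cover

end Cfsg.Agent.DistinctSizes
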