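import Cfsg.Agent.Lib.Block.DistinctSizes.Plane

/-!
# Orders of plane isometries normalising a quaternion group
-/

set_option autoImplicit false

set_option linter.unusedSectionVars false

namespace Cfsg.Agent.DistinctSizes

universe u

theorem seven_facts : (3 : ZMod 7) ^ 4 ≠ 1 ∧ (3 : ZMod 7) ^ 8 ≠ 1 ∧
    ∀ t : ZMod 7, t * t - 2 = 0 → t = 3 ∨ t = 4 := by decide

variable {p : ℕ} [hp : Fact p.Prime] {W : Type u} [AddCommGroup W] [Module (ZMod p) W]

theorem perm_three_cases : ∀ σ : Equiv.Perm (Fin 3),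
    σ = 1 ∨ (σ ^ 3 = 1 ∧ ∀ a, σ a ≠ a) ∨
      (σ ^ 2 = 1 ∧ σ ≠ 1 ∧ ∃ a b c, σ a = a ∧ σ b = c ∧ a ≠ b ∧ b ≠ c ∧ a ≠ c) := by decide +kernel

/-- the data shared by the elements studied here -/
structure PlaneQ [Finite W] (B : LinearMap.BilinForm (ZMod p) W) (Γ : Subgroup (W ≃ₗ[ZMod p] W))
    (i j : W ≃ₗ[ZMod p] W) : Prop where
  cov : Cover B Γ
  dim : Module.finrank (ZMod p) W = 2
  qp : QPair i j
  mem_i : i ∈ Γ
  mem_j : j ∈ Γ
  norm : ∀ g ∈ Γ, NormAxes i j g

namespace PlaneQ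

variable [Finite W] {B : LinearMap.BilinForm (ZMod p) W} {Γ : Subgroup (W ≃ₗ[ZMod p] W)}
  {i j : W ≃ₗ[ZMod p] W} (P : PlaneQ B Γ i j)
include P

theorem nontrivial' : Nontrivial W := P.cov.nontrivial P.dim

theorem mapsAxis_one (a : Fin 3) : MapsAxis i j 1 a a := Or.inl fun _ => rfl

theorem mapsAxis_mul {g g' : W ≃ₗ[ZMod p] W} {a b c : Fin 3} (hb : MapsAxis i j g' a b)
    (hc : MapsAxis i j g b c) : MapsAxis i j (g * g') a c := by
  rcases hb with e | e <;> rcases hc with e' | e'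
  · exact Or.inl fun w => by rw [LinearEquiv.mul_apply, LinearEquiv.mul_apply, e, e']
  · exact Or.inr fun w => by rw [LinearEquiv.mul_apply, LinearEquiv.mul_apply, e, e']
  · exact Or.inr fun w => by rw [LinearEquiv.mul_apply, LinearEquiv.mul_apply, e, map_neg, e']
  · exact Or.inl fun w => by rw [LinearEquiv.mul_apply, LinearEquiv.mul_apply, e, map_neg, e', neg_neg]

theorem mapsAxis_inv {g : W ≃ₗ[ZMod p] W} {a b : Fin 3} (hb : MapsAxis i j g a b) :
    MapsAxis i j g⁻¹ b a := by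
  rcases hb with e | e
  · exact Or.inl fun w => by
      have := congrArg (fun z => g⁻¹ z) (e (g⁻¹ w))
      simp only [inv_apply', apply_inv'] at this
      exact this.symm
  · exact Or.inr fun w => by
      have := congrArg (fun z => g⁻¹ z) (e (g⁻¹ w))
      simp only [inv_apply', apply_inv', map_neg] at this
      rw [this, neg_neg]

/-- the permutation of the axes -/
noncomputable def perm {g : W ≃ₗ[ZMod p] W} (hg : g ∈ Γ) : Equiv.Perm (Fin 3) :=
  haveI := P.nontrivial'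
  Equiv.ofBijective (fun a => (P.norm g hg a).choose)
    (Finite.injective_iff_bijective.1 fun a b e => P.cov.mapsAxis_unique P.qp
      (P.mapsAxis_inv (P.norm g hg a).choose_spec)
      (e.symm ▸ P.mapsAxis_inv (P.norm g hg b).choose_spec))

theorem perm_spec {g : W ≃ₗ[ZMod p] W} (hg : g ∈ Γ) (a : Fin 3) : MapsAxis i j g a (P.perm hg a) :=
  (P.norm g hg a).choose_spec

theorem perm_eq {g : W ≃ₗ[ZMod p] W} (hg : g ∈ Γ) {a b : Fin 3} (hb : MapsAxis i j g a b) :
    P.perm hg a = b :=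
  haveI := P.nontrivial'
  P.cov.mapsAxis_unique P.qp (P.perm_spec hg a) hb

theorem perm_mul {g g' : W ≃ₗ[ZMod p] W} (hg : g ∈ Γ) (hg' : g' ∈ Γ) :
    P.perm (Γ.mul_mem hg hg') = P.perm hg * P.perm hg' :=
  Equiv.ext fun a => P.perm_eq _ (P.mapsAxis_mul (P.perm_spec hg' a) (P.perm_spec hg _))

theorem maps_pow {g : W ≃ₗ[ZMod p] W} (hg : g ∈ Γ) (n : ℕ) (a : Fin 3) :
    MapsAxis i j (g ^ n) a ((P.perm hg ^ n) a) := by
  induction n with
  | zero => exact P.mapsAxis_one a
  | succ n ih =>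
    rw [pow_succ' g, pow_succ' (P.perm hg)]
    exact P.mapsAxis_mul ih (P.perm_spec hg _)

theorem axis_mem (a : Fin 3) : axis i j a ∈ Γ := by
  fin_cases a
  · exact P.mem_i
  · exact P.mem_j
  · exact Γ.mul_mem P.mem_i P.mem_j

theorem fourth {g : W ≃ₗ[ZMod p] W} (hg : g ∈ Γ) (hfix : ∀ a, MapsAxis i j g a a) : g ^ 4 = 1 := by
  refine LinearEquiv.ext fun w => ?_
  show (g ^ (2 + 2)) w = w
  rw [pow_add, pow_two]
  simp only [LinearEquiv.mul_apply]
  rcases P.cov.fixes_all P.dim P.qp P.mem_i P.mem_j hg hfix with e | e | ⟨a, e | e⟩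
  · rw [e, e, e, e]
  · rw [e (g (g (g w))), e (g (g w)), e (g w), e w]; simp
  · rw [e (g (g (g w))), e (g (g w)), P.cov.axis_apply_self P.qp, e (g w), e w,
      P.cov.axis_apply_self P.qp, neg_neg]
  · rw [e (g (g (g w))), e (g (g w)), map_neg, neg_neg, P.cov.axis_apply_self P.qp, e (g w),
      e w, map_neg, neg_neg, P.cov.axis_apply_self P.qp, neg_neg]

theorem sixth {g : W ≃ₗ[ZMod p] W} (hg : g ∈ Γ) (h3 : P.perm hg ^ 3 = 1)
    (hfree : ∀ a, P.perm hg a ≠ a) : g ^ 6 = 1 := by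
  have hm : g ^ 3 ∈ Γ := Γ.pow_mem hg 3
  have hfix : ∀ a, MapsAxis i j (g ^ 3) a a := fun a => by
    have := P.maps_pow hg 3 a; rwa [h3] at this
  have hc : ∀ w, g ((g ^ 3) w) = (g ^ 3) (g w) := fun w => by
    rw [← LinearEquiv.mul_apply, ← LinearEquiv.mul_apply, ← pow_succ, ← pow_succ']
  refine LinearEquiv.ext fun w => ?_
  show (g ^ (3 + 3)) w = w
  rw [pow_add, LinearEquiv.mul_apply]
  rcases P.cov.fixes_all P.dim P.qp P.mem_i P.mem_j hm hfix with e | e | ⟨a, e | e⟩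
  · rw [e, e]
  · rw [e ((g ^ 3) w), e w, neg_neg]
  · exact absurd (P.perm_eq hg (Or.inl fun w => by rw [← e, ← e, hc])) (hfree a)
  · refine absurd (P.perm_eq hg (Or.inl fun w => ?_)) (hfree a)
    have e1 : ∀ w, axis i j a w = -(g ^ 3) w := fun w => by rw [e, neg_neg]
    rw [e1, e1, map_neg, hc]

theorem product_axes {a b c : Fin 3} (hab : a ≠ b) (hbc : b ≠ c) (hac : a ≠ c) :
    (∀ w, axis i j b (axis i j c w) = axis i j a w) ∨ ∀ w, axis i j b (axis i j c w) = -axis i j a w := by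
  have hji : ∀ w, j (i w) = -(i (j w)) := fun w => by rw [P.qp.ij, neg_neg]
  fin_cases a <;> fin_cases b <;> fin_cases c <;>
    first | exact absurd rfl hab | exact absurd rfl hbc | exact absurd rfl hac | skip
  · refine Or.inl fun w => ?_
    show j (i (j w)) = i w
    rw [hji, P.qp.jj, map_neg, neg_neg]
  · refine Or.inr fun w => ?_
    show i (j (j w)) = -i w
    rw [P.qp.jj, map_neg]
  · exact Or.inr fun w => P.qp.ii (j w)
  · refine Or.inl fun w => ?_
    show i (j (i w)) = j w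
    rw [hji, map_neg, P.qp.ii, neg_neg]
  · exact Or.inl fun w => rfl
  · exact Or.inr fun w => hji w

theorem eighth {g : W ≃ₗ[ZMod p] W} (hg : g ∈ Γ) (h2 : P.perm hg ^ 2 = 1) : g ^ 8 = 1 := by
  have := P.fourth (Γ.pow_mem hg 2) fun a => by
    have := P.maps_pow hg 2 a; rwa [h2] at this
  rwa [← pow_mul] at this

/-- a transposition of axes gives an element with fourth power `-1` -/
theorem exists_fourth_neg {g : W ≃ₗ[ZMod p] W} (hg : g ∈ Γ) (h2 : P.perm hg ^ 2 = 1)
    (hne : P.perm hg ≠ 1) {a b c : Fin 3} (hb : P.perm hg b = c)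
    (hab : a ≠ b) (hbc : b ≠ c) (hac : a ≠ c) :
    ∃ z ∈ Γ, ∀ w, (z ^ 4) w = -w := by
  have hm : g ^ 2 ∈ Γ := Γ.pow_mem hg 2
  have hfix : ∀ a, MapsAxis i j (g ^ 2) a a := fun a => by
    have := P.maps_pow hg 2 a; rwa [h2] at this
  rcases P.cov.fixes_all P.dim P.qp P.mem_i P.mem_j hm hfix with e | e | ⟨a', e⟩
  · exfalso
    rcases P.cov.sq_one P.dim hg (fun w => by rw [← LinearEquiv.mul_apply, ← pow_two, e]) with rfl | e'
    · exact hne (Equiv.ext fun x => P.perm_eq _ (P.mapsAxis_one x))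
    · exact hne (Equiv.ext fun x => P.perm_eq _ (Or.inl fun w => by rw [e', e', map_neg]; rfl))
  · refine ⟨g * axis i j b, Γ.mul_mem hg (P.axis_mem b), fun w => ?_⟩
    have hz : (∀ w, ((g * axis i j b) ^ 2) w = axis i j a w) ∨
        ∀ w, ((g * axis i j b) ^ 2) w = -axis i j a w := by
      have e2 : ∀ w, g (g w) = -w := fun w => by rw [← LinearEquiv.mul_apply, ← pow_two, e]
      have hbc' := P.perm_spec hg b
      rw [hb] at hbc'
      have hsq : ∀ w, ((g * axis i j b) ^ 2) w = g (axis i j b (g (axis i j b w))) := fun w => by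
        rw [pow_two]; rfl
      rcases hbc' with f | f <;>
        rcases P.product_axes hac (Ne.symm hbc) hab with r | r
      · exact Or.inr fun w => by rw [hsq, f, e2, map_neg, r]
      · exact Or.inl fun w => by rw [hsq, f, e2, map_neg, r, neg_neg]
      · exact Or.inl fun w => by rw [hsq, f, e2, map_neg, neg_neg, r]
      · exact Or.inr fun w => by rw [hsq, f, e2, map_neg, neg_neg, r]
    rw [show (4 : ℕ) = 2 * 2 from rfl, pow_mul, pow_two, LinearEquiv.mul_apply]
    rcases hz with r | r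
    · rw [r, r, P.cov.axis_apply_self P.qp]
    · rw [r, r, map_neg, neg_neg, P.cov.axis_apply_self P.qp]
  · refine ⟨g, hg, fun w => ?_⟩
    rw [show (4 : ℕ) = 2 + 2 from rfl, pow_add, LinearEquiv.mul_apply]
    rcases e with e | e
    · rw [e, e, P.cov.axis_apply_self P.qp]
    · rw [e, e, map_neg, neg_neg, P.cov.axis_apply_self P.qp]

theorem scales_pow {g : W ≃ₗ[ZMod p] W} {v : W} {k : ZMod p} (e : g v = k • v) (n : ℕ) :
    (g ^ n) v = k ^ n • v := by
  induction n with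
  | zero => simp
  | succ n ih => rw [pow_succ', LinearEquiv.mul_apply, ih, map_smul, e, smul_smul, pow_succ]

theorem prime_eq_seven (h7 : 7 ≤ p) : p = 7 := by
  haveI := P.cov.nontrivial P.dim
  obtain ⟨v, hv⟩ := exists_ne (0 : W)
  obtain ⟨k, hk⟩ := IsCyclic.exists_ofOrder_eq_natCard (α := (ZMod p)ˣ)
  obtain ⟨g, hg, hgv⟩ := P.cov.cover v (k : ZMod p) k.ne_zero
  rw [Nat.card_eq_fintype_card, ZMod.card_units] at hk
  have hd : ∀ n, g ^ n = 1 → p - 1 ∣ n := by
    intro n hn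
    rw [← hk]
    refine orderOf_dvd_of_pow_eq_one (Units.ext (smul_left_injective (ZMod p) hv ?_))
    show ((k ^ n : (ZMod p)ˣ) : ZMod p) • v = ((1 : (ZMod p)ˣ) : ZMod p) • v
    rw [Units.val_pow_eq_pow_val, ← P.scales_pow hgv, hn, Units.val_one, one_smul]
    rfl
  have hd' : p - 1 ∣ 4 ∨ p - 1 ∣ 6 ∨ p - 1 ∣ 8 := by
    rcases perm_three_cases (P.perm hg) with e | ⟨e, e'⟩ | ⟨e, -, -⟩
    · refine Or.inl (hd 4 (P.fourth hg fun a => ?_))
      have := P.perm_spec hg a; rwa [e] at this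
    · exact Or.inr (Or.inl (hd 6 (P.sixth hg e e')))
    · exact Or.inr (Or.inr (hd 8 (P.eighth hg e)))
  have hle : p ≤ 9 := by
    rcases hd' with h | h | h <;> have := Nat.le_of_dvd (by norm_num) h <;> omega
  have := hp.out
  interval_cases p <;> norm_num at *

theorem hasTrace_of_fourth_neg (h7 : p = 7) {z : W ≃ₗ[ZMod p] W} (hz : z ∈ Γ)
    (h4 : ∀ w, (z ^ 4) w = -w) : HasTrace z 3 ∨ HasTrace z 4 := by
  haveI := P.cov.nontrivial P.dim
  obtain ⟨t, ht⟩ := P.cov.exists_hasTrace P.dim hz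
  obtain ⟨v, hv⟩ := exists_ne (0 : W)
  have h2 : ∀ w, z (z w) = t • z w - w := fun w => by
    have := ht (z w); rw [inv_apply'] at this
    exact eq_sub_of_add_eq this
  have e := h4 v
  rw [show (z ^ 4) v = z (z (z (z v))) from rfl] at e
  simp only [h2, map_sub, map_smul] at e
  subst h7
  have ht' : t = 3 ∨ t = 4 := by
    by_contra hne
    -- `(t * t - 2) • (z (z v)) = 0`
    have e' : (t * t - 2) • (t • z v - v) = 0 := by
      linear_combination (norm := module) e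
    rcases smul_eq_zero.1 e' with h0 | h0
    · exact hne (seven_facts.2.2 t h0)
    · rw [← h2 v] at h0
      exact hv (z.map_eq_zero_iff.1 (z.map_eq_zero_iff.1 h0))
  rcases ht' with rfl | rfl
  · exact Or.inl ht
  · exact Or.inr ht

/-- for `p = 7` the elements scaling a vector by `3` permute the axes cyclically -/
theorem free_of_scales (h7 : p = 7) {g : W ≃ₗ[ZMod p] W} (hg : g ∈ Γ) {v : W} (hv : v ≠ 0)
    (e : g v = (3 : ZMod p) • v) : P.perm hg ^ 3 = 1 ∧ ∀ a, P.perm hg a ≠ a := by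
  have key : ∀ n, (3 : ZMod p) ^ n ≠ 1 → g ^ n ≠ 1 := fun n hn hgn => hn (smul_left_injective _ hv
    (show (3 : ZMod p) ^ n • v = (1 : ZMod p) • v by rw [← P.scales_pow e, hgn, one_smul]; rfl))
  subst h7
  rcases perm_three_cases (P.perm hg) with e' | e' | ⟨e', -, -⟩
  · refine absurd (P.fourth hg fun a => ?_) (key 4 seven_facts.1)
    have := P.perm_spec hg a; rwa [e'] at this
  · exact e'
  · exact absurd (P.eighth hg e') (key 8 seven_facts.2.1)

end PlaneQ

end Cfsg.Agent.DistinctSizes
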