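import Cfsg.Agent.Lib.Block.DistinctSizes.Extra
import Cfsg.Agent.Lib.Block.DistinctSizes.PlaneOrder
import Cfsg.Agent.Lib.Block.DistinctSizes.PlaneDim

/-!
# Maximal point stabilisers in the Fitting subgroup of a covering group

The centraliser of a maximal stabiliser `A` induces a quaternion group on the fixed space of
`A`, which is a plane.
-/

set_option autoImplicit false

set_option linter.unusedSectionVars false

namespace Cfsg.Agent.DistinctSizes

universe u

variable {p : ℕ} [hp : Fact p.Prime] {W : Type u} [AddCommGroup W] [Module (ZMod p) W]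

theorem IsSign.exists_scalar {x : W ≃ₗ[ZMod p] W} (hx : IsSign x) :
    ∃ ε : ZMod p, ε * ε = 1 ∧ ∀ w, x w = ε • w := by
  rcases hx with rfl | e
  · exact ⟨1, one_mul 1, fun w => (one_smul _ w).symm⟩
  · exact ⟨-1, by ring, fun w => by rw [e, neg_one_smul]⟩

theorem CommSign.exists_scalar {x y : W ≃ₗ[ZMod p] W} (h : CommSign x y) :
    ∃ τ : ZMod p, τ * τ = 1 ∧ ∀ w, x (y w) = τ • y (x w) := by
  rcases h with e | e
  · exact ⟨1, one_mul 1, fun w => by rw [e, one_smul]⟩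
  · exact ⟨-1, by ring, fun w => by rw [e, neg_one_smul]⟩

/-- `x` is, up to sign, an element of `A` -/
def InSigned (A : Subgroup (W ≃ₗ[ZMod p] W)) (x : W ≃ₗ[ZMod p] W) : Prop :=
  ∃ a ∈ A, (∀ w, x w = a w) ∨ ∀ w, x w = -a w

/-- the elements of `Q` commuting with `A` -/
def centIn (Q A : Subgroup (W ≃ₗ[ZMod p] W)) : Subgroup (W ≃ₗ[ZMod p] W) :=
  Q ⊓ Subgroup.centralizer (A : Set (W ≃ₗ[ZMod p] W))

theorem mem_centIn {Q A : Subgroup (W ≃ₗ[ZMod p] W)} {x : W ≃ₗ[ZMod p] W} :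
    x ∈ centIn Q A ↔ x ∈ Q ∧ ∀ a ∈ A, ∀ w, x (a w) = a (x w) := by
  rw [centIn, Subgroup.mem_inf, Subgroup.mem_centralizer_iff]
  refine and_congr_right fun _ => forall₂_congr fun a _ => ⟨fun e w => ?_, fun e => LinearEquiv.ext fun w => ?_⟩
  · exact (LinearEquiv.congr_fun e w).symm
  · exact (e w).symm

/-- a maximal point stabiliser -/
structure MaxFix (Q A : Subgroup (W ≃ₗ[ZMod p] W)) : Prop where
  le : A ≤ Q
  ne : ∃ v ∈ fixedSpace A, v ≠ 0
  max : ∀ x ∈ Q, ∀ w ∈ fixedSpace A, w ≠ 0 → x w = w → x ∈ A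

/-- the normaliser of `A` in `Γ` -/
def normIn (Γ A : Subgroup (W ≃ₗ[ZMod p] W)) : Subgroup (W ≃ₗ[ZMod p] W) :=
  Γ ⊓ Subgroup.normalizer (A : Set (W ≃ₗ[ZMod p] W))

/-- the conclusion about a maximal stabiliser -/
structure Quat (B : LinearMap.BilinForm (ZMod p) W) [Finite W] (Γ Q A : Subgroup (W ≃ₗ[ZMod p] W))
    (i j : W ≃ₗ[ZMod p] W) : Prop where
  exq : ExQ Γ Q
  mfix : MaxFix Q A
  mem_i : i ∈ centIn Q A
  mem_j : j ∈ centIn Q A
  qp : QPair i j
  decomp : ∀ x ∈ centIn Q A, ∃ a ∈ A, ∃ f, (f = 1 ∨ ∃ b, f = axis i j b) ∧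
    ((∀ w, x w = a (f w)) ∨ ∀ w, x w = -a (f w))
  plane : ∃ i' j' : fixedSpace A ≃ₗ[ZMod p] fixedSpace A,
    (∀ w : fixedSpace A, (i' w : W) = i w.1) ∧ (∀ w : fixedSpace A, (j' w : W) = j w.1) ∧
    PlaneQ (restrictForm B (fixedSpace A)) (imageOn (fixedSpace A) (normIn Γ A)) i' j'

namespace Cover

variable [Finite W] [Nontrivial W] {B : LinearMap.BilinForm (ZMod p) W} {Γ : Subgroup (W ≃ₗ[ZMod p] W)}
  (h : Cover B Γ) {Q A : Subgroup (W ≃ₗ[ZMod p] W)}
include h

theorem exists_maxFix (Q : Subgroup (W ≃ₗ[ZMod p] W)) : ∃ A, MaxFix Q A := by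
  let st : W → Subgroup (W ≃ₗ[ZMod p] W) := fun v =>
    { carrier := {x | x ∈ Q ∧ x v = v}
      one_mem' := ⟨Q.one_mem, rfl⟩
      mul_mem' := fun {x y} hx hy => ⟨Q.mul_mem hx.1 hy.1, by rw [LinearEquiv.mul_apply, hy.2, hx.2]⟩
      inv_mem' := fun {x} hx => ⟨Q.inv_mem hx.1, by nth_rw 1 [← hx.2]; exact x.symm_apply_apply v⟩ }
  haveI : Nonempty {v : W // v ≠ 0} := by
    obtain ⟨v, hv⟩ := exists_ne (0 : W)
    exact ⟨⟨v, hv⟩⟩
  obtain ⟨⟨v, hv⟩, hmax⟩ := Finite.exists_max fun v : {v : W // v ≠ 0} => Nat.card (st v.1)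
  refine ⟨st v, ⟨fun x hx => hx.1, ⟨v, fun a ha => ha.2, hv⟩, fun x hx w hw hw0 hxw => ?_⟩⟩
  have hle : st v ≤ st w := fun a ha => ⟨ha.1, hw a ha⟩
  rw [Subgroup.eq_of_le_of_card_ge hle (hmax ⟨w, hw0⟩)]
  exact ⟨hx, hxw⟩

theorem mfix_sq (E : ExQ Γ Q) (M : MaxFix Q A) {a : W ≃ₗ[ZMod p] W} (ha : a ∈ A) (w : W) :
    a (a w) = w := by
  obtain ⟨v, hv, hv0⟩ := M.ne
  rcases E.sq a (M.le ha) with e | e
  · rw [← LinearEquiv.mul_apply, e]; rfl
  · exfalso
    have h1 := e v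
    rw [LinearEquiv.mul_apply, hv a ha, hv a ha] at h1
    exact hv0 (h.eq_zero_of_eq_neg h1)

theorem mfix_comm (E : ExQ Γ Q) (M : MaxFix Q A) {a b : W ≃ₗ[ZMod p] W} (ha : a ∈ A) (hb : b ∈ A)
    (w : W) : a (b w) = b (a w) := by
  obtain ⟨v, hv, hv0⟩ := M.ne
  rcases E.comm a (M.le ha) b (M.le hb) with e | e
  · exact e w
  · exfalso
    have h1 := e v
    rw [hv a ha, hv b hb, hv a ha] at h1
    exact hv0 (h.eq_zero_of_eq_neg h1)

theorem le_centIn (E : ExQ Γ Q) (M : MaxFix Q A) : A ≤ centIn Q A := fun _ ha =>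
  mem_centIn.2 ⟨M.le ha, fun _ hb => h.mfix_comm E M ha hb⟩

theorem centIn_maps {x : W ≃ₗ[ZMod p] W} (hx : x ∈ centIn Q A) {w : W} (hw : w ∈ fixedSpace A) :
    x w ∈ fixedSpace A := fun a ha => by rw [← (mem_centIn.1 hx).2 a ha, hw a ha]

theorem exists_anti (E : ExQ Γ Q) (M : MaxFix Q A) {y : W ≃ₗ[ZMod p] W} (hy : y ∈ Q)
    (hyC : y ∉ centIn Q A) : ∃ a ∈ A, ∀ w, y (a w) = -a (y w) := by
  by_contra hc
  push Not at hc
  refine hyC (mem_centIn.2 ⟨hy, fun a ha w => ?_⟩)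
  rcases E.comm y hy a (M.le ha) with e | e
  · exact e w
  · obtain ⟨w', hw'⟩ := hc a ha
    exact absurd (e w') hw'

theorem orth (E : ExQ Γ Q) (M : MaxFix Q A) {y : W ≃ₗ[ZMod p] W} (hy : y ∈ Q) (hyC : y ∉ centIn Q A)
    {u w : W} (hu : u ∈ fixedSpace A) (hw : w ∈ fixedSpace A) : B u (y w) = 0 := by
  obtain ⟨a, ha, e⟩ := h.exists_anti E M hy hyC
  have h1 := h.inv a (E.le (M.le ha)) u (y w)
  have h2 : a (y w) = -y w := by
    have := e w
    rw [hw a ha] at this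
    exact (neg_eq_iff_eq_neg.2 this).symm
  rw [hu a ha, h2, map_neg] at h1
  exact (mul_eq_zero.1 (show (2 : ZMod p) * B u (y w) = 0 by linear_combination -h1)).resolve_left h.two_ne

/-- the centraliser of a maximal stabiliser is not just signs and `A` -/
theorem exists_not_signed (E : ExQ Γ Q) (M : MaxFix Q A) (h5 : p ≠ 5) :
    ∃ y ∈ centIn Q A, ¬ InSigned A y := by
  classical
  by_contra hc
  push Not at hc
  obtain ⟨z, hzQ, hz⟩ := E.neg_mem
  -- an element outside `C`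
  obtain ⟨q, hqQ, hqC⟩ : ∃ q ∈ Q, q ∉ centIn Q A := by
    by_contra hall
    push Not at hall
    have hab : ∀ x ∈ Q, ∀ y ∈ Q, x * y = y * x := by
      intro x hx y hy
      obtain ⟨a, ha, ea⟩ := hc x (hall x hx)
      have hcy := (mem_centIn.1 (hall y hy)).2 a ha
      refine LinearEquiv.ext fun w => ?_
      rw [LinearEquiv.mul_apply, LinearEquiv.mul_apply]
      rcases ea with e | e
      · rw [e, e, hcy]
      · rw [e, e, map_neg, hcy]
    obtain ⟨g, hg, hgn⟩ := h.exists_not_sign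
    refine hgn (E.cent g hg fun x hx => ?_)
    -- `x` is central in `Q`, hence a sign
    exact ((E.cent x (E.le hx) fun y hy => hab x hx y hy).commute g).symm
  obtain ⟨a₀, ha₀, hanti⟩ := h.exists_anti E M hqQ hqC
  obtain ⟨η, hη, hη0⟩ := M.ne
  obtain ⟨η', hη', hc0⟩ : ∃ η' ∈ fixedSpace A, B η η' ≠ 0 := by
    by_contra hcc
    push Not at hcc
    exact hη0 (h.nd_fixedSpace (M.le.trans E.le) hη hcc)
  have hsc : ∀ y ∈ centIn Q A, ∃ s : ZMod p, s * s = 1 ∧ ∀ w ∈ fixedSpace A, y w = s • w := by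
    intro y hy
    obtain ⟨a, ha, e | e⟩ := hc y hy
    · exact ⟨1, one_mul 1, fun w hw => by rw [e, hw a ha, one_smul]⟩
    · exact ⟨-1, by ring, fun w hw => by rw [e, hw a ha, neg_one_smul]⟩
  have hself : ∀ x ∈ Q, ∀ u ∈ fixedSpace A, B u (x u) = 0 := by
    intro x hx u hu
    by_cases hxC : x ∈ centIn Q A
    · obtain ⟨s, -, hs⟩ := hsc x hxC
      rw [hs u hu, map_smul, h.alt, smul_zero]
    · exact h.orth E M hx hxC hu hu
  obtain ⟨ε, hε, hqq⟩ := (E.sq q hqQ).exists_scalar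
  simp only [LinearEquiv.mul_apply] at hqq
  haveI : Fintype Q := Fintype.ofFinite Q
  haveI : Fintype (centIn Q A) := Fintype.ofFinite _
  choose τ hτ hτw using fun y : centIn Q A => (E.comm y.1 (mem_centIn.1 y.2).1 q hqQ).exists_scalar
  set v := η + q η'
  let F : Q → ZMod p := fun x => B v ((x : W ≃ₗ[ZMod p] W) v) ^ 2
  have hsum : ∑ x : Q, F x = 0 := h.sum_sq h5 E.nor v
  rw [← Equiv.sum_comp (Equiv.mulLeft (⟨q, hqQ⟩ : Q)) F] at hsum
  let e : centIn Q A → Q := fun y => ⟨y.1, (mem_centIn.1 y.2).1⟩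
  have hne : ∀ y : centIn Q A, B η η' ^ 2 * (2 - 2 * (τ y * ε)) =
      F (Equiv.mulLeft (⟨q, hqQ⟩ : Q) (e y)) := by
    intro y
    obtain ⟨s, hs, hsw⟩ := hsc y.1 y.2
    show _ = B v (q ((y : W ≃ₗ[ZMod p] W) v)) ^ 2
    have hv' : q ((y : W ≃ₗ[ZMod p] W) v) = s • q η + (τ y * s * ε) • η' := by
      rw [map_add, hsw η hη, hτw, hsw η' hη', map_add, map_smul, map_smul, map_smul, map_smul, hqq,
        smul_smul, smul_smul, mul_assoc]
    have h1 : B η (q η) = 0 := h.orth E M hqQ hqC hη hη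
    have h2 : B (q η') η' = 0 := by rw [h.skew η' (q η'), h.orth E M hqQ hqC hη' hη', neg_zero]
    have h3 : B (q η') (q η) = -B η η' := by rw [h.inv q (E.le hqQ), h.skew η η']
    rw [hv']
    simp only [v, map_add, map_smul, LinearMap.add_apply, smul_eq_mul, h1, h2, h3]
    linear_combination (-(B η η' ^ 2) * (τ y * τ y * ε * ε - 2 * (τ y * ε) + 1)) * hs -
      (B η η' ^ 2 * ε * ε) * hτ y - B η η' ^ 2 * hε
  have hzero : ∀ x : Q, (¬ ∃ y, e y = x) → F (Equiv.mulLeft (⟨q, hqQ⟩ : Q) x) = 0 := by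
    intro x hx
    have hxC : (x : W ≃ₗ[ZMod p] W) ∉ centIn Q A := fun hh => hx ⟨⟨x.1, hh⟩, rfl⟩
    obtain ⟨τ', -, hτ'⟩ := (E.comm x.1 x.2 q hqQ).exists_scalar
    show B v (q ((x : W ≃ₗ[ZMod p] W) v)) ^ 2 = 0
    have hv' : q ((x : W ≃ₗ[ZMod p] W) v) = q (x.1 η) + (τ' * ε) • x.1 η' := by
      rw [map_add, hτ', map_add, map_smul, hqq, smul_smul]
    have hqx : q * x.1 ∈ Q := Q.mul_mem hqQ x.2
    have h1 : B η (q (x.1 η)) = 0 := hself _ hqx η hη
    have h2 : B η (x.1 η') = 0 := h.orth E M x.2 hxC hη hη'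
    have h3 : B (q η') (q (x.1 η)) = 0 := by rw [h.inv q (E.le hqQ)]; exact h.orth E M x.2 hxC hη' hη
    have h4 : B (q η') (x.1 η') = 0 := by
      have h5' := h.inv q (E.le hqQ) (q η') (x.1 η')
      have h6 : B η' (q (x.1 η')) = 0 := hself _ hqx η' hη'
      rw [hqq, map_smul, LinearMap.smul_apply, h6] at h5'
      rw [← h5', smul_zero]
    rw [hv']
    simp only [v, map_add, map_smul, LinearMap.add_apply, smul_eq_mul, h1, h2, h3, h4]
    ring
  have heinj : Function.Injective e := fun a b ab =>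
    Subtype.ext (congrArg (fun z : Q => (z : W ≃ₗ[ZMod p] W)) ab)
  rw [← Fintype.sum_of_injective e heinj _ _ (fun x hx => hzero x hx) hne, ← Finset.mul_sum,
    Finset.sum_sub_distrib, ← Finset.mul_sum, ← Finset.sum_mul] at hsum
  have hτ0 : ∑ y, τ y = 0 := by
    have hflip : ∀ y, τ ((⟨a₀, h.le_centIn E M ha₀⟩ : centIn Q A) * y) = -τ y := by
      intro y
      obtain ⟨w, hw⟩ := exists_ne (0 : W)
      have hne' : q (a₀ ((y : W ≃ₗ[ZMod p] W) w)) ≠ 0 := fun e => hw (by simpa using e)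
      refine smul_left_injective _ hne' ?_
      show τ _ • q (a₀ (y.1 w)) = (-τ y) • q (a₀ (y.1 w))
      have h6 := hτw ((⟨a₀, h.le_centIn E M ha₀⟩ : centIn Q A) * y) w
      simp only [Subgroup.coe_mul, LinearEquiv.mul_apply] at h6
      rw [hτw y, map_smul] at h6
      rw [← h6, hanti (y.1 w), neg_smul, smul_neg, neg_neg]
    have h6 := Equiv.sum_comp (Equiv.mulLeft (⟨a₀, h.le_centIn E M ha₀⟩ : centIn Q A)) τ
    simp only [Equiv.coe_mulLeft, hflip, Finset.sum_neg_distrib] at h6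
    exact (mul_eq_zero.1 (show (2 : ZMod p) * ∑ y, τ y = 0 by linear_combination -h6)).resolve_left h.two_ne
  rw [hτ0, zero_mul, mul_zero, sub_zero, Finset.sum_const, Finset.card_univ, nsmul_eq_mul] at hsum
  rcases mul_eq_zero.1 hsum with h0 | h0
  · exact hc0 (sq_eq_zero_iff.1 h0)
  rcases mul_eq_zero.1 h0 with h0 | h0
  · refine h.cop ?_
    rw [ZMod.natCast_eq_zero_iff, ← Nat.card_eq_fintype_card] at h0
    exact h0.trans (Subgroup.card_dvd_of_le (inf_le_left.trans E.le))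
  · exact h.two_ne h0

theorem normIn_maps {g : W ≃ₗ[ZMod p] W} (hg : g ∈ normIn Γ A) :
    g ∈ preserver (fixedSpace A) := by
  refine fixedSpace_preserver fun a ha => ?_
  have := (Subgroup.mem_normalizer_iff''.1 hg.2 a).1 ha
  exact this

theorem normIn_cover (E : ExQ Γ Q) (M : MaxFix Q A) :
    Cover (restrictForm B (fixedSpace A)) (imageOn (fixedSpace A) (normIn Γ A)) := by
  refine h.restrict inf_le_left (fun w hw h0 => h.nd_fixedSpace (M.le.trans E.le) hw h0) ?_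
  intro v hv c hc
  by_cases hv0 : v = 0
  · exact ⟨1, one_mem _, fun _ => Iff.rfl, by rw [hv0, smul_zero]; rfl⟩
  obtain ⟨g, hg, hgv⟩ := h.cover v c hc
  have hin : ∀ g ∈ Γ, ∀ d : ZMod p, d ≠ 0 → g v = d • v → ∀ a ∈ A, g * a * g⁻¹ ∈ A := by
    intro g hg d hd hgv a ha
    refine M.max _ (E.nor g hg a (M.le ha)) v hv hv0 ?_
    have h1 : g⁻¹ v = d⁻¹ • v := g.injective (by
      rw [apply_inv', map_smul, hgv, smul_smul, inv_mul_cancel₀ hd, one_smul])
    rw [LinearEquiv.mul_apply, LinearEquiv.mul_apply, h1, map_smul, hv a ha, map_smul, hgv, smul_smul,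
      inv_mul_cancel₀ hd, one_smul]
  have hginv : g⁻¹ v = c⁻¹ • v := g.injective (by
    rw [apply_inv', map_smul, hgv, smul_smul, inv_mul_cancel₀ hc, one_smul])
  have hnorm : g ∈ normIn Γ A := by
    refine ⟨hg, Subgroup.mem_normalizer_iff.2 fun a => ⟨hin g hg c hc hgv a, fun ha => ?_⟩⟩
    have := hin g⁻¹ (Γ.inv_mem hg) c⁻¹ (inv_ne_zero hc) hginv _ ha
    rwa [show g⁻¹ * (g * a * g⁻¹) * g⁻¹⁻¹ = a by group] at this
  exact ⟨g, hnorm, h.normIn_maps hnorm, hgv⟩

theorem sq_neg (E : ExQ Γ Q) (M : MaxFix Q A) {y : W ≃ₗ[ZMod p] W} (hy : y ∈ centIn Q A)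
    (hns : ¬ InSigned A y) (w : W) : y (y w) = -w := by
  have hyQ := (mem_centIn.1 hy).1
  rcases E.sq y hyQ with e | e
  · exfalso
    have hyy : ∀ w, y (y w) = w := fun w => by rw [← LinearEquiv.mul_apply, e]; rfl
    obtain ⟨z, hzQ, hz⟩ := E.neg_mem
    obtain ⟨v, hv, hv0⟩ := M.ne
    by_cases hfix : v + y v = 0
    · refine hns ⟨z * y, M.max _ (Q.mul_mem hzQ hyQ) v hv hv0 ?_, Or.inr fun w => ?_⟩
      · rw [LinearEquiv.mul_apply, hz, eq_neg_of_add_eq_zero_right hfix, neg_neg]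
      · rw [LinearEquiv.mul_apply, hz, neg_neg]
    · exact hns ⟨y, M.max y hyQ _ ((fixedSpace A).add_mem hv (h.centIn_maps hy hv)) hfix
        (by rw [map_add, hyy, add_comm]), Or.inl fun _ => rfl⟩
  · exact e w

/-- the structure of the centraliser of a maximal stabiliser -/
theorem exists_quat (E : ExQ Γ Q) (M : MaxFix Q A) (h5 : p ≠ 5) : ∃ i j, Quat B Γ Q A i j := by
  obtain ⟨v, hv, hv0⟩ := M.ne
  haveI : Nontrivial (fixedSpace A) := ⟨⟨⟨v, hv⟩, 0, fun e => hv0 (congrArg Subtype.val e)⟩⟩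
  have hcov := h.normIn_cover E M
  have hCN : centIn Q A ≤ normIn Γ A := fun x hx => by
    refine ⟨E.le (mem_centIn.1 hx).1, Subgroup.mem_normalizer_iff.2 fun a => ?_⟩
    have hcomm : ∀ a ∈ A, x * a * x⁻¹ = a := fun a ha => by
      rw [mul_inv_eq_iff_eq_mul]
      exact LinearEquiv.ext fun w => (mem_centIn.1 hx).2 a ha w
    refine ⟨fun ha => by rwa [hcomm a ha], fun ha => ?_⟩
    have h1 := hcomm _ ha
    rwa [← mul_left_cancel (mul_right_cancel h1)]
  have hsigned : ∀ x, InSigned A x → ∀ y ∈ centIn Q A, ∀ w, x (y w) = y (x w) := by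
    rintro x ⟨a, ha, e | e⟩ y hy w
    · rw [e, e, (mem_centIn.1 hy).2 a ha]
    · rw [e, e, map_neg, (mem_centIn.1 hy).2 a ha]
  obtain ⟨y, hy, hyns⟩ := h.exists_not_signed E M h5
  obtain ⟨i, hi, j, hj, hij⟩ : ∃ i ∈ centIn Q A, ∃ j ∈ centIn Q A, ∀ w, i (j w) = -j (i w) := by
    by_contra hc
    push Not at hc
    have hab : ∀ x ∈ centIn Q A, ∀ x' ∈ centIn Q A, ∀ w, x (x' w) = x' (x w) := fun x hx x' hx' w => by
      rcases E.comm x (mem_centIn.1 hx).1 x' (mem_centIn.1 hx').1 with e | e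
      · exact e w
      · obtain ⟨w', hw'⟩ := hc x hx x' hx'
        exact absurd (e w') hw'
    have hle : imageOn (fixedSpace A) (centIn Q A) ≤ imageOn (fixedSpace A) (normIn Γ A) := fun g hg => by
      obtain ⟨g', hg', hg'Y, e⟩ := mem_imageOn.1 hg
      exact mem_imageOn.2 ⟨g', hCN hg', hg'Y, e⟩
    obtain ⟨y', hy', ey⟩ := exists_imageOn hy (preserver_of_maps fun w hw => h.centIn_maps hy hw)
    have := hcov.sq_eq_one_of_abelian h5 hle (by
      intro g hg a ha
      obtain ⟨g', hg', hg'Y, eg⟩ := mem_imageOn.1 hg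
      obtain ⟨a', ha', ha'Y, ea⟩ := mem_imageOn.1 ha
      refine mem_imageOn.2 ⟨g' * a' * g'⁻¹, ?_, (preserver _).mul_mem ((preserver _).mul_mem hg'Y ha'Y)
        ((preserver _).inv_mem hg'Y), fun w => ?_⟩
      · refine mem_centIn.2 ⟨E.nor g' hg'.1 a' (mem_centIn.1 ha').1, fun b hb w => ?_⟩
        have hb' := (Subgroup.mem_normalizer_iff''.1 hg'.2 b).1 hb
        have h1 := (mem_centIn.1 ha').2 _ hb' (g'⁻¹ w)
        simp only [LinearEquiv.mul_apply, apply_inv'] at h1 ⊢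
        have h2 := congrArg (fun z => g' z) h1
        simp only [apply_inv'] at h2
        exact h2
      · rw [LinearEquiv.mul_apply, LinearEquiv.mul_apply, LinearEquiv.mul_apply, LinearEquiv.mul_apply,
          eg, ea]
        congr 2
        obtain ⟨x, rfl⟩ := g.surjective w
        rw [inv_apply', eg, inv_apply'])
      (fun a ha b hb => by
        obtain ⟨a', ha', -, ea⟩ := mem_imageOn.1 ha
        obtain ⟨b', hb', -, eb⟩ := mem_imageOn.1 hb
        refine LinearEquiv.ext fun w => Subtype.ext ?_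
        rw [LinearEquiv.mul_apply, LinearEquiv.mul_apply, ea, eb, eb, ea]
        exact hab a' ha' b' hb' w) hy'
    have h1 := congrArg Subtype.val (LinearEquiv.congr_fun this ⟨v, hv⟩)
    rw [LinearEquiv.mul_apply, ey, ey, h.sq_neg E M hy hyns] at h1
    exact hv0 (h.eq_zero_of_eq_neg h1.symm)
  have hins : ¬ InSigned A i := fun hs => by
    have h1 := hij v
    rw [hsigned i hs j hj] at h1
    exact hv0 (by simpa using h.eq_zero_of_eq_neg h1)
  have hjns : ¬ InSigned A j := fun hs => by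
    have h1 := hij v
    rw [hsigned j hs i hi] at h1
    exact hv0 (by simpa using h.eq_zero_of_eq_neg h1)
  have hq : QPair i j := ⟨h.sq_neg E M hi hins, h.sq_neg E M hj hjns, hij⟩
  have haxC : ∀ b, axis i j b ∈ centIn Q A := fun b => by
    fin_cases b
    · exact hi
    · exact hj
    · exact Subgroup.mul_mem _ hi hj
  have hdec : ∀ x ∈ centIn Q A, ∃ a ∈ A, ∃ f, (f = 1 ∨ ∃ b, f = axis i j b) ∧
      ((∀ w, x w = a (f w)) ∨ ∀ w, x w = -a (f w)) := by
    intro x hx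
    have hji : ∀ w, j (i w) = -i (j w) := fun w => by rw [hij, neg_neg]
    -- multiply by an axis to commute with both roots
    obtain ⟨f, hf, hfi, hfj, hff⟩ : ∃ f, (f = 1 ∨ ∃ b, f = axis i j b) ∧
        (∀ w, (x * f) (i w) = i ((x * f) w)) ∧ (∀ w, (x * f) (j w) = j ((x * f) w)) ∧
        ((∀ w, f (f w) = w) ∨ ∀ w, f (f w) = -w) := by
      rcases E.comm x (mem_centIn.1 hx).1 i (mem_centIn.1 hi).1 with e1 | e1 <;>
        rcases E.comm x (mem_centIn.1 hx).1 j (mem_centIn.1 hj).1 with e2 | e2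
      · exact ⟨1, Or.inl rfl, e1, e2, Or.inl fun w => rfl⟩
      · refine ⟨i, Or.inr ⟨0, rfl⟩, fun w => e1 (i w), fun w => ?_, Or.inr hq.ii⟩
        show x (i (j w)) = j (x (i w))
        rw [hij, map_neg, e2, neg_neg]
      · refine ⟨j, Or.inr ⟨1, rfl⟩, fun w => ?_, fun w => e2 (j w), Or.inr hq.jj⟩
        show x (j (i w)) = i (x (j w))
        rw [hji, map_neg, e1, neg_neg]
      · refine ⟨i * j, Or.inr ⟨2, rfl⟩, fun w => ?_, fun w => ?_, Or.inr (h.axis_apply_self hq (a := 2))⟩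
        · show x (i (j (i w))) = i (x (i (j w)))
          rw [hji, map_neg, map_neg, e1, neg_neg]
        · show x (i (j (j w))) = j (x (i (j w)))
          rw [hij (j w), map_neg, e2, neg_neg]
    have hxf : x * f ∈ centIn Q A := by
      rcases hf with rfl | ⟨b, rfl⟩
      · rwa [mul_one]
      · exact Subgroup.mul_mem _ hx (haxC b)
    by_cases hs : InSigned A (x * f)
    · obtain ⟨a, ha, e⟩ := hs
      refine ⟨a, ha, f, hf, ?_⟩
      have hx' : ∀ w, x (f (f w)) = (x * f) (f w) := fun w => rfl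
      rcases hff with g1 | g1 <;> rcases e with g2 | g2
      · exact Or.inl fun w => by rw [← g1 w, hx', g2, g1]
      · exact Or.inr fun w => by rw [← g1 w, hx', g2, g1]
      · exact Or.inr fun w => by
          have := hx' w; rw [g1, map_neg, g2] at this; rw [← this, neg_neg]
      · exact Or.inl fun w => by
          have := hx' w; rw [g1, map_neg, g2] at this; exact neg_injective this
    · exfalso
      have hsq := h.sq_neg E M hxf hs
      have hz : InSigned A (i * (x * f)) := by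
        by_contra hz
        have h1 := h.sq_neg E M (Subgroup.mul_mem _ hi hxf) hz v
        rw [LinearEquiv.mul_apply, LinearEquiv.mul_apply i (x * f) v, hfi, hq.ii, hsq, neg_neg] at h1
        exact hv0 (h.eq_zero_of_eq_neg h1)
      have h1 := hsigned _ hz j hj v
      rw [LinearEquiv.mul_apply, LinearEquiv.mul_apply i (x * f) v, hfj, hij] at h1
      exact hv0 (by simpa using h.eq_zero_of_eq_neg h1.symm)
  obtain ⟨i', hi', ei⟩ := exists_imageOn (hCN hi) (preserver_of_maps fun w hw => h.centIn_maps hi hw)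
  obtain ⟨j', hj', ej⟩ := exists_imageOn (hCN hj) (preserver_of_maps fun w hw => h.centIn_maps hj hw)
  have hq' : QPair i' j' := ⟨fun w => Subtype.ext (by rw [ei, ei, hq.ii]; rfl),
    fun w => Subtype.ext (by rw [ej, ej, hq.jj]; rfl),
    fun w => Subtype.ext (by rw [Submodule.coe_neg, ei, ej, ej, ei, hq.ij])⟩
  have hax' : ∀ b (w : fixedSpace A), (axis i' j' b w : W) = axis i j b w.1 := fun b w => by
    fin_cases b
    · exact ei w
    · exact ej w
    · show (i' (j' w) : W) = i (j w.1)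
      rw [ei, ej]
  have hn : ∀ g ∈ imageOn (fixedSpace A) (normIn Γ A), NormAxes i' j' g := by
    intro g hg b
    obtain ⟨g', hg', -, eg⟩ := mem_imageOn.1 hg
    have hA' : ∀ a ∈ A, g'⁻¹ * a * g' ∈ A := fun a ha => (Subgroup.mem_normalizer_iff''.1 hg'.2 a).1 ha
    have hx : g' * axis i j b * g'⁻¹ ∈ centIn Q A := by
      refine mem_centIn.2 ⟨E.nor g' hg'.1 _ (mem_centIn.1 (haxC b)).1, fun a ha w => ?_⟩
      have h1 := congrArg (fun z => g' z) ((mem_centIn.1 (haxC b)).2 _ (hA' a ha) (g'⁻¹ w))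
      simp only [LinearEquiv.mul_apply, apply_inv'] at h1 ⊢
      exact h1
    obtain ⟨a, ha, f, hf, e⟩ := hdec _ hx
    have e' : (∀ w : fixedSpace A, g' (axis i j b w.1) = f (g' w.1)) ∨
        ∀ w : fixedSpace A, g' (axis i j b w.1) = -f (g' w.1) := by
      have hfC : f ∈ centIn Q A := by
        rcases hf with rfl | ⟨c, rfl⟩
        · exact one_mem _
        · exact haxC c
      have hgw : ∀ w : fixedSpace A, g' w.1 ∈ fixedSpace A := fun w =>
        ((h.normIn_maps hg') w.1).2 w.2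
      rcases e with e | e
      · refine Or.inl fun w => ?_
        have := e (g' w.1)
        rw [LinearEquiv.mul_apply, LinearEquiv.mul_apply, inv_apply'] at this
        rw [this, h.centIn_maps hfC (hgw w) a ha]
      · refine Or.inr fun w => ?_
        have := e (g' w.1)
        rw [LinearEquiv.mul_apply, LinearEquiv.mul_apply, inv_apply'] at this
        rw [this, h.centIn_maps hfC (hgw w) a ha]
    rcases hf with rfl | ⟨c, rfl⟩
    · exfalso
      have h2 : ∀ w : fixedSpace A, axis i j b (axis i j b w.1) = w.1 := by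
        intro w
        have hb : axis i j b w.1 ∈ fixedSpace A := h.centIn_maps (haxC b) w.2
        apply g'.injective
        rcases e' with e' | e'
        · rw [e' ⟨_, hb⟩]; show g' (axis i j b w.1) = _; rw [e' w]; rfl
        · rw [e' ⟨_, hb⟩]; show -g' (axis i j b w.1) = _; rw [e' w]; simp
      have h3 := h2 ⟨v, hv⟩
      rw [h.axis_apply_self hq] at h3
      exact hv0 (h.eq_zero_of_eq_neg h3.symm)
    · refine ⟨c, ?_⟩
      rcases e' with e' | e'
      · exact Or.inl fun w => Subtype.ext (by rw [eg, hax', hax', eg, e' w])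
      · exact Or.inr fun w => Subtype.ext (by rw [Submodule.coe_neg, eg, hax', hax', eg, e' w])
  refine ⟨i, j, ⟨E, M, hi, hj, hq, hdec, i', j', ei, ej, ?_⟩⟩
  exact ⟨hcov, hcov.finrank_eq_two h5 hq' hi' hj' hn, hq', hi', hj', hn⟩

end Cover

end Cfsg.Agent.DistinctSizes
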