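import Mathlib

/-!
# Invariant forms on modules of groups in which every element is conjugate to its inverse
-/

set_option autoImplicit false

set_option linter.unusedSectionVars false

namespace Cfsg.Agent.DistinctSizes

universe u v

variable {F : Type u} [Field F] [Finite F] {H : Type v} [Group H]
variable {V : Type*} [AddCommGroup V] [Module F V] [FiniteDimensional F V]

/-- an element of the centralizer algebra has an endomorphism with nonzero trace -/
theorem exists_trace_ne_zero [Finite V] [Nontrivial V] (ρ : Representation F H V)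
    (hirr : ∀ Y : Submodule F V, (∀ g, ∀ y ∈ Y, ρ g y ∈ Y) → Y = ⊥ ∨ Y = ⊤) :
    ∃ a : V →ₗ[F] V, LinearMap.trace F V a ≠ 0 ∧
      ∀ e : V →ₗ[F] V, (∀ g, e ∘ₗ ρ g = ρ g ∘ₗ e) → e ∘ₗ a = a ∘ₗ e := by
  classical
  set E : Subalgebra F (Module.End F V) := Subalgebra.centralizer F (Set.range ρ)
  haveI : Finite (Module.End F V) := Finite.of_injective (fun f : Module.End F V => (f : V → V)) DFunLike.coe_injective
  have hmem : ∀ {e : Module.End F V}, e ∈ E ↔ ∀ g, ρ g * e = e * ρ g := fun {e} => by
    simp only [E, Subalgebra.mem_centralizer_iff, Set.forall_mem_range]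
  have hinj : ∀ e : E, e ≠ 0 → Function.Injective (e : Module.End F V) := by
    intro e he
    rw [← LinearMap.ker_eq_bot]
    refine (hirr _ fun g y hy => ?_).resolve_right fun ht => he ?_
    · rw [LinearMap.mem_ker] at hy ⊢
      have := LinearMap.congr_fun (hmem.1 e.2 g) y
      simp only [Module.End.mul_apply] at this
      rw [← this, hy, map_zero]
    · exact Subtype.ext (LinearMap.ker_eq_top.1 ht)
  haveI : NoZeroDivisors E := ⟨fun {a b} hab => or_iff_not_imp_left.2 fun ha => by
    refine Subtype.ext (LinearMap.ext fun v => hinj a ha ?_)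
    have := LinearMap.congr_fun (congrArg Subtype.val hab) v
    simpa using this⟩
  haveI : Nontrivial E := ⟨⟨1, 0, fun e => one_ne_zero (congrArg Subtype.val e : (1 : Module.End F V) = 0)⟩⟩
  haveI : IsDomain E := NoZeroDivisors.to_isDomain E
  letI : Field E := (Finite.isDomain_to_isField E).toField
  letI : Module E V := Module.compHom V (E.val : E →ₐ[F] Module.End F V).toRingHom
  haveI : IsScalarTower F E V := ⟨fun c e v => by
    show ((c • e : E) : Module.End F V) v = c • (e : Module.End F V) v
    simp⟩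
  obtain ⟨v0, hv0⟩ := exists_ne (0 : V)
  obtain ⟨ψ, hψ⟩ := Module.Projective.exists_dual_ne_zero E hv0
  haveI : FiniteDimensional F E := inferInstance
  haveI : PerfectField F := inferInstance
  haveI : Algebra.IsSeparable F E := inferInstance
  obtain ⟨c, hc⟩ : ∃ c : E, Algebra.trace F E c ≠ 0 := by
    by_contra hc
    push Not at hc
    exact Algebra.trace_ne_zero F E (LinearMap.ext hc)
  have hsm : ∀ (r : F) (x : V), r • x = (algebraMap F E r : E) • x := fun r x => rfl
  let f : E →ₗ[F] V :=
    { toFun := fun e => e • v0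
      map_add' := fun x y => add_smul x y v0
      map_smul' := fun r x => by
        rw [RingHom.id_apply, hsm, Algebra.smul_def, mul_smul] }
  let g : V →ₗ[F] E :=
    { toFun := fun x => (c * (ψ v0)⁻¹) * ψ x
      map_add' := fun x y => by rw [map_add, mul_add]
      map_smul' := fun r x => by
        rw [RingHom.id_apply, hsm, map_smul, smul_eq_mul, Algebra.smul_def]; ring }
  refine ⟨f ∘ₗ g, ?_, fun e he => ?_⟩
  · rw [LinearMap.trace_comp_comm']
    convert hc using 1
    rw [Algebra.trace_apply]
    congr 1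
    refine LinearMap.ext fun x => ?_
    show (c * (ψ v0)⁻¹) * ψ (x • v0) = c * x
    rw [map_smul, smul_eq_mul, mul_comm x, ← mul_assoc, mul_assoc c, inv_mul_cancel₀ hψ, mul_one]
  · have he' : (e : Module.End F V) ∈ E := hmem.2 fun g' => (he g').symm
    refine LinearMap.ext fun x => ?_
    have h1 : ∀ y, e y = (⟨e, he'⟩ : E) • y := fun y => rfl
    show e (g x • v0) = g (e x) • v0
    rw [h1, h1 x]
    show _ = ((c * (ψ v0)⁻¹) * ψ ((⟨e, he'⟩ : E) • x)) • v0
    rw [smul_smul, map_smul, smul_eq_mul]
    congr 1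
    show _ * ((c * (ψ v0)⁻¹) * ψ x) = _
    ring

/-- a self-conjugate group has an invariant form on each irreducible module -/
theorem exists_form [Finite V] [Nontrivial V] (ρ : Representation F H V)
    (hirr : ∀ Y : Submodule F V, (∀ g, ∀ y ∈ Y, ρ g y ∈ Y) → Y = ⊥ ∨ Y = ⊤)
    (hreal : ∀ g : H, ∃ h, h * g * h⁻¹ = g⁻¹) :
    ∃ B : LinearMap.BilinForm F V, (∀ g x y, B (ρ g x) (ρ g y) = B x y) ∧
      ∀ x, (∀ y, B x y = 0) → x = 0 := by
  classical
  set σ : Representation F H (Module.Dual F V) := ρ.dual with hσdef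
  have hσ : ∀ g (f : (Module.Dual F V)) (x : V), σ g f x = f (ρ g⁻¹ x) := fun g f x => rfl
  have hrho : ∀ (g : H) (x : V), ρ g⁻¹ (ρ g x) = x := fun g x => by
    rw [← Module.End.mul_apply, ← map_mul, inv_mul_cancel, map_one, Module.End.one_apply]
  by_cases hex : ∃ φ : V →ₗ[F] (Module.Dual F V), φ ≠ 0 ∧ ∀ g, φ ∘ₗ ρ g = σ g ∘ₗ φ
  · obtain ⟨φ, hφ0, hφ⟩ := hex
    refine ⟨φ, fun g x y => ?_, fun x hx => ?_⟩
    · have := LinearMap.congr_fun (LinearMap.congr_fun (hφ g) x) (ρ g y)
      simp only [LinearMap.comp_apply, hσ, hrho] at this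
      exact this
    · have hk : LinearMap.ker φ = ⊥ := by
        refine (hirr _ fun g y hy => ?_).resolve_right fun ht => hφ0 (LinearMap.ker_eq_top.1 ht)
        rw [LinearMap.mem_ker] at hy ⊢
        have := LinearMap.congr_fun (hφ g) y
        rw [LinearMap.comp_apply, LinearMap.comp_apply] at this
        rw [this, hy, map_zero]
      exact LinearMap.ker_eq_bot'.1 hk x (LinearMap.ext hx)
  push Not at hex
  exfalso
  have hV : ∀ φ : V →ₗ[F] (Module.Dual F V), (∀ g, φ ∘ₗ ρ g = σ g ∘ₗ φ) → φ = 0 := fun φ hφ =>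
    by_contra fun h => by obtain ⟨g, hg⟩ := hex φ h; exact hg (hφ g)
  have hdim : Module.finrank F (Module.Dual F V) = Module.finrank F V := Subspace.dual_finrank_eq
  have hD : ∀ ψ : (Module.Dual F V) →ₗ[F] V, (∀ g, ψ ∘ₗ σ g = ρ g ∘ₗ ψ) → ψ = 0 := by
    intro ψ hψ
    by_contra h0
    have hr : LinearMap.range ψ = ⊤ := by
      refine (hirr _ fun g y hy => ?_).resolve_left fun hb => h0 (LinearMap.range_eq_bot.1 hb)
      obtain ⟨f, rfl⟩ := hy
      exact ⟨σ g f, LinearMap.congr_fun (hψ g) f⟩
    have hbij : Function.Bijective ψ :=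
      ⟨(LinearMap.injective_iff_surjective_of_finrank_eq_finrank hdim).2 (LinearMap.range_eq_top.1 hr),
        LinearMap.range_eq_top.1 hr⟩
    let e := LinearEquiv.ofBijective ψ hbij
    have h1 := hV e.symm.toLinearMap fun g => LinearMap.ext fun x => e.injective ?_
    · obtain ⟨x, hx⟩ := exists_ne (0 : V)
      exact hx (e.symm.injective ((LinearMap.congr_fun h1 x).trans (map_zero _).symm))
    · show e (e.symm (ρ g x)) = ψ (σ g (e.symm x))
      rw [LinearEquiv.apply_symm_apply]
      have := LinearMap.congr_fun (hψ g) (e.symm x)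
      rw [LinearMap.comp_apply, LinearMap.comp_apply] at this
      rw [this]
      exact congrArg (ρ g) (e.apply_symm_apply x).symm
  -- density on `V × (Module.Dual F V)`
  obtain ⟨a, ha, hac⟩ := exists_trace_ne_zero ρ hirr
  set π : H → Module.End F (V × Module.Dual F V) := fun g => (ρ g).prodMap (σ g)
  set R : Subalgebra F (Module.End F (V × Module.Dual F V)) := Algebra.adjoin F (Set.range π)
  have hπR : ∀ g, π g ∈ R := fun g => Algebra.subset_adjoin ⟨g, rfl⟩
  let iV : Submodule R (V × Module.Dual F V) :=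
    { carrier := {m | m.2 = 0}
      zero_mem' := rfl
      add_mem' := fun {a b} ha hb => by simp only [Set.mem_ofPred_eq] at ha hb ⊢; rw [Prod.snd_add, ha, hb, add_zero]
      smul_mem' := by
        rintro ⟨r, hr⟩ m hm
        show (r m).2 = 0
        induction hr using Algebra.adjoin_induction generalizing m with
        | mem x hx => obtain ⟨g, rfl⟩ := hx; show σ g m.2 = 0; rw [show m.2 = 0 from hm, map_zero]
        | algebraMap c => show c • m.2 = 0; rw [show m.2 = 0 from hm, smul_zero]
        | add x y _ _ hx hy => show (x m + y m).2 = 0; rw [Prod.snd_add, hx hm, hy hm, add_zero]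
        | mul x y _ _ hx hy => exact hx (hy hm) }
  let iD : Submodule R (V × Module.Dual F V) :=
    { carrier := {m | m.1 = 0}
      zero_mem' := rfl
      add_mem' := fun {a b} ha hb => by simp only [Set.mem_ofPred_eq] at ha hb ⊢; rw [Prod.fst_add, ha, hb, add_zero]
      smul_mem' := by
        rintro ⟨r, hr⟩ m hm
        show (r m).1 = 0
        induction hr using Algebra.adjoin_induction generalizing m with
        | mem x hx => obtain ⟨g, rfl⟩ := hx; show ρ g m.1 = 0; rw [show m.1 = 0 from hm, map_zero]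
        | algebraMap c => show c • m.1 = 0; rw [show m.1 = 0 from hm, smul_zero]
        | add x y _ _ hx hy => show (x m + y m).1 = 0; rw [Prod.fst_add, hx hm, hy hm, add_zero]
        | mul x y _ _ hx hy => exact hx (hy hm) }
  letI : Ring ↥R := @Subalgebra.toRing F (Module.End F (V × Module.Dual F V)) _ Module.End.instRing _ R
  have hsc : ∀ (c : F) (N : Submodule R (V × Module.Dual F V)) (m : (V × Module.Dual F V)), m ∈ N → c • m ∈ N := fun c N m hm =>
    N.smul_mem (algebraMap F R c) hm
  have hact : ∀ (g : H) (N : Submodule R (V × Module.Dual F V)) (m : (V × Module.Dual F V)), m ∈ N → π g m ∈ N := fun g N m hm =>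
    N.smul_mem (⟨π g, hπR g⟩ : R) hm
  have hiV : IsAtom iV := by
    refine ⟨fun h => ?_, fun N hN => ?_⟩
    · obtain ⟨x, hx⟩ := exists_ne (0 : V)
      have : ((x, 0) : (V × Module.Dual F V)) ∈ iV := rfl
      rw [h, Submodule.mem_bot] at this
      exact hx (congrArg Prod.fst this)
    let Y : Submodule F V :=
      { carrier := {x | ((x, 0) : (V × Module.Dual F V)) ∈ N}
        zero_mem' := N.zero_mem
        add_mem' := fun {a b} ha hb => show _ ∈ N by simpa [Prod.mk_add_mk] using N.add_mem ha hb
        smul_mem' := fun c x hx => show _ ∈ N by simpa [Prod.smul_mk] using hsc c N _ hx }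
    rcases hirr Y (fun g y hy => show _ ∈ N by simpa [π] using hact g N _ hy) with hY | hY
    · refine (Submodule.eq_bot_iff N).2 fun m hm => ?_
      have hm2 : m.2 = 0 := hN.le hm
      have : m.1 ∈ Y := by show ((m.1, 0) : (V × Module.Dual F V)) ∈ N; rwa [← hm2]
      rw [hY, Submodule.mem_bot] at this
      exact Prod.ext this hm2
    · refine absurd (le_antisymm hN.le fun m (hm : m.2 = 0) => ?_) hN.ne
      have : m.1 ∈ Y := hY ▸ Submodule.mem_top
      rw [show m = (m.1, 0) from Prod.ext rfl hm]
      exact this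
  have hiD : IsAtom iD := by
    refine ⟨fun h => ?_, fun N hN => ?_⟩
    · obtain ⟨x, hx⟩ := exists_ne (0 : V)
      obtain ⟨f, hf⟩ := Module.Projective.exists_dual_ne_zero F hx
      have : ((0, f) : (V × Module.Dual F V)) ∈ iD := rfl
      rw [h, Submodule.mem_bot] at this
      exact hf (LinearMap.congr_fun (congrArg Prod.snd this) x)
    let Y : Submodule F (Module.Dual F V) :=
      { carrier := {x | ((0, x) : (V × Module.Dual F V)) ∈ N}
        zero_mem' := N.zero_mem
        add_mem' := fun {a b} ha hb => show _ ∈ N by simpa [Prod.mk_add_mk] using N.add_mem ha hb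
        smul_mem' := fun c x hx => show _ ∈ N by simpa [Prod.smul_mk] using hsc c N _ hx }
    have hYinv : ∀ g, ∀ f ∈ Y, σ g f ∈ Y := fun g y hy => show _ ∈ N by simpa [π] using hact g N _ hy
    rcases hirr Y.dualCoannihilator (fun g y hy => by
      rw [Submodule.mem_dualCoannihilator] at hy ⊢
      intro f hf
      have h1 := hy _ (hYinv g⁻¹ f hf)
      rwa [hσ, inv_inv] at h1) with hY | hY
    · refine absurd (le_antisymm hN.le fun m (hm : m.1 = 0) => ?_) hN.ne
      have hYt : Y = ⊤ := by
        rw [← Subspace.dualCoannihilator_dualAnnihilator_eq (W := Y), hY, Submodule.dualAnnihilator_bot]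
      have : m.2 ∈ Y := hYt ▸ Submodule.mem_top
      rw [show m = (0, m.2) from Prod.ext hm rfl]
      exact this
    · refine (Submodule.eq_bot_iff N).2 fun m hm => ?_
      have hm1 : m.1 = 0 := hN.le hm
      have hmY : m.2 ∈ Y := by show ((0, m.2) : (V × Module.Dual F V)) ∈ N; rwa [← hm1]
      refine Prod.ext hm1 (LinearMap.ext fun x => ?_)
      exact (Submodule.mem_dualCoannihilator x).1 (hY ▸ Submodule.mem_top) _ hmY
  haveI : IsSemisimpleModule R (V × Module.Dual F V) := by
    rw [← sSup_simples_eq_top_iff_isSemisimpleModule]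
    refine Submodule.eq_top_iff'.2 fun m => ?_
    rw [show m = (m.1, 0) + (0, m.2) by simp]
    exact add_mem (le_sSup (s := {N : Submodule R (V × Module.Dual F V) | IsSimpleModule R N}) (a := iV)
      (isSimpleModule_iff_isAtom.2 hiV) rfl)
      (le_sSup (s := {N : Submodule R (V × Module.Dual F V) | IsSimpleModule R N}) (a := iD)
      (isSimpleModule_iff_isAtom.2 hiD) rfl)
  have hcomm : ∀ (e : Module.End R (V × Module.Dual F V)) (m : (V × Module.Dual F V)), (a (e m).1, (0 : (Module.Dual F V))) = e (a m.1, 0) := by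
    intro e m
    let e' : (V × Module.Dual F V) →ₗ[F] (V × Module.Dual F V) :=
      { toFun := e
        map_add' := map_add e
        map_smul' := fun c x => e.map_smul (algebraMap F R c) x }
    have hg : ∀ g x, e' (π g x) = π g (e' x) := fun g x => e.map_smul (⟨π g, hπR g⟩ : R) x
    set ι1 := LinearMap.inl F V (Module.Dual F V)
    set ι2 := LinearMap.inr F V (Module.Dual F V)
    set p1 := LinearMap.fst F V (Module.Dual F V)
    set p2 := LinearMap.snd F V (Module.Dual F V)
    have hι1 : ∀ g x, π g (ι1 x) = ι1 (ρ g x) := fun g x => by simp [π, ι1]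
    have hι2 : ∀ g f, π g (ι2 f) = ι2 (σ g f) := fun g f => by simp [π, ι2]
    have h12 := hV (p2 ∘ₗ e' ∘ₗ ι1) fun g => LinearMap.ext fun x => by
      simp only [LinearMap.comp_apply, ← hι1, hg]; rfl
    have h21 := hD (p1 ∘ₗ e' ∘ₗ ι2) fun g => LinearMap.ext fun x => by
      simp only [LinearMap.comp_apply, ← hι2, hg]; rfl
    have h11 := hac (p1 ∘ₗ e' ∘ₗ ι1) fun g => LinearMap.ext fun x => by
      simp only [LinearMap.comp_apply, ← hι1, hg]; rfl
    refine Prod.ext ?_ ?_
    · show a (e' m).1 = (e' (a m.1, 0)).1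
      have h2 : (e' m).1 = (e' (m.1, 0)).1 := by
        conv_lhs => rw [show m = (m.1, 0) + (0, m.2) by simp, map_add, Prod.fst_add]
        rw [show (e' ((0 : V), m.2)).1 = 0 from LinearMap.congr_fun h21 m.2, add_zero]
      rw [h2]
      exact (LinearMap.congr_fun h11 m.1).symm
    · exact (LinearMap.congr_fun h12 (a m.1)).symm
  let f : Module.End (Module.End R (V × Module.Dual F V)) (V × Module.Dual F V) :=
    { toFun := fun m => (a m.1, 0)
      map_add' := fun x y => by simp
      map_smul' := fun e m => hcomm e m }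
  haveI := Fintype.ofFinite V
  haveI : Finite (Module.Dual F V) := Module.finite_of_finite F
  haveI := Fintype.ofFinite (Module.Dual F V)
  obtain ⟨⟨r, hr⟩, hrm⟩ := jacobson_density f Finset.univ
  have hreq : r = LinearMap.inl F V (Module.Dual F V) ∘ₗ a ∘ₗ LinearMap.fst F V (Module.Dual F V) := LinearMap.ext fun m =>
    (hrm m (Finset.mem_univ m)).symm
  let τ : Module.End F (V × Module.Dual F V) →ₗ[F] F :=
    { toFun := fun T => LinearMap.trace F V (LinearMap.fst F V (Module.Dual F V) ∘ₗ T ∘ₗ LinearMap.inl F V (Module.Dual F V)) -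
        LinearMap.trace F (Module.Dual F V) (LinearMap.snd F V (Module.Dual F V) ∘ₗ T ∘ₗ LinearMap.inr F V (Module.Dual F V))
      map_add' := fun S T => by simp only [LinearMap.comp_add, LinearMap.add_comp, map_add]; ring
      map_smul' := fun c S => by
        simp only [LinearMap.comp_smul, LinearMap.smul_comp, map_smul, RingHom.id_apply, smul_sub] }
  have hτπ : ∀ g, τ (π g) = 0 := by
    intro g
    show LinearMap.trace F V _ - LinearMap.trace F (Module.Dual F V) _ = 0
    rw [sub_eq_zero]
    obtain ⟨h, hh⟩ := hreal g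
    have e1 : LinearMap.fst F V (Module.Dual F V) ∘ₗ π g ∘ₗ LinearMap.inl F V (Module.Dual F V) = ρ g := LinearMap.ext fun x => rfl
    have e2 : LinearMap.snd F V (Module.Dual F V) ∘ₗ π g ∘ₗ LinearMap.inr F V (Module.Dual F V) = Module.Dual.transpose (ρ g⁻¹) :=
      LinearMap.ext fun x => rfl
    rw [e1, e2, LinearMap.trace_transpose', ← hh, map_mul ρ, map_mul ρ, LinearMap.trace_mul_comm,
      ← mul_assoc, ← map_mul ρ, inv_mul_cancel, map_one, one_mul]
  have hspan : r ∈ Submodule.span F (Set.range π) := by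
    have : r ∈ Subalgebra.toSubmodule R := hr
    rw [Algebra.adjoin_eq_span] at this
    refine Submodule.span_mono ?_ this
    intro x hx
    induction hx using Submonoid.closure_induction with
    | mem x hx => exact hx
    | one => exact ⟨1, by simp [π]⟩
    | mul x y _ _ hx hy =>
      obtain ⟨g, rfl⟩ := hx
      obtain ⟨g', rfl⟩ := hy
      exact ⟨g * g', LinearMap.ext fun m => by simp [π]⟩
  have hτr : τ r = 0 := by
    have : Submodule.span F (Set.range π) ≤ LinearMap.ker τ :=
      Submodule.span_le.2 fun x ⟨g, hg⟩ => by rw [← hg]; exact hτπ g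
    exact this hspan
  refine ha ?_
  have e1 : LinearMap.fst F V (Module.Dual F V) ∘ₗ r ∘ₗ LinearMap.inl F V (Module.Dual F V) = a := by rw [hreq]; exact LinearMap.ext fun x => rfl
  have e2 : LinearMap.snd F V (Module.Dual F V) ∘ₗ r ∘ₗ LinearMap.inr F V (Module.Dual F V) = 0 := by rw [hreq]; exact LinearMap.ext fun x => rfl
  have hτr' : LinearMap.trace F V a - LinearMap.trace F (Module.Dual F V) (0 : Module.End F (Module.Dual F V)) = 0 := by
    rw [← e1, ← e2]; exact hτr
  simpa using hτr'

/-- the form is alternating when every vector is mapped to a fixed nontrivial multiple of itself -/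
theorem form_self_eq_zero {ρ : Representation F H V} {B : LinearMap.BilinForm F V}
    (hB : ∀ g x y, B (ρ g x) (ρ g y) = B x y) {k : F} (hk : k * k ≠ 1) {v : V}
    (hv : ∃ g, ρ g v = k • v) : B v v = 0 := by
  obtain ⟨g, hg⟩ := hv
  have := hB g v v
  rw [hg, map_smul, map_smul, LinearMap.smul_apply, smul_eq_mul, smul_eq_mul, ← mul_assoc] at this
  by_contra h
  exact hk ((mul_eq_right₀ h).1 this)

end Cfsg.Agent.DistinctSizes
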