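import Cfsg.Agent.Lib.Block.DistinctSizes.FourCount

/-!
# For the prime seven a maximal stabiliser is trivial
-/

set_option autoImplicit false

set_option linter.unusedSectionVars false

namespace Cfsg.Agent.DistinctSizes

universe u

variable {p : ℕ} [hp : Fact p.Prime] {W : Type u} [AddCommGroup W] [Module (ZMod p) W]

theorem isSolvable_imageOn {Γ S : Subgroup (W ≃ₗ[ZMod p] W)} (hΓ : Group.IsSolvable Γ) (hS : S ≤ Γ)
    (Y : Submodule (ZMod p) W) : Group.IsSolvable (imageOn Y S) := by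
  haveI := hΓ
  haveI : Group.IsSolvable S :=
    Group.isSolvable_of_isSolvable_injective (Subgroup.inclusion_injective hS)
  haveI : Group.IsSolvable (S.subgroupOf (preserver Y)) :=
    Group.isSolvable_of_isSolvable_injective (f := (preserver Y).subtype.subgroupComap S)
      fun a b e => Subtype.ext (Subtype.ext (congrArg (fun z : S => (z : W ≃ₗ[ZMod p] W)) e))
  exact Group.isSolvable_of_surjective ((restrictHom Y).subgroupMap_surjective _)

theorem centIn_le_normIn {Γ Q A : Subgroup (W ≃ₗ[ZMod p] W)} (hQ : Q ≤ Γ) : centIn Q A ≤ normIn Γ A :=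
  inf_le_inf hQ (Subgroup.centralizer_le_normalizer (A : Set (W ≃ₗ[ZMod p] W)))

namespace Cover

variable [Finite W] [Nontrivial W] {B : LinearMap.BilinForm (ZMod p) W} {Γ : Subgroup (W ≃ₗ[ZMod p] W)}
  (h : Cover B Γ) {Q A : Subgroup (W ≃ₗ[ZMod p] W)} {i j : W ≃ₗ[ZMod p] W}
include h

/-- the adjusted partner of an element of the stabiliser -/
theorem exists_clifford (hQ : Quat B Γ Q A i j) {s : W ≃ₗ[ZMod p] W} (hs : s ∈ A) (hs1 : s ≠ 1) :
    ∃ d ∈ Q, Clifford i j s d := by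
  have hss := h.mfix_sq hQ.exq hQ.mfix hs
  have hsi : ∀ w, s (i w) = i (s w) := fun w => ((mem_centIn.1 hQ.mem_i).2 s hs w).symm
  have hsj : ∀ w, s (j w) = j (s w) := fun w => ((mem_centIn.1 hQ.mem_j).2 s hs w).symm
  have hiQ := (mem_centIn.1 hQ.mem_i).1
  have hjQ := (mem_centIn.1 hQ.mem_j).1
  have hji : ∀ w, j (i w) = -i (j w) := fun w => by rw [hQ.qp.ij, neg_neg]
  obtain ⟨d0, hd0, e0⟩ : ∃ d ∈ Q, ∀ w, s (d w) = -d (s w) := by
    by_contra hc
    push Not at hc
    have hsign : IsSign s := hQ.exq.cent s (hQ.exq.le (hQ.mfix.le hs)) fun y hy => by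
      rcases hQ.exq.comm s (hQ.mfix.le hs) y hy with e | e
      · exact LinearEquiv.ext e
      · obtain ⟨w, hw⟩ := hc y hy
        exact absurd (e w) hw
    rcases hsign with e | e
    · exact hs1 e
    · obtain ⟨v, hv, hv0⟩ := hQ.mfix.ne
      exact hv0 (h.eq_zero_of_eq_neg ((hv s hs).symm.trans (e v)))
  obtain ⟨d1, hd1, e1, f1⟩ : ∃ d ∈ Q, (∀ w, s (d w) = -d (s w)) ∧ ∀ w, d (i w) = i (d w) := by
    rcases hQ.exq.comm d0 hd0 i hiQ with e | e
    · exact ⟨d0, hd0, e0, e⟩
    · refine ⟨d0 * j, Q.mul_mem hd0 hjQ, fun w => ?_, fun w => ?_⟩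
      · simp [LinearEquiv.mul_apply, e0, hsj]
      · simp [LinearEquiv.mul_apply, e, hji]
  obtain ⟨d2, hd2, e2, f2, g2⟩ : ∃ d ∈ Q, (∀ w, s (d w) = -d (s w)) ∧ (∀ w, d (i w) = i (d w)) ∧
      ∀ w, d (j w) = j (d w) := by
    rcases hQ.exq.comm d1 hd1 j hjQ with e | e
    · exact ⟨d1, hd1, e1, f1, e⟩
    · refine ⟨d1 * i, Q.mul_mem hd1 hiQ, fun w => ?_, fun w => ?_, fun w => ?_⟩
      · simp [LinearEquiv.mul_apply, e1, hsi]
      · simp [LinearEquiv.mul_apply, f1]
      · simp [LinearEquiv.mul_apply, e, hQ.qp.ij]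
  rcases hQ.exq.sq d2 hd2 with e | e
  · exact ⟨d2, hd2, hQ.qp, hss, fun w => by rw [← LinearEquiv.mul_apply, e]; rfl, e2, hsi, hsj, f2, g2⟩
  · have e' : ∀ w, d2 (d2 w) = -w := e
    have hds : ∀ w, d2 (s w) = -s (d2 w) := fun w => by rw [e2, neg_neg]
    refine ⟨d2 * s, Q.mul_mem hd2 (hQ.mfix.le hs), hQ.qp, hss, fun w => ?_, fun w => ?_, hsi, hsj,
      fun w => ?_, fun w => ?_⟩
    · simp [LinearEquiv.mul_apply, e2, hss, e']
    · simp [LinearEquiv.mul_apply, e2, hss]
    · simp [LinearEquiv.mul_apply, f2, hsi]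
    · simp [LinearEquiv.mul_apply, g2, hsj]

theorem quat_eq_bot (hQ : Quat B Γ Q A i j) (h7 : p = 7) : A = ⊥ := by
  classical
  subst h7
  by_contra hA
  obtain ⟨s, hs, hs1⟩ : ∃ s ∈ A, s ≠ 1 := by
    by_contra hc
    push Not at hc
    exact hA ((Subgroup.eq_bot_iff_forall _).2 hc)
  obtain ⟨d, hd, C⟩ := h.exists_clifford hQ hs hs1
  obtain ⟨i0, j0, hi0, hj0, P⟩ := hQ.plane
  have E := hQ.exq
  have M := hQ.mfix
  set A' := A ⊓ Subgroup.centralizer ({d} : Set (W ≃ₗ[ZMod 7] W)) with hA'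
  have memA' : ∀ {a}, a ∈ A' ↔ a ∈ A ∧ ∀ w, a (d w) = d (a w) := by
    intro a
    rw [hA', Subgroup.mem_inf, Subgroup.mem_centralizer_singleton_iff]
    exact and_congr_right fun _ => ⟨fun e w => LinearEquiv.congr_fun e w, fun e => LinearEquiv.ext e⟩
  have hsplit : ∀ a ∈ A, a ∈ A' ∨ s * a ∈ A' := by
    intro a ha
    rcases E.comm a (M.le ha) d hd with e | e
    · exact Or.inl (memA'.2 ⟨ha, e⟩)
    · exact Or.inr (memA'.2 ⟨A.mul_mem hs ha, fun w => by
        simp [LinearEquiv.mul_apply, e, C.sd]⟩)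
  have hA'le : A' ≤ A := inf_le_left
  have hA'Γ : A' ≤ Γ := hA'le.trans (M.le.trans E.le)
  set Y := fixedSpace A' with hY
  have hWY : fixedSpace A ≤ Y := fun w hw a ha => hw a (hA'le ha)
  have hfixA : ∀ y ∈ Y, s y = y → y ∈ fixedSpace A := by
    intro y hy hsy a ha
    rcases hsplit a ha with e | e
    · exact hy a e
    · have h1 := hy _ e
      rw [LinearEquiv.mul_apply] at h1
      calc a y = s (s (a y)) := (C.ss _).symm
        _ = y := by rw [h1, hsy]
  have hCA : centIn Q A ≤ centIn Q A' := fun x hx =>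
    mem_centIn.2 ⟨(mem_centIn.1 hx).1, fun a ha => (mem_centIn.1 hx).2 a (hA'le ha)⟩
  have hiC := hCA hQ.mem_i
  have hjC := hCA hQ.mem_j
  have hsC := hCA (h.le_centIn E M hs)
  have hdC : d ∈ centIn Q A' := mem_centIn.2 ⟨hd, fun a ha w => ((memA'.1 ha).2 w).symm⟩
  have hmaps : ∀ {x}, x ∈ centIn Q A' → ∀ {w}, w ∈ Y → x w ∈ Y := fun hx _ hw => h.centIn_maps hx hw
  have haxC : ∀ a, cliffAxis i j s d a ∈ centIn Q A' := fun a => by
    fin_cases a
    · exact hsC
    · exact hdC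
    · exact Subgroup.mul_mem _ hiC (Subgroup.mul_mem _ hsC hdC)
    · exact Subgroup.mul_mem _ hjC (Subgroup.mul_mem _ hsC hdC)
    · exact Subgroup.mul_mem _ (Subgroup.mul_mem _ hiC hjC) (Subgroup.mul_mem _ hsC hdC)
  -- the action of the centraliser of `A'` on its fixed space
  have hword : ∀ x ∈ centIn Q A', ∃ l r, (∀ w ∈ Y, x w = cliffLeft i j l (cliffRight s d r w)) ∨
      ∀ w ∈ Y, x w = -cliffLeft i j l (cliffRight s d r w) := by
    intro x hx
    obtain ⟨c, hc, r0, hr0, hx0⟩ : ∃ c : W ≃ₗ[ZMod 7] W, c ∈ centIn Q A' ∧ ∃ r0 : Bool,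
        (∀ w, x w = c (bif r0 then d w else w)) ∧ ∀ w, c (s w) = s (c w) := by
      rcases E.comm x (mem_centIn.1 hx).1 s (M.le hs) with e | e
      · exact ⟨x, hx, false, fun w => rfl, e⟩
      · exact ⟨x * d, Subgroup.mul_mem _ hx hdC, true, fun w => by
          simp [LinearEquiv.mul_apply, C.dd], fun w => by
          simp [LinearEquiv.mul_apply, C.ds, e]⟩
    have hcA : c ∈ centIn Q A := by
      refine mem_centIn.2 ⟨(mem_centIn.1 hc).1, fun a ha w => ?_⟩
      rcases hsplit a ha with e | e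
      · exact (mem_centIn.1 hc).2 a e w
      · have h1 := (mem_centIn.1 hc).2 _ e w
        rw [LinearEquiv.mul_apply, LinearEquiv.mul_apply, hx0] at h1
        exact s.injective h1
    obtain ⟨a, ha, f, hf, hcaf⟩ := hQ.decomp c hcA
    obtain ⟨l, hl⟩ : ∃ l, f = cliffLeft i j l := by
      rcases hf with rfl | ⟨b, rfl⟩
      · exact ⟨0, rfl⟩
      · fin_cases b
        · exact ⟨1, rfl⟩
        · exact ⟨2, rfl⟩
        · exact ⟨3, rfl⟩
    subst hl
    have hfC : cliffLeft i j l ∈ centIn Q A := by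
      fin_cases l
      · exact one_mem _
      · exact hQ.mem_i
      · exact hQ.mem_j
      · exact Subgroup.mul_mem _ hQ.mem_i hQ.mem_j
    have hdY : ∀ w ∈ Y, (bif r0 then d w else w) ∈ Y := fun w hw => by
      cases r0
      · exact hw
      · exact hmaps hdC hw
    obtain ⟨r, hr⟩ : ∃ r, ∀ w ∈ Y, a (bif r0 then d w else w) = cliffRight s d r w := by
      rcases hsplit a ha with e | e
      · cases r0
        · exact ⟨0, fun w hw => hw a e⟩
        · exact ⟨2, fun w hw => hdY w hw a e⟩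
      · have e' : ∀ y ∈ Y, a y = s y := fun y hy => by
          have h1 := hy _ e
          rw [LinearEquiv.mul_apply] at h1
          calc a y = s (s (a y)) := (C.ss _).symm
            _ = s y := by rw [h1]
        cases r0
        · exact ⟨1, fun w hw => e' w hw⟩
        · exact ⟨3, fun w hw => e' _ (hmaps hdC hw)⟩
    refine ⟨l, r, hcaf.imp (fun e w hw => ?_) (fun e w hw => ?_)⟩
    · rw [hr0, e, ← (mem_centIn.1 hfC).2 a ha, hr w hw]
    · rw [hr0, e, ← (mem_centIn.1 hfC).2 a ha, hr w hw]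
  -- restrictions
  set N := normIn Γ A' with hN
  have hCN : centIn Q A' ≤ N := centIn_le_normIn E.le
  have hres : ∀ {x}, x ∈ centIn Q A' → ∃ x' ∈ imageOn Y N, ∀ y : Y, (x' y : W) = x y.1 := fun hx =>
    exists_imageOn (hCN hx) (preserver_of_maps fun w hw => hmaps hx hw)
  obtain ⟨i', hi', ei⟩ := hres hiC
  obtain ⟨j', hj', ej⟩ := hres hjC
  obtain ⟨s', hs', es⟩ := hres hsC
  obtain ⟨d', hd', ed⟩ := hres hdC
  have C' : Clifford i' j' s' d' :=
    ⟨⟨fun w => Subtype.ext (by rw [ei, ei, C.qp.ii]; rfl),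
      fun w => Subtype.ext (by rw [ej, ej, C.qp.jj]; rfl),
      fun w => Subtype.ext (by rw [Submodule.coe_neg, ei, ej, ej, ei, C.qp.ij])⟩,
      fun w => Subtype.ext (by rw [es, es, C.ss]),
      fun w => Subtype.ext (by rw [ed, ed, C.dd]),
      fun w => Subtype.ext (by rw [Submodule.coe_neg, es, ed, ed, es, C.sd]),
      fun w => Subtype.ext (by rw [es, ei, ei, es, C.si]),
      fun w => Subtype.ext (by rw [es, ej, ej, es, C.sj]),
      fun w => Subtype.ext (by rw [ed, ei, ei, ed, C.di]),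
      fun w => Subtype.ext (by rw [ed, ej, ej, ed, C.dj])⟩
  have eL : ∀ l (y : Y), (cliffLeft i' j' l y : W) = cliffLeft i j l y.1 := fun l y => by
    fin_cases l
    · rfl
    · exact ei y
    · exact ej y
    · show ((i' (j' y) : Y) : W) = i (j y.1)
      rw [ei, ej]
  have eR : ∀ r (y : Y), (cliffRight s' d' r y : W) = cliffRight s d r y.1 := fun r y => by
    fin_cases r
    · rfl
    · exact es y
    · exact ed y
    · show ((s' (d' y) : Y) : W) = s (d y.1)
      rw [es, ed]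
  have eA : ∀ a (y : Y), (cliffAxis i' j' s' d' a y : W) = cliffAxis i j s d a y.1 := fun a y => by
    fin_cases a
    · exact es y
    · exact ed y
    all_goals simp [cliffAxis, LinearEquiv.mul_apply, ei, ej, es, ed]
  have hisWord : ∀ x ∈ centIn Q A', ∀ x' : Y ≃ₗ[ZMod 7] Y, (∀ y : Y, (x' y : W) = x y.1) →
      IsWord i' j' s' d' x' := fun x hx x' e => by
    obtain ⟨l, r, h1⟩ := hword x hx
    exact ⟨l, r, h1.imp (fun h1 y => Subtype.ext (by rw [e, eL, eR, h1 _ y.2]))
      fun h1 y => Subtype.ext (by rw [Submodule.coe_neg, e, eL, eR, h1 _ y.2])⟩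
  obtain ⟨η, hη, hη0⟩ := M.ne
  -- the size of the space
  have hcard : Nat.card Y = 2401 := by
    have h49 : Nat.card (fixedSpace A) = 49 := by
      rw [Module.natCard_eq_pow_finrank (K := ZMod 7), P.dim, Nat.card_zmod]; rfl
    let F : fixedSpace A × fixedSpace A → Y := fun u => ⟨u.1.1 + d u.2.1,
      Y.add_mem (hWY u.1.2) (hmaps hdC (hWY u.2.2))⟩
    have hF : Function.Bijective F := by
      refine ⟨fun u u' e => ?_, fun w => ?_⟩
      · have e1 := congrArg (Subtype.val : Y → W) e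
        have e2 := congrArg (fun z => s z) e1
        simp only [F] at e1 e2
        rw [map_add, map_add, C.sd, C.sd, u.1.2 s hs, u'.1.2 s hs, u.2.2 s hs, u'.2.2 s hs] at e2
        have h2 : (2 : ZMod 7) • u.1.1 = (2 : ZMod 7) • u'.1.1 := by
          linear_combination (norm := module) e1 + e2
        have hu := smul_right_injective W seven_arith.1 h2
        rw [hu] at e1
        exact Prod.ext (Subtype.ext hu) (Subtype.ext (d.injective (add_left_cancel e1)))
      · have h1 : (4 : ZMod 7) • (w.1 + s w.1) ∈ fixedSpace A :=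
          hfixA _ (Y.smul_mem _ (Y.add_mem w.2 (hmaps hsC w.2)))
            (by rw [map_smul, map_add, C.ss, add_comm])
        have h2 : (4 : ZMod 7) • d (w.1 - s w.1) ∈ fixedSpace A :=
          hfixA _ (Y.smul_mem _ (hmaps hdC (Y.sub_mem w.2 (hmaps hsC w.2))))
            (by rw [map_smul, C.sd, map_sub, C.ss, ← map_neg, neg_sub])
        refine ⟨(⟨_, h1⟩, ⟨_, h2⟩), Subtype.ext ?_⟩
        show (4 : ZMod 7) • (w.1 + s w.1) + d ((4 : ZMod 7) • d (w.1 - s w.1)) = w.1
        rw [map_smul, C.dd, ← smul_add, show w.1 + s w.1 + (w.1 - s w.1) = (2 : ZMod 7) • w.1 by module,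
          smul_smul, show (4 : ZMod 7) * 2 = 1 from rfl, one_smul]
    rw [← Nat.card_congr (Equiv.ofBijective F hF), Nat.card_prod, h49]
  have hdec2 : ∀ w ∈ Y, ∃ u ∈ fixedSpace A, ∃ u' ∈ fixedSpace A, w = u + d u' := by
    intro w hw
    refine ⟨(4 : ZMod 7) • (w + s w), hfixA _ (Y.smul_mem _ (Y.add_mem hw (hmaps hsC hw)))
      (by rw [map_smul, map_add, C.ss, add_comm]), (4 : ZMod 7) • d (w - s w),
      hfixA _ (Y.smul_mem _ (hmaps hdC (Y.sub_mem hw (hmaps hsC hw))))
        (by rw [map_smul, C.sd, map_sub, C.ss, ← map_neg, neg_sub]), ?_⟩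
    rw [map_smul, C.dd, ← smul_add, show w + s w + (w - s w) = (2 : ZMod 7) • w by module,
      smul_smul, show (4 : ZMod 7) * 2 = 1 from rfl, one_smul]
  refine C'.no_cover hcard (restrictForm B Y) (fun v => h.alt v.1)
    (fun v hv => Subtype.ext (h.nd_fixedSpace hA'Γ v.2 fun y hy => hv ⟨y, hy⟩))
    (imageOn Y N) ?_ (isSolvable_imageOn h.solv inf_le_left Y) hi' hj' hs' hd' ?_ ?_ ?_
  · intro g hg v w
    obtain ⟨g', hg', -, e⟩ := mem_imageOn.1 hg
    rw [restrictForm_apply, restrictForm_apply, e, e]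
    exact h.inv g' hg'.1 _ _
  · intro g hg a
    obtain ⟨g', hg', -, e⟩ := mem_imageOn.1 hg
    refine hisWord (g' * cliffAxis i j s d a * g'⁻¹)
      (mem_centIn.2 ⟨E.nor g' hg'.1 _ (mem_centIn.1 (haxC a)).1, fun b hb w => ?_⟩) _ fun y => ?_
    · have hb' := (Subgroup.mem_normalizer_iff''.1 hg'.2 b).1 hb
      have h1 := congrArg (fun z => g' z) ((mem_centIn.1 (haxC a)).2 _ hb' (g'⁻¹ w))
      simp only [LinearEquiv.mul_apply, apply_inv'] at h1 ⊢
      exact h1
    · have hinv : ((g⁻¹ y : Y) : W) = g'⁻¹ y.1 := g'.injective (by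
        rw [apply_inv', ← e, apply_inv'])
      simp only [LinearEquiv.mul_apply]
      rw [e, eA, hinv]
  · intro g hg gi gj gs gd
    obtain ⟨g', hg', hg'Y, e⟩ := mem_imageOn.1 hg
    have hgs : ∀ y ∈ Y, g' (s y) = s (g' y) := fun y hy => by
      have := congrArg (Subtype.val : Y → W) (gs ⟨y, hy⟩)
      rwa [e, es, es, e] at this
    have hgA : ∀ u ∈ fixedSpace A, g' u ∈ fixedSpace A := fun u hu =>
      hfixA _ ((hg'Y u).2 (hWY hu)) (by rw [← hgs u (hWY hu), hu s hs])
    let T : fixedSpace A →ₗ[ZMod 7] fixedSpace A := (g' : W →ₗ[ZMod 7] W).restrict hgA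
    obtain ⟨c, hc⟩ := P.cov.exists_scalar P.dim P.qp T (fun u => Subtype.ext (by
      have := congrArg (Subtype.val : Y → W) (gi ⟨u.1, hWY u.2⟩)
      rw [e, ei, ei, e] at this
      show g' (i0 u : fixedSpace A).1 = (i0 (T u) : fixedSpace A).1
      rw [hi0, hi0]; exact this)) (fun u => Subtype.ext (by
      have := congrArg (Subtype.val : Y → W) (gj ⟨u.1, hWY u.2⟩)
      rw [e, ej, ej, e] at this
      show g' (j0 u : fixedSpace A).1 = (j0 (T u) : fixedSpace A).1
      rw [hj0, hj0]; exact this))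
    have hcu : ∀ u ∈ fixedSpace A, g' u = c • u := fun u hu => congrArg Subtype.val (hc ⟨u, hu⟩)
    have hc2 : c * c = 1 := by
      obtain ⟨η', hη', hne⟩ : ∃ η' ∈ fixedSpace A, B η η' ≠ 0 := by
        by_contra hcc
        push Not at hcc
        exact hη0 (h.nd_fixedSpace (M.le.trans E.le) hη hcc)
      have h1 := h.inv g' hg'.1 η η'
      rw [hcu η hη, hcu η' hη', map_smul, map_smul, LinearMap.smul_apply, smul_eq_mul, smul_eq_mul] at h1
      exact mul_right_cancel₀ hne (by linear_combination h1)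
    have hgw : ∀ y : Y, g y = c • y := fun y => by
      obtain ⟨u, hu, u', hu', ey⟩ := hdec2 y.1 y.2
      refine Subtype.ext ?_
      have h1 : g' (d u') = d (g' u') := by
        have := congrArg (Subtype.val : Y → W) (gd ⟨u', hWY hu'⟩)
        rwa [e, ed, ed, e] at this
      rw [e, ey, map_add, h1, hcu u hu, hcu u' hu', map_smul, SetLike.val_smul, ey, smul_add]
    rcases mul_self_eq_one_iff.1 hc2 with rfl | rfl
    · exact Or.inl (LinearEquiv.ext fun y => by rw [hgw, one_smul]; rfl)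
    · exact Or.inr fun y => by rw [hgw, neg_one_smul]
  · intro v hv
    have hv0 : v.1 ≠ 0 := fun e => hv.1 (Subtype.ext e)
    have hstab : ∀ x ∈ Q, x v.1 = v.1 → x ∈ A' := by
      intro x hx e
      have hxC : x ∈ centIn Q A' := by
        refine mem_centIn.2 ⟨hx, fun a ha => ?_⟩
        refine (E.comm x hx a (M.le (hA'le ha))).resolve_right fun e' => ?_
        have h1 := e' v.1
        rw [v.2 a ha, e, v.2 a ha] at h1
        exact hv0 (h.eq_zero_of_eq_neg h1)
      obtain ⟨x', -, ex⟩ := hres hxC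
      have hx1 := C'.word_fixing_good (hisWord x hxC x' ex) hv (Subtype.ext (by rw [ex, e]))
      have hfix : ∀ w ∈ Y, x w = w := fun w hw => by
        rw [← ex ⟨w, hw⟩, hx1]; rfl
      refine memA'.2 ⟨M.max x hx η hη hη0 (hfix η (hWY hη)), ?_⟩
      refine (E.comm x hx d hd).resolve_right fun e' => ?_
      have h1 := e' η
      rw [hfix η (hWY hη), hfix _ (hmaps hdC (hWY hη))] at h1
      exact hη0 (d.map_eq_zero_iff.1 (h.eq_zero_of_eq_neg h1))
    obtain ⟨g, hg, hgv⟩ := h.cover v.1 3 (Cover.natCast_ne_zero h (n := 3) (by norm_num) (by norm_num))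
    have h3 : (3 : ZMod 7) ≠ 0 := Cover.natCast_ne_zero h (n := 3) (by norm_num) (by norm_num)
    have hginv : g⁻¹ v.1 = (3 : ZMod 7)⁻¹ • v.1 := g.injective (by
      rw [apply_inv', map_smul, hgv, smul_smul, inv_mul_cancel₀ h3, one_smul])
    have hconjA : ∀ g' ∈ Γ, ∀ c : ZMod 7, c ≠ 0 → g' v.1 = c • v.1 → ∀ a ∈ A', g' * a * g'⁻¹ ∈ A' := by
      intro g' hg' c hc e a ha
      refine hstab _ (E.nor g' hg' a (M.le (hA'le ha))) ?_
      have h1 : g'⁻¹ v.1 = c⁻¹ • v.1 := g'.injective (by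
        rw [apply_inv', map_smul, e, smul_smul, inv_mul_cancel₀ hc, one_smul])
      rw [LinearEquiv.mul_apply, LinearEquiv.mul_apply, h1, map_smul, v.2 a ha, map_smul, e,
        smul_smul, inv_mul_cancel₀ hc, one_smul]
    have hgN : g ∈ N := ⟨hg, Subgroup.mem_normalizer_iff.2 fun a =>
      ⟨hconjA g hg 3 h3 hgv a, fun ha => by
        have := hconjA g⁻¹ (Γ.inv_mem hg) _ (inv_ne_zero h3) hginv _ ha
        rwa [show g⁻¹ * (g * a * g⁻¹) * g⁻¹⁻¹ = a by group] at this⟩⟩
    obtain ⟨g', hg', e⟩ := exists_imageOn hgN (h.normIn_maps hgN)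
    exact ⟨g', hg', Subtype.ext ((e v).trans hgv)⟩

end Cover

end Cfsg.Agent.DistinctSizes
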