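import Cfsg.Agent.Lib.Block.DistinctSizes.FiveAxes
import Cfsg.Agent.Lib.Block.DistinctSizes.Fixed

/-!
# No covering group of a four-dimensional space normalises five axes
-/

set_option autoImplicit false

set_option linter.unusedSectionVars false

namespace Cfsg.Agent.DistinctSizes

universe u

/-- few elements of order three over a given permutation -/
theorem card_fibre_le_four {G : Type*} [Group G] [Finite G] (π : G →* Equiv.Perm (Fin 5))
    (hK : Nat.card π.ker ≤ 32) (h4 : ∀ k ∈ π.ker, k ^ 4 = 1) {σ : Equiv.Perm (Fin 5)} (hσ : σ ^ 3 = 1)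
    (hσ1 : σ ≠ 1)
    (hc : ∀ y, y ^ 3 = 1 → π y = σ →
      ∃ a ∈ π.ker, ∃ b ∈ π.ker, a * y = y * a ∧ b * y = y * b ∧ a * b ≠ b * a) :
    {y : G | y ^ 3 = 1 ∧ π y = σ}.ncard ≤ 4 := by
  classical
  rcases {y : G | y ^ 3 = 1 ∧ π y = σ}.eq_empty_or_nonempty with e | ⟨y, hy3, hyσ⟩
  · rw [e, Set.ncard_empty]; norm_num
  haveI : Fact (Nat.Prime 3) := ⟨Nat.prime_three⟩
  have hK2 : IsPGroup 2 π.ker := fun k => ⟨2, Subtype.ext (h4 k.1 k.2)⟩
  obtain ⟨n, hn⟩ := hK2.exists_card_eq
  have hσ3 : orderOf σ = 3 := orderOf_eq_prime hσ hσ1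
  set H := (Subgroup.zpowers σ).comap π with hH
  have hle : π.ker ≤ H := MonoidHom.ker_le_comap π _
  have hHcard : Nat.card H = 3 * 2 ^ n := by
    have h1 := (π.ker.subgroupOf H).index_mul_card
    have h2 : π.ker.relIndex H = 3 := by
      rw [← MonoidHom.comap_bot, Subgroup.relIndex_comap, Subgroup.relIndex_bot_left, hH,
        Subgroup.map_comap_eq_self (by
          rw [Subgroup.zpowers_le]; exact ⟨y, hyσ⟩), Nat.card_zpowers, hσ3]
    rw [Nat.card_congr (Subgroup.subgroupOfEquivOfLe hle).toEquiv, hn] at h1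
    rw [← h1, ← h2]
    rfl
  have hfac : (Nat.card H).factorization 3 = 1 := by
    rw [hHcard, Nat.factorization_mul (by norm_num) (by positivity), Nat.factorization_pow,
      Nat.Prime.factorization Nat.prime_three, Nat.Prime.factorization Nat.prime_two]
    simp
  have hyH : y ∈ H := by
    show π y ∈ Subgroup.zpowers σ
    rw [hyσ]; exact Subgroup.mem_zpowers σ
  have hord : ∀ z : G, z ^ 3 = 1 → π z = σ → orderOf z = 3 := fun z hz hzσ =>
    orderOf_eq_prime hz fun e => hσ1 (by rw [← hzσ, e, map_one])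
  let C := (Subgroup.centralizer ({y} : Set G)).subgroupOf π.ker
  have hC8 : 8 ≤ Nat.card C := by
    obtain ⟨a, ha, b, hb, hay, hby, hab⟩ := hc y hy3 hyσ
    obtain ⟨m, hm⟩ := (hK2.to_subgroup C).exists_card_eq
    rw [hm]
    by_contra hlt
    have hm2 : m ≤ 2 := by
      by_contra h3
      exact hlt (le_trans (by norm_num) (Nat.pow_le_pow_right (by norm_num) (show 3 ≤ m by omega)))
    have hcomm : ∀ u v : C, u * v = v * u := by
      haveI : Fact (Nat.Prime 2) := ⟨Nat.prime_two⟩
      interval_cases m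
      · intro u v
        haveI : Subsingleton C := (Nat.card_eq_one_iff_unique.1 hm).1
        exact Subsingleton.elim _ _
      · haveI : IsCyclic C := isCyclic_of_prime_card (p := 2) (by simpa using hm)
        exact fun u v => IsMulCommutative.is_comm.comm u v
      · exact IsPGroup.commutative_of_card_eq_prime_sq (p := 2) hm
    refine hab ?_
    have := hcomm ⟨⟨a, ha⟩, Subgroup.mem_centralizer_singleton_iff.2 hay⟩
      ⟨⟨b, hb⟩, Subgroup.mem_centralizer_singleton_iff.2 hby⟩
    exact congrArg (fun u : C => ((u : π.ker) : G)) this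
  let q : π.ker ⧸ C → G := Quotient.lift (fun k : π.ker => (k : G) * y * (k : G)⁻¹) (by
    intro k k' hkk
    have h1 : k⁻¹ * k' ∈ C := QuotientGroup.leftRel_apply.1 hkk
    have h2 := Subgroup.mem_centralizer_singleton_iff.1 h1
    simp only [Subgroup.coe_subtype, Subgroup.coe_mul, InvMemClass.coe_inv] at h2
    have h3 : (k' : G) * y = (k : G) * y * ((k : G)⁻¹ * (k' : G)) := by
      rw [mul_assoc (k : G) y, ← h2]; group
    show (k : G) * y * (k : G)⁻¹ = (k' : G) * y * (k' : G)⁻¹
    rw [h3]; group)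
  have hsub : {y : G | y ^ 3 = 1 ∧ π y = σ} ⊆ Set.range q := by
    rintro y' ⟨hy'3, hy'σ⟩
    have hy'H : y' ∈ H := by
      show π y' ∈ Subgroup.zpowers σ
      rw [hy'σ]; exact Subgroup.mem_zpowers σ
    let P : Sylow 3 H := Sylow.ofCard (Subgroup.zpowers (⟨y, hyH⟩ : H))
      (by rw [Nat.card_zpowers, Subgroup.orderOf_mk, hord y hy3 hyσ, hfac, pow_one])
    let P' : Sylow 3 H := Sylow.ofCard (Subgroup.zpowers (⟨y', hy'H⟩ : H))
      (by rw [Nat.card_zpowers, Subgroup.orderOf_mk, hord y' hy'3 hy'σ, hfac, pow_one])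
    obtain ⟨g, hg⟩ := MulAction.exists_smul_eq H P P'
    have h1 : (⟨y', hy'H⟩ : H) ∈ (P' : Subgroup H) := Subgroup.mem_zpowers _
    rw [← hg, Sylow.coe_subgroup_smul, Subgroup.mem_pointwise_smul_iff_inv_smul_mem] at h1
    obtain ⟨z, hz⟩ := Subgroup.mem_zpowers_iff.1 h1
    have hz' : y' = (g : G) * y ^ z * (g : G)⁻¹ := by
      have := congrArg (fun u : H => (u : G)) hz
      simp at this
      rw [this]; group
    obtain ⟨t, ht⟩ := Subgroup.mem_zpowers_iff.1 (g.2 : π g ∈ Subgroup.zpowers σ)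
    have hσz : σ ^ z = σ := by
      have := congrArg π hz'
      rw [map_mul, map_mul, map_zpow, map_inv, hyσ, hy'σ, ← ht, ← zpow_neg, ← zpow_add, ← zpow_add] at this
      conv_rhs => rw [this]
      congr 1; ring
    have hyz : y ^ z = y := by
      have h2 := zpow_eq_zpow_iff_modEq.1 (hσz.trans (zpow_one σ).symm)
      rw [hσ3, ← hord y hy3 hyσ] at h2
      exact (zpow_eq_zpow_iff_modEq.2 h2).trans (zpow_one y)
    have hk : (g : G) * (y ^ t)⁻¹ ∈ π.ker := by
      rw [MonoidHom.mem_ker, map_mul, map_inv, map_zpow, hyσ, ht, mul_inv_cancel]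
    refine ⟨QuotientGroup.mk (⟨_, hk⟩ : π.ker), ?_⟩
    show (g : G) * (y ^ t)⁻¹ * y * ((g : G) * (y ^ t)⁻¹)⁻¹ = y'
    rw [hz', hyz]; group
  have h1 := C.index_mul_card
  have h2 : {y : G | y ^ 3 = 1 ∧ π y = σ}.ncard ≤ C.index := by
    refine (Set.ncard_le_ncard hsub (Set.toFinite _)).trans ?_
    rw [← Set.image_univ]
    exact (Set.ncard_image_le Set.finite_univ).trans (by rw [Set.ncard_univ]; exact le_refl _)
  have h3 : C.index * 8 ≤ C.index * Nat.card C := Nat.mul_le_mul_left _ hC8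
  omega

theorem seven_arith : (2 : ZMod 7) ≠ 0 ∧ ((4 : ZMod 7) * 4 - 1 ≠ 0) ∧ ((4 : ZMod 7) - 1 ≠ 0) ∧
    ((-1 : ZMod 7) ≠ 0) ∧ ((1 : ZMod 7) ≠ 0) ∧ ((3 : ZMod 7) ^ 6 = 1) ∧ ((3 : ZMod 7) ^ 4 = 4) ∧
    ∀ n : Fin 6, (3 : ZMod 7) ^ (n : ℕ) = 1 → n = 0 := by decide

variable {Y : Type u} [AddCommGroup Y] [Module (ZMod 7) Y] [hp : Fact (Nat.Prime 7)] {i j s d : Y ≃ₗ[ZMod 7] Y}

/-- a signed product of `1, i, j, ij` and `1, s, d, sd` -/
def IsWord (i j s d x : Y ≃ₗ[ZMod 7] Y) : Prop :=
  ∃ l r, (∀ w, x w = cliffLeft i j l (cliffRight s d r w)) ∨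
    ∀ w, x w = -cliffLeft i j l (cliffRight s d r w)

/-- a vector fixed by no noncentral involution of the words -/
def Good (i j s d : Y ≃ₗ[ZMod 7] Y) (v : Y) : Prop :=
  v ≠ 0 ∧ ∀ a, cliffAxis i j s d a v ≠ v ∧ cliffAxis i j s d a v ≠ -v

theorem eq_zero_of_neg_seven {v : Y} (e : v = -v) : v = 0 := by
  have h : (2 : ZMod 7) • v = 0 := by rw [two_smul]; exact add_eq_zero_iff_eq_neg.2 e
  exact (smul_eq_zero.1 h).resolve_left seven_arith.1

variable (C : Clifford i j s d)
include C

theorem Clifford.product_sq (l r : Fin 4) :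
    let x := fun w => cliffLeft i j l (cliffRight s d r w)
    (∀ w, x (x w) = w) ∨ ∀ w, x (x w) = -w := by
  fin_cases l <;> fin_cases r
  all_goals first
    | (left; intro w
       simp [cliffLeft, cliffRight, LinearEquiv.mul_apply, C.qp.ii, C.qp.jj, C.ji, C.ss, C.dd, C.ds,
         C.si, C.sj, C.di, C.dj, map_neg]
       done)
    | (right; intro w
       simp [cliffLeft, cliffRight, LinearEquiv.mul_apply, C.qp.ii, C.qp.jj, C.ji, C.ss, C.dd, C.ds,
         C.si, C.sj, C.di, C.dj, map_neg]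
       done)

theorem Clifford.word_fixing_good {x : Y ≃ₗ[ZMod 7] Y} (hx : IsWord i j s d x) {v : Y}
    (hv : Good i j s d v) (e : x v = v) : x = 1 := by
  obtain ⟨l, r, h⟩ := hx
  have hne : ∃ w : Y, w ≠ -w := ⟨v, fun e => hv.1 (eq_zero_of_neg_seven e)⟩
  rcases C.product_sq l r with hs | hs
  · rcases C.product_cases hne l r hs with ⟨rfl, rfl⟩ | ⟨a, ha⟩
    · rcases h with h | h
      · exact LinearEquiv.ext h
      · exact absurd (eq_zero_of_neg_seven ((h v).symm.trans e).symm) hv.1
    · rcases h with h | h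
      · exact absurd (((h v).trans (ha v)).symm.trans e) (hv.2 a).1
      · exact absurd (neg_eq_iff_eq_neg.1 (((h v).trans (congrArg Neg.neg (ha v))).symm.trans e))
          (hv.2 a).2
  · exfalso
    have h2 : x (x v) = -v := by
      rcases h with h | h
      · rw [h, h]; exact hs v
      · rw [h, h, map_neg, map_neg, neg_neg]; exact hs v
    rw [e, e] at h2
    exact hv.1 (eq_zero_of_neg_seven h2)

theorem Clifford.card_eigen_le [Finite Y] (hcard : Nat.card Y = 2401) (a : Fin 5) (t : ZMod 7) (ht : t ≠ 0) :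
    {v : Y | cliffAxis i j s d a v = t • v}.ncard ≤ 49 := by
  classical
  obtain ⟨b, hab⟩ : ∃ b : Fin 5, a ≠ b := (exists_ne a).imp fun _ h => h.symm
  set E := {v : Y | cliffAxis i j s d a v = t • v}
  have hinj : Function.Injective fun p : E × E => (p.1 : Y) + cliffAxis i j s d b p.2.1 := by
    rintro ⟨⟨u, hu⟩, ⟨w, hw⟩⟩ ⟨⟨u', hu'⟩, ⟨w', hw'⟩⟩ e
    simp only at e
    have e' := congrArg (cliffAxis i j s d a) e
    rw [map_add, map_add, C.axis_anti hab, C.axis_anti hab w', hw, hw', map_smul, map_smul] at e'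
    rw [show cliffAxis i j s d a u = t • u from hu, show cliffAxis i j s d a u' = t • u' from hu',
      ← smul_neg, ← smul_neg, ← smul_add, ← smul_add] at e'
    have e2 := smul_right_injective Y ht e'
    have h2 : (2 : ZMod 7) • u = (2 : ZMod 7) • u' := by
      linear_combination (norm := module) e + e2
    have hu2 := smul_right_injective Y seven_arith.1 h2
    have hw2 : cliffAxis i j s d b w = cliffAxis i j s d b w' := by
      rw [hu2] at e
      exact add_left_cancel e
    simp only [Prod.mk.injEq, Subtype.mk.injEq]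
    exact ⟨hu2, (LinearEquiv.injective _) hw2⟩
  have h := Nat.card_le_card_of_injective _ hinj
  rw [Nat.card_prod, hcard] at h
  rw [← Nat.card_coe_set_eq]
  nlinarith

/-- no covering group normalises the five axes -/
theorem Clifford.no_cover [Finite Y] (hcard : Nat.card Y = 2401) (B : LinearMap.BilinForm (ZMod 7) Y)
    (halt : ∀ v, B v v = 0) (hnd : ∀ v, (∀ w, B v w = 0) → v = 0)
    (Γ : Subgroup (Y ≃ₗ[ZMod 7] Y)) (hinv : ∀ g ∈ Γ, ∀ v w, B (g v) (g w) = B v w)
    (hsolv : Group.IsSolvable Γ) (hi : i ∈ Γ) (hj : j ∈ Γ) (hs : s ∈ Γ) (hd : d ∈ Γ)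
    (hconj : ∀ g ∈ Γ, ∀ a, IsWord i j s d (g * cliffAxis i j s d a * g⁻¹))
    (hscal : ∀ g ∈ Γ, (∀ w, g (i w) = i (g w)) → (∀ w, g (j w) = j (g w)) →
      (∀ w, g (s w) = s (g w)) → (∀ w, g (d w) = d (g w)) → IsSign g)
    (hcov : ∀ v, Good i j s d v → ∃ g ∈ Γ, g v = (3 : ZMod 7) • v) : False := by
  classical
  haveI : Fintype Y := Fintype.ofFinite Y
  haveI : Nontrivial Y := Finite.one_lt_card_iff_nontrivial.1 (by rw [hcard]; norm_num)
  obtain ⟨w₀, hw₀⟩ := exists_ne (0 : Y)
  have hne : ∃ w : Y, w ≠ -w := ⟨w₀, fun e => hw₀ (eq_zero_of_neg_seven e)⟩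
  have hax : ∀ a, cliffAxis i j s d a ∈ Γ := fun a => by
    fin_cases a
    · exact hs
    · exact hd
    · exact Γ.mul_mem hi (Γ.mul_mem hs hd)
    · exact Γ.mul_mem hj (Γ.mul_mem hs hd)
    · exact Γ.mul_mem (Γ.mul_mem hi hj) (Γ.mul_mem hs hd)
  -- the action on the five axes
  let M : (Y ≃ₗ[ZMod 7] Y) → Fin 5 → Fin 5 → Prop := fun g a b =>
    (∀ w, g (cliffAxis i j s d a w) = cliffAxis i j s d b (g w)) ∨
      ∀ w, g (cliffAxis i j s d a w) = -cliffAxis i j s d b (g w)
  have hM : ∀ g : Γ, ∀ a, ∃ b, M g.1 a b := by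
    intro g a
    obtain ⟨l, r, h⟩ := hconj g.1 g.2 a
    set x := g.1 * cliffAxis i j s d a * g.1⁻¹ with hx
    have hxg : ∀ w, x (g.1 w) = g.1 (cliffAxis i j s d a w) := fun w => by
      rw [hx, LinearEquiv.mul_apply, LinearEquiv.mul_apply, inv_apply']
    have hxx : ∀ w, x (x w) = w := fun w => by
      rw [← apply_inv' g.1 w, hxg, hxg, C.axis_sq]
    have hsq : ∀ w, cliffLeft i j l (cliffRight s d r (cliffLeft i j l (cliffRight s d r w))) = w := fun w => by
      rcases h with h | h
      · rw [← h, ← h, hxx]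
      · have := hxx w
        rwa [h, h, map_neg, map_neg, neg_neg] at this
    rcases C.product_cases hne l r hsq with ⟨rfl, rfl⟩ | ⟨b, hb⟩
    · exfalso
      obtain ⟨b, hab⟩ := exists_ne a
      have hz : ∀ w, cliffAxis i j s d a w = w ∨ cliffAxis i j s d a w = -w := fun w => by
        rcases h with h | h
        · exact Or.inl (g.1.injective ((hxg w).symm.trans (h _)))
        · exact Or.inr (g.1.injective (((hxg w).symm.trans (h _)).trans (map_neg g.1 w).symm))
      have h1 := C.axis_anti (Ne.symm hab) w₀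
      rcases h with h | h
      · have e : ∀ w, cliffAxis i j s d a w = w := fun w => g.1.injective ((hxg w).symm.trans (h _))
        rw [e, e] at h1
        exact hw₀ (by simpa using eq_zero_of_neg_seven h1)
      · have e : ∀ w, cliffAxis i j s d a w = -w := fun w =>
          g.1.injective (((hxg w).symm.trans (h _)).trans (map_neg g.1 w).symm)
        rw [e, e, map_neg] at h1
        exact hw₀ (by simpa using eq_zero_of_neg_seven h1)
    · exact ⟨b, h.imp (fun h w => by rw [← hxg, h, hb]) fun h w => by rw [← hxg, h, hb]⟩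
  have huniq : ∀ g : Γ, ∀ a b b', M g.1 a b → M g.1 a b' → b = b' := by
    intro g a b b' hb hb'
    refine C.axis_unique hne ?_
    rcases hb with e | e <;> rcases hb' with e' | e'
    · exact Or.inl fun w => by rw [← apply_inv' g.1 w, ← e, e']
    · exact Or.inr fun w => by rw [← apply_inv' g.1 w, ← e, e']
    · exact Or.inr fun w => by rw [← apply_inv' g.1 w, ← e', e, neg_neg]
    · exact Or.inl fun w => by
        rw [← apply_inv' g.1 w]; exact neg_injective ((e _).symm.trans (e' _))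
  have hmul : ∀ g g' : Γ, ∀ a b c, M g'.1 a b → M g.1 b c → M (g * g').1 a c := by
    intro g g' a b c hb hc
    rcases hb with e | e <;> rcases hc with e' | e'
    · exact Or.inl fun w => by simp [LinearEquiv.mul_apply, e, e']
    · exact Or.inr fun w => by simp [LinearEquiv.mul_apply, e, e']
    · exact Or.inr fun w => by simp [LinearEquiv.mul_apply, e, e']
    · exact Or.inl fun w => by simp [LinearEquiv.mul_apply, e, e']
  choose f hf using hM
  have hinvM : ∀ g : Γ, ∀ a b, M g.1 a b → M g⁻¹.1 b a := by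
    intro g a b hb
    rcases hb with e | e
    · exact Or.inl fun w => g.1.injective (by
        simp only [InvMemClass.coe_inv, apply_inv', e])
    · exact Or.inr fun w => g.1.injective (by
        simp only [InvMemClass.coe_inv, apply_inv', e, map_neg, neg_neg])
  have hfinj : ∀ g : Γ, Function.Injective (f g) := fun g a b e =>
    huniq g⁻¹ (f g a) a b (hinvM g a _ (hf g a)) (e ▸ hinvM g b _ (hf g b))
  let π : Γ →* Equiv.Perm (Fin 5) := MonoidHom.mk'
    (fun g => Equiv.ofBijective (f g) (Finite.injective_iff_bijective.1 (hfinj g)))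
    fun g g' => Equiv.ext fun a => huniq (g * g') a _ _ (hf _ a) (hmul g g' a _ _ (hf g' a) (hf g _))
  have hker : ∀ k ∈ π.ker, ∀ a, M k.1 a a := fun k hk a => by
    have := hf k a
    rwa [show f k a = a from congrArg (fun σ : Equiv.Perm (Fin 5) => σ a) (MonoidHom.mem_ker.1 hk)] at this
  have hkerI : ∀ k : Γ, (∀ a, M k.1 a a) → k ∈ π.ker := fun k hk =>
    MonoidHom.mem_ker.2 (Equiv.ext fun a => huniq k a _ _ (hf k a) (hk a))
  -- the signs of a kernel element
  let gen : Fin 4 → (Y ≃ₗ[ZMod 7] Y) := ![i, j, s, d]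
  have hsigns : ∀ k ∈ π.ker, ∀ n, CommSign k.1 (gen n) := by
    intro k hk
    have hM' : ∀ a, ∃ τ : ZMod 7, τ * τ = 1 ∧
        ∀ w, k.1 (cliffAxis i j s d a w) = τ • cliffAxis i j s d a (k.1 w) :=
      fun a => CommSign.exists_scalar (show CommSign k.1 _ from hker k hk a)
    have back : ∀ x : Y ≃ₗ[ZMod 7] Y, ∀ τ : ZMod 7, τ * τ = 1 → (∀ w, k.1 (x w) = τ • x (k.1 w)) →
        CommSign k.1 x := by
      intro x τ hτ e
      rcases mul_self_eq_one_iff.1 hτ with rfl | rfl
      · exact Or.inl fun w => by rw [e, one_smul]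
      · exact Or.inr fun w => by rw [e, neg_one_smul]
    obtain ⟨ts, hts, es⟩ := hM' 0
    obtain ⟨td, htd, ed⟩ := hM' 1
    obtain ⟨t2, ht2, e2⟩ := hM' 2
    obtain ⟨t3, ht3, e3⟩ := hM' 3
    simp only [cliffAxis, Matrix.cons_val_zero, Matrix.cons_val_one, Matrix.cons_val,
      LinearEquiv.mul_apply] at es ed e2 e3
    have hsd : ∀ w, s (d (s (d w))) = -w := fun w => by rw [C.ds, map_neg, C.ss, C.dd]
    intro n
    fin_cases n
    · refine back i (t2 * (ts * td)) (by linear_combination ht2 * (ts * td * (ts * td)) + hts * (td * td) + htd) fun w => ?_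
      have e := e2 (s (d w))
      simp only [hsd, map_neg, es, map_smul, ed] at e
      show k.1 (i w) = _
      linear_combination (norm := module) -e
    · refine back j (t3 * (ts * td)) (by linear_combination ht3 * (ts * td * (ts * td)) + hts * (td * td) + htd) fun w => ?_
      have e := e3 (s (d w))
      simp only [hsd, map_neg, es, map_smul, ed] at e
      show k.1 (j w) = _
      linear_combination (norm := module) -e
    · exact back s ts hts es
    · exact back d td htd ed
  have hsame : ∀ k ∈ π.ker, ∀ k' ∈ π.ker,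
      (∀ n, ((∀ w, k.1 (gen n w) = gen n (k.1 w)) ↔ ∀ w, k'.1 (gen n w) = gen n (k'.1 w))) →
      IsSign (k.1 * k'.1) := by
    intro k hk k' hk' hiff
    have hc : ∀ n w, (k.1 * k'.1) (gen n w) = gen n ((k.1 * k'.1) w) := by
      intro n w
      simp only [LinearEquiv.mul_apply]
      by_cases h1 : ∀ w, k.1 (gen n w) = gen n (k.1 w)
      · rw [(hiff n).1 h1, h1]
      · rw [((hsigns k' hk' n).resolve_left fun e => h1 ((hiff n).2 e)) w, map_neg,
          (hsigns k hk n).resolve_left h1, neg_neg]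
    exact hscal _ (Γ.mul_mem k.2 k'.2) (hc 0) (hc 1) (hc 2) (hc 3)
  have h4 : ∀ k ∈ π.ker, k ^ 4 = 1 := by
    intro k hk
    refine Subtype.ext ?_
    show k.1 ^ (2 * 2) = 1
    rw [pow_mul, pow_two, pow_two]
    exact (hsame k hk k hk fun _ => Iff.rfl).sq
  have hK : Nat.card π.ker ≤ 32 := by
    haveI : Fintype π.ker := Fintype.ofFinite _
    let φ : π.ker → Fin 4 → Bool := fun k n => decide (∀ w, k.1.1 (gen n w) = gen n (k.1.1 w))
    have h := Finset.card_le_mul_card_image (f := φ) (Finset.univ : Finset π.ker) 2 (fun b _ => by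
      by_contra hlt
      obtain ⟨k₀, hk₀⟩ := Finset.card_pos.1 (show 0 < (Finset.univ.filter fun k => φ k = b).card by omega)
      let F : π.ker → (Y ≃ₗ[ZMod 7] Y) := fun k => k.1.1 * k₀.1.1
      have hF : Function.Injective F := fun a b e => Subtype.ext (Subtype.ext (mul_right_cancel e))
      have hsub : (Finset.univ.filter fun k => φ k = b).image F ⊆
          {1, LinearEquiv.neg (ZMod 7)} := by
        intro x hx
        obtain ⟨k, hk, rfl⟩ := Finset.mem_image.1 hx
        rw [Finset.mem_filter] at hk hk₀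
        have hiff : ∀ n, ((∀ w, k.1.1 (gen n w) = gen n (k.1.1 w)) ↔
            ∀ w, k₀.1.1 (gen n w) = gen n (k₀.1.1 w)) := fun n => by
          simpa [φ] using congrFun (hk.2.trans hk₀.2.symm) n
        rw [Finset.mem_insert, Finset.mem_singleton]
        exact (hsame k.1 k.2 k₀.1 k₀.2 hiff).imp id fun e => LinearEquiv.ext e
      exact hlt (by
        rw [← Finset.card_image_of_injective _ hF]
        exact (Finset.card_le_card hsub).trans Finset.card_le_two))
    rw [Nat.card_eq_fintype_card, ← Finset.card_univ]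
    refine h.trans (le_trans (Nat.mul_le_mul_left 2 (Finset.card_le_univ _)) ?_)
    simp
  -- the elements of order three
  have haxker : ∀ b, (⟨_, hax b⟩ : Γ) ∈ π.ker := fun b => hkerI _ fun a => by
    rcases eq_or_ne b a with rfl | hba
    · exact Or.inl fun w => rfl
    · exact Or.inr fun w => C.axis_anti hba w
  have hfib : ∀ σ : Equiv.Perm (Fin 5), σ ^ 3 = 1 → σ ≠ 1 → {y : Γ | y ^ 3 = 1 ∧ π y = σ}.ncard ≤ 4 := by
    intro σ hσ hσ1
    refine card_fibre_le_four π hK h4 hσ hσ1 fun y hy hyσ => ?_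
    obtain ⟨a, b, hab, ha, hb⟩ := perm_five_fixed σ hσ hσ1
    have hcomm : ∀ c, σ c = c → ∀ w, y.1 (cliffAxis i j s d c w) = cliffAxis i j s d c (y.1 w) := by
      intro c hc
      have hyc := hf y c
      rw [show f y c = c from (congrArg (fun ρ : Equiv.Perm (Fin 5) => ρ c) hyσ).trans hc] at hyc
      refine hyc.resolve_right fun e => ?_
      have h3 : ∀ w, y.1 (y.1 (y.1 w)) = w := fun w => by
        have := LinearEquiv.congr_fun (congrArg Subtype.val hy) w
        simpa [pow_succ, LinearEquiv.mul_apply] using this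
      have h5 := h3 (cliffAxis i j s d c w₀)
      rw [e, map_neg, map_neg, e, map_neg, neg_neg, e, h3] at h5
      exact hw₀ (by simpa using eq_zero_of_neg_seven h5.symm)
    refine ⟨⟨_, hax a⟩, haxker a, ⟨_, hax b⟩, haxker b, ?_, ?_, fun e => ?_⟩
    · exact Subtype.ext (LinearEquiv.ext fun w => (hcomm a ha w).symm)
    · exact Subtype.ext (LinearEquiv.ext fun w => (hcomm b hb w).symm)
    · have h1 := C.axis_anti hab w₀
      have h2 := LinearEquiv.congr_fun (congrArg Subtype.val e) w₀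
      simp only [Subgroup.coe_mul, LinearEquiv.mul_apply] at h2
      rw [h2] at h1
      exact hw₀ (by simpa using eq_zero_of_neg_seven h1)
  haveI : Fintype Γ := Fintype.ofFinite Γ
  let S : Finset Γ := Finset.univ.filter fun y => y ^ 3 = 1 ∧ π y ≠ 1
  have hS : S.card ≤ 32 := by
    let K : Subgroup (Equiv.Perm (Fin 5)) := π.range
    haveI := hsolv
    have hKs : Group.IsSolvable K := Group.isSolvable_of_surjective π.rangeRestrict_surjective
    let T := Finset.univ.filter fun σ : Equiv.Perm (Fin 5) => σ ∈ K ∧ σ ^ 3 = 1 ∧ σ ≠ 1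
    have h := Finset.card_le_mul_card_image_of_maps_to (s := S) (t := T) (f := π) (fun y hy => by
      rw [Finset.mem_filter] at hy
      refine Finset.mem_filter.2 ⟨Finset.mem_univ _, ⟨y, rfl⟩, ?_, hy.2.2⟩
      rw [← map_pow, hy.2.1, map_one]) 4 (fun σ hσ => by
      rw [Finset.mem_filter] at hσ
      refine le_trans ?_ (hfib σ hσ.2.2.1 hσ.2.2.2)
      rw [Set.ncard_eq_toFinset_card']
      refine Finset.card_le_card fun y hy => ?_
      simp only [S, Finset.mem_filter] at hy
      simp [hy.1.2.1, hy.2])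
    exact h.trans (Nat.mul_le_mul_left 4 (card_cubes_five K hKs))
  have heig : ∀ y : Γ, (Finset.univ.filter fun v : Y => y.1 v = (4 : ZMod 7) • v).card ≤ 49 := by
    intro y
    let L : Submodule (ZMod 7) Y := LinearMap.eqLocus (y.1 : Y →ₗ[ZMod 7] Y) ((4 : ZMod 7) • LinearMap.id)
    have hiso : L ≤ LinearMap.BilinForm.orthogonal B L := by
      intro v hv u hu
      have h1 := hinv y.1 y.2 u v
      have hu' : y.1 u = (4 : ZMod 7) • u := hu
      have hv' : y.1 v = (4 : ZMod 7) • v := hv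
      rw [hu', hv'] at h1
      simp only [map_smul, LinearMap.smul_apply, smul_eq_mul] at h1
      have : ((4 : ZMod 7) * 4 - 1) * B u v = 0 := by linear_combination h1
      exact (mul_eq_zero.1 this).resolve_left seven_arith.2.1
    have hrefl : LinearMap.IsRefl B := LinearMap.IsAlt.isRefl halt
    have hnd' : B.Nondegenerate := ⟨hnd, fun v hv => hnd v fun w => hrefl _ _ (hv w)⟩
    have h1 := LinearMap.BilinForm.finrank_orthogonal hnd' L
    have h2 := Submodule.finrank_mono hiso
    have h3 : Module.finrank (ZMod 7) Y = 4 := by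
      have := Module.natCard_eq_pow_finrank (K := ZMod 7) (V := Y)
      rw [hcard, Nat.card_zmod] at this
      exact (Nat.pow_right_injective (by norm_num) (this.symm.trans (show 2401 = 7 ^ 4 by norm_num)))
    have h4' : Nat.card L ≤ 49 := by
      rw [Module.natCard_eq_pow_finrank (K := ZMod 7), Nat.card_zmod]
      calc 7 ^ Module.finrank (ZMod 7) L ≤ 7 ^ 2 := Nat.pow_le_pow_right (by norm_num) (by omega)
        _ = 49 := by norm_num
    refine le_trans (le_of_eq ?_) h4'
    rw [← Fintype.card_subtype, ← Nat.card_eq_fintype_card]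
    exact Nat.card_congr (Equiv.subtypeEquivRight fun v => Iff.rfl)
  have hgood : ∀ v, Good i j s d v → ∃ y ∈ S, y.1 v = (4 : ZMod 7) • v := by
    intro v hv
    obtain ⟨g, hg, hgv⟩ := hcov v hv
    set N := orderOf (⟨g, hg⟩ : Γ) with hN
    have hscale : ∀ n : ℕ, (g ^ n) v = (3 : ZMod 7) ^ n • v := fun n => by
      induction n with
      | zero => simp
      | succ n ih => rw [pow_succ', LinearEquiv.mul_apply, ih, map_smul, hgv, smul_smul, pow_succ]
    have hmod : ∀ n : ℕ, (3 : ZMod 7) ^ n = 3 ^ (n % 6) := fun n => by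
      conv_lhs => rw [← Nat.div_add_mod n 6, pow_add, pow_mul, seven_arith.2.2.2.2.2.1, one_pow, one_mul]
    have h6 : 6 ∣ N := by
      have h1 : g ^ N = 1 := congrArg Subtype.val (pow_orderOf_eq_one (⟨g, hg⟩ : Γ))
      have h2 := hscale N
      rw [h1, hmod] at h2
      have h3 : (3 : ZMod 7) ^ (N % 6) = 1 := by
        refine smul_left_injective _ hv.1 ?_
        show (3 : ZMod 7) ^ (N % 6) • v = (1 : ZMod 7) • v
        rw [← h2, one_smul]; rfl
      have h4' : N % 6 < 6 := Nat.mod_lt _ (by norm_num)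
      refine Nat.dvd_of_mod_eq_zero ?_
      exact congrArg Fin.val (seven_arith.2.2.2.2.2.2.2 ⟨N % 6, h4'⟩ h3)
    have hN0 : N ≠ 0 := (orderOf_pos _).ne'
    have hm3 : ¬ 3 ∣ ordCompl[3] N := Nat.not_dvd_ordCompl Nat.prime_three hN0
    have hm2 : 2 ∣ ordCompl[3] N := (Nat.Coprime.dvd_of_dvd_mul_left
      (Nat.Coprime.pow_right _ (by norm_num : Nat.Coprime 2 3)) (by rw [Nat.ordProj_mul_ordCompl_eq_self]; omega))
    obtain ⟨e, he, he4⟩ : ∃ e, ordCompl[3] N ∣ e ∧ e % 6 = 4 := by
      by_cases h : ordCompl[3] N % 6 = 4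
      · exact ⟨_, dvd_rfl, h⟩
      · have h2' : ordCompl[3] N % 6 = 2 := by omega
        exact ⟨2 * ordCompl[3] N, dvd_mul_left _ _, by rw [Nat.mul_mod, h2']⟩
    set y : Γ := (⟨g, hg⟩ : Γ) ^ e with hy
    have hyv : y.1 v = (4 : ZMod 7) • v := by
      show (g ^ e) v = _
      rw [hscale, hmod, he4, seven_arith.2.2.2.2.2.2.1]
    have hpow : y ^ ordProj[3] N = 1 := by
      rw [hy, ← pow_mul, ← orderOf_dvd_iff_pow_eq_one, ← hN]
      obtain ⟨c, hc⟩ := he
      refine ⟨c, ?_⟩
      calc e * ordProj[3] N = ordProj[3] N * ordCompl[3] N * c := by rw [hc]; ring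
        _ = N * c := by rw [Nat.ordProj_mul_ordCompl_eq_self]
    have hπ3 : π y ^ 3 = 1 := perm_five_cube (by rw [← map_pow, hpow, map_one])
    have hy3 : y ^ 3 = 1 := by
      have h12 : y ^ (3 * 4) = 1 := by
        rw [pow_mul]; exact h4 _ (by rw [MonoidHom.mem_ker, map_pow, hπ3])
      have hd := Nat.dvd_gcd (orderOf_dvd_of_pow_eq_one hpow) (orderOf_dvd_of_pow_eq_one h12)
      refine orderOf_dvd_iff_pow_eq_one.1 ((Nat.Coprime.dvd_of_dvd_mul_right (n := 4) ?_ (orderOf_dvd_of_pow_eq_one h12)))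
      exact Nat.Coprime.coprime_dvd_left (orderOf_dvd_of_pow_eq_one hpow) (Nat.Coprime.pow_left _ (by norm_num))
    refine ⟨y, Finset.mem_filter.2 ⟨Finset.mem_univ _, hy3, fun e1 => ?_⟩, hyv⟩
    have hy4 := h4 y (MonoidHom.mem_ker.2 e1)
    rw [pow_succ, hy3, one_mul] at hy4
    rw [hy4] at hyv
    have : ((4 : ZMod 7) - 1) • v = 0 := by rw [sub_smul, one_smul, ← hyv]; exact sub_self v
    exact hv.1 ((smul_eq_zero.1 this).resolve_left seven_arith.2.2.1)
  -- counting
  let bad : Finset Y := Finset.biUnion (Finset.univ : Finset (Fin 5 × Bool))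
    fun c => Finset.univ.filter fun v => cliffAxis i j s d c.1 v = (bif c.2 then (1 : ZMod 7) else -1) • v
  have hbad : bad.card ≤ 10 * 49 := by
    refine Finset.card_biUnion_le.trans ((Finset.sum_le_card_nsmul _ _ 49 fun c _ => ?_).trans (by simp))
    refine le_trans (le_of_eq ?_) (C.card_eigen_le hcard c.1 (bif c.2 then (1 : ZMod 7) else -1)
      (by cases c.2; exacts [seven_arith.2.2.2.1, seven_arith.2.2.2.2.1]))
    rw [Set.ncard_eq_toFinset_card']
    congr 1
    ext v; simp
  have hcover : (Finset.univ : Finset Y) ⊆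
      bad ∪ S.biUnion fun y => Finset.univ.filter fun v => y.1 v = (4 : ZMod 7) • v := by
    intro v _
    rw [Finset.mem_union]
    by_cases hb : v ∈ bad
    · exact Or.inl hb
    refine Or.inr ?_
    simp only [bad, Finset.mem_biUnion, Finset.mem_filter, Finset.mem_univ, true_and, not_exists,
      Prod.forall] at hb
    have hv : Good i j s d v := ⟨fun e => hb 0 true (by simp [e]),
      fun a => ⟨fun e => hb a true (by simp [e]), fun e => hb a false (by simp [e])⟩⟩
    obtain ⟨y, hy, e⟩ := hgood v hv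
    exact Finset.mem_biUnion.2 ⟨y, hy, Finset.mem_filter.2 ⟨Finset.mem_univ _, e⟩⟩
  have h1 := (Finset.card_le_card hcover).trans (Finset.card_union_le _ _)
  have h2 := Finset.card_biUnion_le (s := S) (t := fun y => Finset.univ.filter fun v : Y => y.1 v = (4 : ZMod 7) • v)
  have h3 := h2.trans (Finset.sum_le_card_nsmul _ _ 49 fun y _ => heig y)
  rw [Finset.card_univ, ← Nat.card_eq_fintype_card, hcard] at h1
  simp only [smul_eq_mul] at h3
  omega

end Cfsg.Agent.DistinctSizes
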