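import Cfsg.Agent.Lib.Block.DistinctSizes.Basic

/-!
# A normal elementary abelian subgroup as a module
-/

set_option autoImplicit false

set_option linter.unusedSectionVars false

namespace Cfsg.Agent.DistinctSizes

open Subgroup

universe u

variable {G : Type u} [Group G]

/-- `V` is normal, abelian, of exponent `p` -/
structure Elem (p : ℕ) (V : Subgroup G) : Prop where
  nor : V.Normal
  comm : ∀ a ∈ V, ∀ b ∈ V, a * b = b * a
  pow : ∀ a ∈ V, a ^ p = 1

variable {p : ℕ} {V : Subgroup G}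

/-- the module attached to a normal elementary abelian subgroup -/
def EMod (_hV : Elem p V) : Type u := Additive ↥V

variable (hV : Elem p V)

instance instAddCommGroupEMod : AddCommGroup (EMod hV) :=
  { (inferInstanceAs (AddGroup (Additive ↥V)) : AddGroup (EMod hV)) with
    add_comm := fun a b => Subtype.ext (hV.comm _ a.toMul.2 _ b.toMul.2) }

theorem emod_nsmul (a : EMod hV) : p • a = 0 :=
  Subtype.ext (show ((Additive.toMul a : ↥V) ^ p : ↥V).1 = 1 from by
    rw [SubmonoidClass.coe_pow]; exact hV.pow _ a.toMul.2)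

instance instModuleEMod [Fact p.Prime] : Module (ZMod p) (EMod hV) :=
  AddCommGroup.zmodModule (emod_nsmul hV)

instance instFiniteEMod [Finite G] : Finite (EMod hV) := inferInstanceAs (Finite (Additive ↥V))

/-- the underlying element of the group -/
def EMod.val (a : EMod hV) : G := (Additive.toMul a : ↥V).1

/-- the module element attached to an element of the subgroup -/
def EMod.mk {v : G} (hv : v ∈ V) : EMod hV := Additive.ofMul ⟨v, hv⟩

theorem EMod.val_mem (a : EMod hV) : a.val hV ∈ V := (Additive.toMul a : ↥V).2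

@[simp] theorem EMod.val_mk {v : G} (hv : v ∈ V) : (EMod.mk hV hv).val hV = v := rfl

theorem EMod.val_inj {a b : EMod hV} (h : a.val hV = b.val hV) : a = b := Subtype.ext h

@[simp] theorem EMod.val_zero : (0 : EMod hV).val hV = 1 := rfl

@[simp] theorem EMod.val_add (a b : EMod hV) : (a + b).val hV = a.val hV * b.val hV := rfl

@[simp] theorem EMod.val_neg (a : EMod hV) : (-a).val hV = (a.val hV)⁻¹ := rfl

theorem EMod.val_eq_one {a : EMod hV} : a.val hV = 1 ↔ a = 0 :=
  ⟨fun h => EMod.val_inj hV h, fun h => by rw [h]; rfl⟩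

theorem EMod.val_nsmul (n : ℕ) (a : EMod hV) : (n • a).val hV = a.val hV ^ n := by
  induction n with
  | zero => rw [zero_smul, pow_zero]; rfl
  | succ n ih => rw [succ_nsmul, EMod.val_add, ih, pow_succ]

variable [Fact p.Prime]

theorem EMod.val_smul (c : ZMod p) (a : EMod hV) : (c • a).val hV = a.val hV ^ c.val := by
  conv_lhs => rw [← ZMod.natCast_zmod_val c]
  rw [Nat.cast_smul_eq_nsmul, EMod.val_nsmul]

theorem EMod.card [Finite G] : Nat.card (EMod hV) = Nat.card V := rfl

/-- conjugation as an additive map -/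
def conjMap (g : G) : EMod hV →+ EMod hV where
  toFun a := EMod.mk hV (hV.nor.conj_mem _ (a.val_mem hV) g)
  map_zero' := EMod.val_inj hV (by simp)
  map_add' a b := EMod.val_inj hV (by simp only [EMod.val_mk, EMod.val_add]; group)

/-- the action by conjugation -/
def conjRep : Representation (ZMod p) G (EMod hV) where
  toFun g := (conjMap hV g).toZModLinearMap p
  map_one' := LinearMap.ext fun a => EMod.val_inj hV (by simp [conjMap, AddMonoidHom.toZModLinearMap])
  map_mul' g h := LinearMap.ext fun a => EMod.val_inj hV (by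
    show g * h * a.val hV * (g * h)⁻¹ = g * (h * a.val hV * h⁻¹) * g⁻¹
    group)

@[simp] theorem val_conjRep (g : G) (a : EMod hV) : (conjRep hV g a).val hV = g * a.val hV * g⁻¹ := rfl

/-- the conjugation action of a subgroup -/
def conjRepOn (H : Subgroup G) : Representation (ZMod p) H (EMod hV) := (conjRep hV).comp H.subtype

@[simp] theorem val_conjRepOn (H : Subgroup G) (g : H) (a : EMod hV) :
    (conjRepOn hV H g a).val hV = (g : G) * a.val hV * (g : G)⁻¹ := rfl

/-- the subgroup of `G` attached to a submodule -/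
def subOf (Y : Submodule (ZMod p) (EMod hV)) : Subgroup G where
  carrier := {g | ∃ a ∈ Y, a.val hV = g}
  one_mem' := ⟨0, zero_mem Y, rfl⟩
  mul_mem' := fun {x y} ⟨a, ha, hax⟩ ⟨b, hb, hby⟩ => ⟨a + b, add_mem ha hb, by rw [← hax, ← hby]; rfl⟩
  inv_mem' := fun {x} ⟨a, ha, hax⟩ => ⟨-a, neg_mem ha, by rw [← hax]; rfl⟩

/-- a minimal normal subgroup gives an irreducible module -/
theorem irreducible_of_minimal (hmin : ∀ M : Subgroup G, M.Normal → M ≤ V → M = ⊥ ∨ M = V)
    {H : Subgroup G} (hH : ∀ g : G, ∃ h ∈ H, ∀ v ∈ V, g * v * g⁻¹ = h * v * h⁻¹)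
    (Y : Submodule (ZMod p) (EMod hV)) (hY : ∀ h : H, ∀ a ∈ Y, conjRepOn hV H h a ∈ Y) :
    Y = ⊥ ∨ Y = ⊤ := by
  have hle : subOf hV Y ≤ V := fun g ⟨a, _, hag⟩ => hag ▸ a.val_mem hV
  have hn : (subOf hV Y).Normal := by
    refine ⟨fun x ⟨a, ha, hax⟩ g => ?_⟩
    obtain ⟨h, hh, hgh⟩ := hH g
    exact ⟨_, hY ⟨h, hh⟩ a ha, by rw [val_conjRepOn, hax, hgh x (hle ⟨a, ha, hax⟩)]⟩
  refine (hmin _ hn hle).imp (fun e => ?_) (fun e => ?_)
  · refine (Submodule.eq_bot_iff Y).2 fun a ha => (EMod.val_eq_one hV).1 ?_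
    have : a.val hV ∈ subOf hV Y := ⟨a, ha, rfl⟩
    rwa [e, mem_bot] at this
  · refine Submodule.eq_top_iff'.2 fun a => ?_
    obtain ⟨b, hb, hba⟩ : a.val hV ∈ subOf hV Y := by rw [e]; exact a.val_mem hV
    rwa [← EMod.val_inj hV hba]

theorem EMod.nontrivial (hne : V ≠ ⊥) : Nontrivial (EMod hV) := by
  obtain ⟨v, hv, hv1⟩ := (V.ne_bot_iff_exists_ne_one).1 hne |> fun ⟨v, hv⟩ =>
    (⟨v.1, v.2, fun e => hv (Subtype.ext e)⟩ : ∃ v ∈ V, v ≠ 1)
  exact ⟨⟨EMod.mk hV hv, 0, fun e => hv1 (congrArg (EMod.val hV) e)⟩⟩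

end Cfsg.Agent.DistinctSizes
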