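import Cfsg.Agent.Lib.Block.DistinctSizes.Seven
import Cfsg.Agent.Lib.Block.DistinctSizes.Forms
import Cfsg.Agent.Lib.Block.DistinctSizes.Module
import Cfsg.Agent.Lib.Grp.Solvable
import Cfsg.Agent.Lib.Grp.Basic

/-!
# Gow's theorem: rational solvable groups involve no prime beyond five
-/

set_option autoImplicit false

set_option linter.unusedSectionVars false

namespace Cfsg.Agent.DistinctSizes

universe u

/-- a minimal normal subgroup of a nontrivial solvable group -/
theorem exists_minimal_elem {G : Type u} [Group G] [Finite G] [Nontrivial G] (hs : Group.IsSolvable G) :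
    ∃ (q : ℕ) (V : Subgroup G), q.Prime ∧ Elem q V ∧ V ≠ ⊥ ∧
      ∀ M : Subgroup G, M.Normal → M ≤ V → M = ⊥ ∨ M = V := by
  haveI := hs
  obtain ⟨V, hVn, hV, -, hmin⟩ := Grp.exists_minimal_normal_le (N := (⊤ : Subgroup G)) top_ne_bot
  haveI := hVn
  obtain ⟨hab, q, hq, hpow⟩ := Grp.minimal_normal_solvable
    (Group.isSolvable_of_isSolvable_injective V.subtype_injective) hV hmin
  exact ⟨q, V, hq, ⟨hVn, fun a ha b hb => congrArg Subtype.val (hab.is_comm.comm (⟨a, ha⟩ : V) ⟨b, hb⟩),
    hpow⟩, hV, hmin⟩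

theorem Elem.isPGroup {G : Type u} [Group G] {q : ℕ} {V : Subgroup G} (hV : Elem q V) : IsPGroup q V :=
  fun x => ⟨1, Subtype.ext (by rw [pow_one, SubmonoidClass.coe_pow]; exact hV.pow _ x.2)⟩

/-- Gow: the primes of a rational solvable group are at most five -/
theorem RatGroup.prime_le_five {G : Type u} [Group G] [Finite G] (hG : RatGroup G) (hs : Group.IsSolvable G)
    {p : ℕ} (hp : p.Prime) (hd : p ∣ Nat.card G) : p ≤ 5 := by
  induction hn : Nat.card G using Nat.strong_induction_on generalizing G with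
  | _ n ih =>
  subst hn
  by_contra hp5
  have h7 : 7 ≤ p := by
    rcases Nat.lt_or_ge p 7 with h | h
    · exfalso
      have : p = 6 := by omega
      subst this
      exact absurd hp (by norm_num)
    · exact h
  haveI := Fact.mk hp
  haveI : Nontrivial G := Finite.one_lt_card_iff_nontrivial.1
    (hp.one_lt.trans_le (Nat.le_of_dvd Nat.card_pos hd))
  obtain ⟨q, V, hq, hV, hVne, hmin⟩ := exists_minimal_elem hs
  haveI := Fact.mk hq
  haveI := hV.nor
  haveI := hs
  have hquot : ¬ p ∣ V.index := fun hdq => hp5 (ih (Nat.card (G ⧸ V)) (Grp.card_quotient_lt hVne)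
    (hG.map (QuotientGroup.mk' V) (QuotientGroup.mk'_surjective V))
    (Group.isSolvable_of_surjective (QuotientGroup.mk'_surjective V)) hdq rfl)
  obtain rfl : q = p := by
    obtain ⟨k, hk⟩ := hV.isPGroup.exists_card_eq
    have hdV : p ∣ Nat.card V := by
      rw [← V.index_mul_card] at hd
      exact (hp.dvd_mul.1 hd).resolve_left hquot
    rw [hk] at hdV
    exact ((Nat.prime_dvd_prime_iff_eq hp hq).1 (hp.dvd_of_dvd_pow hdV)).symm
  obtain ⟨k, hk⟩ := hV.isPGroup.exists_card_eq
  obtain ⟨H, hH⟩ := Subgroup.exists_right_complement'_of_coprime (N := V)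
    (by rw [hk]; exact Nat.Coprime.pow_left _ (hq.coprime_iff_not_dvd.2 hquot))
  have hdecomp : ∀ g : G, ∃ v ∈ V, ∃ h ∈ H, g = v * h := fun g => by
    obtain ⟨⟨v, h⟩, e⟩ := hH.2 g
    exact ⟨v.1, v.2, h.1, h.2, e.symm⟩
  have hconj : ∀ g : G, ∃ h ∈ H, ∀ w ∈ V, g * w * g⁻¹ = h * w * h⁻¹ := fun g => by
    obtain ⟨v, hv, h, hh, rfl⟩ := hdecomp g
    refine ⟨h, hh, fun w hw => ?_⟩
    have := hV.comm v hv _ (hV.nor.conj_mem w hw h)
    rw [show v * h * w * (v * h)⁻¹ = v * (h * w * h⁻¹) * v⁻¹ by group, this, mul_inv_cancel_right]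
  have hHcard : Nat.card H = V.index := by
    have h1 := hH.card_mul
    rw [← V.index_mul_card, mul_comm V.index] at h1
    exact Nat.eq_of_mul_eq_mul_left Nat.card_pos h1
  -- the complement is rational
  let π : H →* G ⧸ V := (QuotientGroup.mk' V).comp H.subtype
  have hπ : Function.Bijective π := by
    refine (Nat.bijective_iff_injective_and_card π).2 ⟨?_, hHcard⟩
    rw [← MonoidHom.ker_eq_bot_iff, Subgroup.eq_bot_iff_forall]
    intro x hx
    have h1 : x.1 ∈ V := (QuotientGroup.eq_one_iff x.1).1 hx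
    have h2 : x.1 ∈ V ⊓ H := ⟨h1, x.2⟩
    rw [hH.disjoint.eq_bot, Subgroup.mem_bot] at h2
    exact Subtype.ext h2
  have hHrat : RatGroup H :=
    (hG.map (QuotientGroup.mk' V) (QuotientGroup.mk'_surjective V)).of_equiv (MulEquiv.ofBijective π hπ).symm
  haveI := EMod.nontrivial hV hVne
  set ρ := conjRepOn hV H
  obtain ⟨B, hB, hnd⟩ := exists_form ρ (irreducible_of_minimal hV hmin hconj) fun g => hHrat.exists_inv g
  have hcover : ∀ (v : EMod hV) (c : ZMod q), c ≠ 0 → ∃ h : H, ρ h v = c • v := by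
    intro v c hc
    have hcop : c.val.Coprime (orderOf (v.val hV)) := by
      refine Nat.Coprime.coprime_dvd_right (orderOf_dvd_of_pow_eq_one (hV.pow _ (v.val_mem hV))) ?_
      exact (hq.coprime_iff_not_dvd.2 fun hdc => hc (by
        rw [← ZMod.natCast_zmod_val c, (ZMod.natCast_eq_zero_iff _ _).2 hdc])).symm
    obtain ⟨g, hg⟩ := hG (v.val hV) c.val hcop
    obtain ⟨h, hh, e⟩ := hconj g
    exact ⟨⟨h, hh⟩, EMod.val_inj hV (by rw [val_conjRepOn, EMod.val_smul, ← hg, e _ (v.val_mem hV)])⟩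
  -- the covering group
  let φ : H →* (EMod hV ≃ₗ[ZMod q] EMod hV) := MonoidHom.mk'
    (fun h => LinearEquiv.ofLinear (ρ h) (ρ h⁻¹)
      (by rw [← Module.End.mul_eq_comp, ← map_mul, mul_inv_cancel, map_one]; rfl)
      (by rw [← Module.End.mul_eq_comp, ← map_mul, inv_mul_cancel, map_one]; rfl))
    fun a b => LinearEquiv.ext fun w => by
      show ρ (a * b) w = ρ a (ρ b w)
      rw [map_mul, Module.End.mul_apply]
  have h3 : (3 : ZMod q) ≠ 0 := fun e => by
    have := (ZMod.natCast_eq_zero_iff 3 q).1 (by exact_mod_cast e)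
    exact absurd (Nat.le_of_dvd (by norm_num) this) (by omega)
  have h2 : (2 : ZMod q) ≠ 0 := fun e => by
    have := (ZMod.natCast_eq_zero_iff 2 q).1 (by exact_mod_cast e)
    exact absurd (Nat.le_of_dvd (by norm_num) this) (by omega)
  have hC : Cover B φ.range := by
    refine ⟨by omega, fun v => ?_, hnd, ?_, ?_, Group.isSolvable_of_surjective φ.rangeRestrict_surjective,
      fun v c hc => ?_⟩
    · refine form_self_eq_zero hB (k := (2 : ZMod q)) (fun e => h3 (by linear_combination e)) ?_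
      exact hcover v 2 h2
    · rintro _ ⟨h, rfl⟩ v w
      exact hB h v w
    · intro hdc
      exact hquot ((hdc.trans (Subgroup.card_dvd_of_surjective _ φ.rangeRestrict_surjective)).trans
        (hHcard ▸ dvd_rfl))
    · obtain ⟨h, e⟩ := hcover v c hc
      exact ⟨φ h, ⟨h, rfl⟩, e⟩
  exact hC.false_of_rational h7 (hHrat.map φ.rangeRestrict φ.rangeRestrict_surjective)

end Cfsg.Agent.DistinctSizes
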