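import Cfsg.Agent.Lib.Block.DistinctSizes.Basic

/-!
# A rational group with a self-centralising subgroup of order four in a Sylow two-subgroup

A two-group with an element whose centraliser has order four has a cyclic subgroup of index two;
rationality then bounds its order by eight.
-/

set_option autoImplicit false

set_option linter.unusedSectionVars false

namespace Cfsg.Agent.DistinctSizes

open Subgroup

universe u

/-- a two-group with a centraliser of order four has a cyclic maximal subgroup -/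
theorem exists_cyclic_half {P : Type u} [Group P] [Finite P] (hP : IsPGroup 2 P) {x : P}
    (hx : Nat.card (centralizer ({x} : Set P)) = 4) (h8 : 8 ≤ Nat.card P) :
    ∃ w : P, 2 * orderOf w = Nat.card P := by
  induction hn : Nat.card P using Nat.strong_induction_on generalizing P with
  | _ n ih =>
  subst hn
  haveI : Fact (Nat.Prime 2) := ⟨Nat.prime_two⟩
  obtain ⟨e, he⟩ := hP.exists_card_eq
  have he3 : 3 ≤ e := by
    by_contra hlt
    have := Nat.pow_le_pow_right (show 0 < 2 by norm_num) (show e ≤ 2 by omega)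
    omega
  haveI : Nontrivial P := Finite.one_lt_card_iff_nontrivial.1 (by omega)
  have hxnc : x ∉ center P := fun hc => by
    have : centralizer ({x} : Set P) = ⊤ :=
      (Subgroup.eq_top_iff' _).2 fun g => mem_cent.2 (Subgroup.mem_center_iff.1 hc g)
    rw [this, Subgroup.card_top] at hx
    omega
  rcases (show e = 3 ∨ 4 ≤ e by omega) with rfl | he4
  · -- order eight
    by_contra hc
    push Not at hc
    have hexp : ∀ w : P, w * w = 1 := by
      intro w
      obtain ⟨i, hi, hi'⟩ := (Nat.dvd_prime_pow Nat.prime_two).1 (he ▸ orderOf_dvd_natCard w)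
      have hi1 : i ≤ 1 := by
        by_contra hlt
        rcases (show i = 2 ∨ i = 3 by omega) with rfl | rfl
        · exact hc w (by rw [hi', he]; norm_num)
        · exact hc (w ^ 2) (by rw [orderOf_pow, hi', he]; norm_num)
      rw [← pow_two, ← orderOf_dvd_iff_pow_eq_one, hi']
      exact (Nat.pow_dvd_pow 2 hi1).trans (by norm_num)
    refine hxnc (Subgroup.mem_center_iff.2 fun g => ?_)
    calc g * x = g * x * ((x * g) * (x * g)) := by rw [hexp, mul_one]
      _ = g * (x * x) * g * x * g := by group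
      _ = x * g := by rw [hexp, mul_one, hexp, one_mul]
  -- the centre has order two
  haveI := hP.center_nontrivial
  set Z := center P with hZdef
  have hZle : Z ≤ centralizer ({x} : Set P) := fun z hz => mem_cent.2 (Subgroup.mem_center_iff.1 hz x).symm
  obtain ⟨i, hi⟩ := (hP.to_subgroup Z).exists_card_eq
  have hZ2 : Nat.card Z = 2 := by
    have h1 : 1 < Nat.card Z := Finite.one_lt_card
    have h2 : Nat.card Z < 4 := by
      refine lt_of_le_of_ne (hx ▸ Subgroup.card_le_of_le hZle) fun e4 => hxnc ?_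
      show x ∈ Z
      rw [Subgroup.eq_of_le_of_card_ge hZle (by rw [hx, e4])]
      exact self_mem_cent x
    rw [hi] at h1 h2 ⊢
    have : i = 1 := by
      rcases Nat.lt_or_ge i 2 with h | h
      · rcases Nat.eq_zero_or_pos i with e0 | e0
        · rw [e0] at h1; norm_num at h1
        · omega
      · exact absurd (Nat.pow_le_pow_right (show 0 < 2 by norm_num) h) (by omega)
    rw [this, pow_one]
  set f := QuotientGroup.mk' Z
  have hf := QuotientGroup.mk'_surjective Z
  have hcardQ : 2 * Nat.card (P ⧸ Z) = Nat.card P := by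
    rw [← Z.index_mul_card, Subgroup.index_eq_card, hZ2, mul_comm]
  have hQ8 : 8 ≤ Nat.card (P ⧸ Z) := by
    have := Nat.pow_le_pow_right (show 0 < 2 by norm_num) he4
    omega
  -- the centraliser in the quotient
  have hxQ : f x ≠ 1 := fun e1 => hxnc ((QuotientGroup.eq_one_iff x).1 e1)
  set C := centralizer ({f x} : Set (P ⧸ Z))
  have hpre : Nat.card (C.comap f) ≤ 8 := by
    have hsub : ∀ g ∈ C.comap f, g * x * g⁻¹ * x⁻¹ ∈ Z := fun g hg => by
      rw [← QuotientGroup.eq_one_iff]
      show f (g * x * g⁻¹ * x⁻¹) = 1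
      have h1 : f g * f x = f x * f g := mem_cent.1 hg
      rw [map_mul, map_mul, map_mul, map_inv, map_inv, h1]
      group
    let Cx := centralizer ({x} : Set P)
    have hx' : Nat.card Cx = 4 := hx
    have hfib : ∀ g g' : P, g * x * g⁻¹ = g' * x * g'⁻¹ → g⁻¹ * g' ∈ Cx := fun g g' e => by
      refine mem_cent.2 ?_
      calc g⁻¹ * g' * x = g⁻¹ * (g' * x * g'⁻¹) * g' := by group
        _ = x * (g⁻¹ * g') := by rw [← e]; group
    by_cases hout : ∃ g₀ ∈ C.comap f, g₀ ∉ Cx
    · obtain ⟨g₀, hg₀, hg₀C⟩ := hout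
      have hz0 : g₀ * x * g₀⁻¹ * x⁻¹ ≠ 1 := fun e1 => hg₀C (mem_cent.2 (by
        rw [mul_inv_eq_one, mul_inv_eq_iff_eq_mul] at e1
        exact e1))
      have hsurj : ∀ g ∈ C.comap f, g ∈ Cx ∨ g₀⁻¹ * g ∈ Cx := by
        intro g hg
        by_cases hgC : g ∈ Cx
        · exact Or.inl hgC
        refine Or.inr (hfib g₀ g ?_)
        have hz : g * x * g⁻¹ * x⁻¹ ≠ 1 := fun e1 => hgC (mem_cent.2 (by
          rw [mul_inv_eq_one, mul_inv_eq_iff_eq_mul] at e1
          exact e1))
        haveI : Fintype Z := Fintype.ofFinite Z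
        have huniq : ∀ a b : Z, a ≠ 1 → b ≠ 1 → a = b := by
          intro a b ha hb
          by_contra hab
          have := Fintype.two_lt_card_iff.2 ⟨1, a, b, Ne.symm ha, Ne.symm hb, hab⟩
          rw [← Nat.card_eq_fintype_card, hZ2] at this
          omega
        exact mul_right_cancel (congrArg Subtype.val (huniq ⟨_, hsub g₀ hg₀⟩ ⟨_, hsub g hg⟩
          (fun e1 => hz0 (congrArg Subtype.val e1)) fun e1 => hz (congrArg Subtype.val e1)))
      classical
      let F : ↥(Subgroup.comap f C) → Cx ⊕ Cx := fun g =>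
        if hg : g.1 ∈ Cx then Sum.inl ⟨g.1, hg⟩ else Sum.inr ⟨g₀⁻¹ * g.1, (hsurj g.1 g.2).resolve_left hg⟩
      have hF : Function.Injective F := by
        intro a b e'
        simp only [F] at e'
        split_ifs at e' with ha hb hb
        · simp only [Sum.inl.injEq, Subtype.mk.injEq] at e'
          exact Subtype.ext e'
        · simp only [Sum.inr.injEq, Subtype.mk.injEq] at e'
          exact Subtype.ext (mul_left_cancel e')
      have := Nat.card_le_card_of_injective F hF
      rwa [Nat.card_sum, hx] at this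
    · push Not at hout
      have := Subgroup.card_le_of_le (show C.comap f ≤ Cx from hout)
      omega
  have hC4 : Nat.card C = 4 := by
    have h1 : Nat.card (C.comap f) = 2 * Nat.card C := by
      have h2 := (C.comap f).index_mul_card
      rw [Subgroup.index_comap_of_surjective _ hf] at h2
      have h3 := C.index_mul_card
      have h4 : C.index ≠ 0 := Subgroup.index_ne_zero_of_finite
      apply Nat.eq_of_mul_eq_mul_left (Nat.pos_of_ne_zero h4)
      rw [h2, mul_left_comm, h3, hcardQ]
    obtain ⟨k, hk⟩ := ((hP.to_quotient Z).to_subgroup C).exists_card_eq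
    have hk2 : k ≤ 2 := by
      by_contra h3
      have := Nat.pow_le_pow_right (show 0 < 2 by norm_num) (show 3 ≤ k by omega)
      omega
    rcases (show k ≤ 1 ∨ k = 2 by omega) with hk1 | rfl
    · exfalso
      have hle2 : Nat.card C ≤ 2 := hk ▸ Nat.pow_le_pow_right (show 0 < 2 by norm_num) hk1
      haveI : Nontrivial (P ⧸ Z) := Finite.one_lt_card_iff_nontrivial.1 (by omega)
      haveI := (hP.to_quotient Z).center_nontrivial
      obtain ⟨c, hc⟩ := exists_ne (1 : center (P ⧸ Z))
      have hcC : c.1 ∈ C := mem_cent.2 (Subgroup.mem_center_iff.1 c.2 (f x)).symm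
      by_cases hcx : c.1 = f x
      · have : C = ⊤ := (Subgroup.eq_top_iff' _).2 fun g =>
          mem_cent.2 (by rw [← hcx]; exact Subgroup.mem_center_iff.1 c.2 g)
        rw [this, Subgroup.card_top] at hle2
        omega
      · haveI : Fintype C := Fintype.ofFinite C
        have h3 : 2 < Fintype.card C := Fintype.two_lt_card_iff.2 ⟨1, ⟨c.1, hcC⟩, ⟨f x, self_mem_cent _⟩,
          fun e1 => hc (Subtype.ext (congrArg Subtype.val e1).symm),
          fun e1 => hxQ (congrArg Subtype.val e1).symm, fun e1 => hcx (congrArg Subtype.val e1)⟩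
        rw [← Nat.card_eq_fintype_card] at h3
        omega
    · exact hk
  obtain ⟨wb, hwb⟩ := ih (Nat.card (P ⧸ Z)) (by omega) (hP.to_quotient Z) hC4 hQ8 rfl
  obtain ⟨w, rfl⟩ := hf wb
  set m := orderOf (f w) with hm
  -- the preimage of the cyclic subgroup
  set M := (zpowers (f w)).comap f with hM
  have hMdec : ∀ g ∈ M, ∃ k : ℤ, ∃ z ∈ Z, g = w ^ k * z := by
    intro g hg
    obtain ⟨k, hk⟩ := mem_zpowers_iff.1 (show f g ∈ zpowers (f w) from hg)
    exact ⟨k, (w ^ k)⁻¹ * g, QuotientGroup.eq.1 (by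
      show f (w ^ k) = f g
      rw [map_zpow, hk]), by group⟩
  have hwM : w ∈ M := mem_zpowers (f w)
  have hMcomm : ∀ g ∈ M, g * w = w * g := by
    intro g hg
    obtain ⟨k, z, hz, rfl⟩ := hMdec g hg
    rw [mul_assoc, ← Subgroup.mem_center_iff.1 hz w, ← mul_assoc, ← mul_assoc, (Commute.refl w).zpow_left k |>.eq]
  have hMidx : M.index = 2 := by
    rw [hM, Subgroup.index_comap_of_surjective _ hf]
    have h1 := (zpowers (f w)).index_mul_card
    rw [Nat.card_zpowers, ← hwb, ← hm] at h1
    exact Nat.eq_of_mul_eq_mul_right (orderOf_pos _) h1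
  have hxM : x ∉ M := by
    intro hxM
    have hle : M ≤ centralizer ({x} : Set P) := fun g hg => by
      obtain ⟨k, z, hz, rfl⟩ := hMdec g hg
      refine mem_cent.2 (Commute.mul_left ?_ (Subgroup.mem_center_iff.1 hz x).symm).eq
      exact (show Commute w x from (hMcomm x hxM).symm).zpow_left k
    have h1 := Subgroup.card_le_of_le hle
    have h2 := M.index_mul_card
    rw [hMidx] at h2
    omega
  have hMC : M ⊓ centralizer ({x} : Set P) = Z := by
    refine (Subgroup.eq_of_le_of_card_ge (le_inf (fun z hz => ?_) hZle) ?_).symm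
    · show f z ∈ zpowers (f w)
      rw [show f z = 1 from (QuotientGroup.eq_one_iff z).2 hz]
      exact one_mem _
    · rw [hZ2]
      by_contra h3
      have h4 := Subgroup.card_dvd_of_le (inf_le_right : M ⊓ centralizer ({x} : Set P) ≤ _)
      have h5 := Nat.le_of_dvd (by omega) h4
      rw [hx] at h4 h5
      have h6 : Nat.card (M ⊓ centralizer ({x} : Set P) : Subgroup P) = 4 := by
        interval_cases hh : Nat.card (M ⊓ centralizer ({x} : Set P) : Subgroup P) <;> omega
      have h7 := Subgroup.eq_of_le_of_card_ge (inf_le_right : M ⊓ centralizer ({x} : Set P) ≤ _)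
        (by rw [hx, h6])
      exact hxM (h7.ge (self_mem_cent x)).1
  have hm0 : 4 ≤ m := by omega
  refine ⟨w, ?_⟩
  by_contra hne
  -- otherwise `w` has order `m`, and its involution is a second one fixed by `x`
  have hwm : w ^ m = 1 := by
    by_contra h1
    apply hne
    have hz : w ^ m ∈ Z := (QuotientGroup.eq_one_iff _).1 (by
      show f (w ^ m) = 1
      rw [map_pow]; exact pow_orderOf_eq_one _)
    have hz2 : (w ^ m) ^ 2 = 1 := by
      have h2 := pow_card_eq_one' (x := (⟨_, hz⟩ : Z))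
      rw [hZ2] at h2
      exact congrArg Subtype.val h2
    obtain ⟨c, hc⟩ := orderOf_map_dvd f w
    have h2 : orderOf w ∣ m * 2 := orderOf_dvd_of_pow_eq_one (by rw [pow_mul, hz2])
    rw [hc, ← hm] at h2
    have hc2 : c ∣ 2 := Nat.dvd_of_mul_dvd_mul_left (by omega) h2
    rcases (Nat.dvd_prime Nat.prime_two).1 hc2 with rfl | rfl
    · rw [← hm, mul_one] at hc
      exact absurd (hc ▸ pow_orderOf_eq_one w) h1
    · rw [← hm] at hc
      omega
  obtain ⟨i, -, hi'⟩ := (Nat.dvd_prime_pow Nat.prime_two).1 (he ▸ (hm ▸ (orderOf_dvd_natCard (f w)).trans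
    (Subgroup.card_quotient_dvd_card Z) : m ∣ Nat.card P))
  have hmeven : m = 2 * (m / 2) := by
    have h2 : 2 ∣ m := by
      rw [hi']; exact dvd_pow_self 2 fun e0 => by rw [e0] at hi'; norm_num at hi'; omega
    omega
  have h4m : 2 ∣ m / 2 := by
    rcases (show i ≤ 1 ∨ 2 ≤ i by omega) with h1 | h1
    · exfalso
      have := Nat.pow_le_pow_right (show 0 < 2 by norm_num) h1
      omega
    · obtain ⟨k, rfl⟩ := Nat.exists_eq_add_of_le h1
      rw [hi', pow_add]
      exact ⟨2 ^ k, by omega⟩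
  set t := w ^ (m / 2) with ht
  have htM : t ∈ M := M.pow_mem hwM _
  have htC : x * t * x⁻¹ = t := by
    have hxw : x * w * x⁻¹ ∈ M := (Subgroup.normal_of_index_eq_two hMidx).conj_mem w hwM x
    obtain ⟨k, z, hz, e1⟩ := hMdec _ hxw
    obtain ⟨d, hd⟩ := h4m
    have hzd : z ^ (m / 2) = 1 := by
      have h2 := pow_card_eq_one' (x := (⟨z, hz⟩ : Z))
      rw [hZ2] at h2
      rw [hd, pow_mul, congrArg Subtype.val h2 |> fun h => (show z ^ 2 = 1 from h), one_pow]
    rw [ht, ← conj_pow, e1, (show Commute (w ^ k) z from Subgroup.mem_center_iff.1 hz (w ^ k)).mul_pow, hzd, mul_one]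
    -- `k` is odd
    have hkodd : (w ^ k) ^ (m / 2) = w ^ (m / 2) := by
      rcases Int.even_or_odd k with ⟨l, rfl⟩ | ⟨l, rfl⟩
      · exfalso
        have h3 : (x * w * x⁻¹) ^ (m / 2) = 1 := by
          rw [e1, (show Commute (w ^ (l + l)) z from Subgroup.mem_center_iff.1 hz _).mul_pow, hzd, mul_one,
            ← zpow_natCast, ← zpow_mul, show (l + l) * ((m / 2 : ℕ) : ℤ) = (m : ℤ) * l by
              conv_rhs => rw [hmeven]
              push_cast; ring, zpow_mul, zpow_natCast, hwm, one_zpow]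
        rw [conj_pow, conj_eq_one_iff] at h3
        have h4 : f w ^ (m / 2) = 1 := by rw [← map_pow, h3, map_one]
        exact absurd (Nat.le_of_dvd (by omega) (orderOf_dvd_of_pow_eq_one h4)) (by omega)
      · rw [← zpow_natCast, ← zpow_mul, show (2 * l + 1) * ((m / 2 : ℕ) : ℤ) = (m : ℤ) * l + (m / 2 : ℕ) by
            conv_rhs => arg 1; rw [hmeven]
            push_cast; ring, zpow_add, zpow_mul, zpow_natCast, hwm, one_zpow, one_mul, zpow_natCast]
    exact hkodd
  have htZ : t ∈ Z := hMC ▸ ⟨htM, mem_cent.2 (mul_inv_eq_iff_eq_mul.1 htC).symm⟩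
  have h5 : f w ^ (m / 2) = 1 := by
    rw [← map_pow]; exact (QuotientGroup.eq_one_iff _).2 htZ
  exact absurd (Nat.le_of_dvd (by omega) (orderOf_dvd_of_pow_eq_one h5)) (by omega)

/-- in a rational group a cyclic subgroup of index two in a Sylow two-subgroup is small -/
theorem RatGroup.order_le_four {G : Type u} [Group G] [Finite G] (hG : RatGroup G) {n : ℕ} (hn : 1 ≤ n)
    {w : G} (hw : orderOf w = 2 ^ n) (hmax : ∀ k, 2 ^ k ∣ Nat.card G → k ≤ n + 1) : n ≤ 2 := by
  classical
  set A : Subgroup G :=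
    { carrier := {g | g * w * g⁻¹ ∈ zpowers w ∧ g⁻¹ * w * g ∈ zpowers w}
      one_mem' := by simp
      mul_mem' := by
        intro a b ha hb
        obtain ⟨i, hi⟩ := mem_zpowers_iff.1 hb.1
        obtain ⟨j, hj⟩ := mem_zpowers_iff.1 ha.2
        refine ⟨?_, ?_⟩
        · rw [show a * b * w * (a * b)⁻¹ = a * (b * w * b⁻¹) * a⁻¹ by group, ← hi, ← conj_zpow]
          exact zpow_mem ha.1 i
        · have e : ∀ c : G, b⁻¹ * c * b = b⁻¹ * c * b⁻¹⁻¹ := fun c => by rw [inv_inv]
          rw [show (a * b)⁻¹ * w * (a * b) = b⁻¹ * (a⁻¹ * w * a) * b by group, ← hj, e, ← conj_zpow, inv_inv]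
          exact zpow_mem hb.2 j
      inv_mem' := fun {a} ha => by
        refine ⟨?_, ?_⟩
        · rw [inv_inv]; exact ha.2
        · rw [inv_inv]; exact ha.1 }
  set C := centralizer ({w} : Set G)
  have hCA : C ≤ A := fun g hg => by
    have e := mem_cent.1 hg
    refine ⟨?_, ?_⟩
    · rw [e, mul_inv_cancel_right]; exact mem_zpowers w
    · rw [mul_assoc, ← e, inv_mul_cancel_left]; exact mem_zpowers w
  have hodd : ∀ i : Fin (2 ^ (n - 1)), (2 * (i : ℕ) + 1).Coprime (orderOf w) := fun i => by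
    rw [hw]; exact Nat.Coprime.pow_right _ (Nat.coprime_two_right.2 ⟨i, rfl⟩)
  choose g hg using fun i => hG w _ (hodd i)
  have hgA : ∀ i, g i ∈ A := fun i => by
    refine ⟨by rw [hg i]; exact Subgroup.npow_mem_zpowers _ _, ?_⟩
    have h1 : w ∈ zpowers (w ^ (2 * (i : ℕ) + 1)) := by
      obtain ⟨k, hk⟩ := exists_pow_eq_self_of_coprime (hodd i)
      rw [mem_zpowers_iff]
      exact ⟨k, by rw [zpow_natCast, hk]⟩
    obtain ⟨k, hk⟩ := mem_zpowers_iff.1 h1
    rw [← hg i, conj_zpow] at hk
    refine mem_zpowers_iff.2 ⟨k, ?_⟩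
    calc w ^ k = (g i)⁻¹ * (g i * w ^ k * (g i)⁻¹) * g i := by group
      _ = (g i)⁻¹ * w * g i := by rw [hk]
  let q : Fin (2 ^ (n - 1)) → A ⧸ C.subgroupOf A := fun i => QuotientGroup.mk ⟨g i, hgA i⟩
  have hn2 : 2 ^ n = 2 * 2 ^ (n - 1) := by rw [← pow_succ']; congr 1; omega
  have hq : Function.Bijective q := by
    constructor
    · intro i j e
      have h1 : (g i)⁻¹ * g j ∈ C :=
        (QuotientGroup.eq (s := C.subgroupOf A) (a := ⟨g i, hgA i⟩) (b := ⟨g j, hgA j⟩)).1 e
      have h2 : g i * w * (g i)⁻¹ = g j * w * (g j)⁻¹ := by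
        calc g i * w * (g i)⁻¹ = g i * (w * ((g i)⁻¹ * g j)) * (g j)⁻¹ := by group
          _ = g j * w * (g j)⁻¹ := by rw [← mem_cent.1 h1]; group
      rw [hg, hg, pow_eq_pow_iff_modEq, hw, Nat.ModEq] at h2
      have hi := i.2
      have hj := j.2
      rw [Nat.mod_eq_of_lt (by omega), Nat.mod_eq_of_lt (by omega)] at h2
      exact Fin.ext (by omega)
    · intro c
      obtain ⟨a, rfl⟩ := QuotientGroup.mk_surjective c
      have h1 := a.2.1
      rw [← mem_powers_iff_mem_zpowers, Submonoid.mem_powers_iff] at h1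
      obtain ⟨s, hs⟩ := h1
      have hs' : w ^ (s % 2 ^ n) = a.1 * w * a.1⁻¹ := by rw [← hw, pow_mod_orderOf, hs]
      have hlt : s % 2 ^ n < 2 ^ n := Nat.mod_lt _ (by positivity)
      have hoddS : ¬ 2 ∣ s % 2 ^ n := by
        intro hev
        have h2 : orderOf (w ^ (s % 2 ^ n)) = 2 ^ n := by
          rw [hs', ← hw]; exact (SemiconjBy.orderOf_eq a.1 (x := w) (by simp [SemiconjBy])).symm
        obtain ⟨d, hd⟩ := hev
        have h3 : (w ^ (s % 2 ^ n)) ^ 2 ^ (n - 1) = 1 := by
          rw [← pow_mul, hd, mul_right_comm, ← hn2, pow_mul, ← hw, pow_orderOf_eq_one, one_pow]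
        have h4 := Nat.le_of_dvd (by positivity) (orderOf_dvd_of_pow_eq_one h3)
        rw [h2] at h4
        have := Nat.pow_pos (n := n - 1) (show 0 < 2 by norm_num)
        omega
      refine ⟨⟨(s % 2 ^ n) / 2, by omega⟩, ?_⟩
      refine QuotientGroup.eq.2 (mem_cent.2 ?_)
      show (g _)⁻¹ * a.1 * w = w * ((g _)⁻¹ * a.1)
      set i : Fin (2 ^ (n - 1)) := ⟨(s % 2 ^ n) / 2, by omega⟩
      have h5 : g i * w * (g i)⁻¹ = a.1 * w * a.1⁻¹ := by
        rw [hg, ← hs']
        congr 1
        show 2 * (s % 2 ^ n / 2) + 1 = _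
        omega
      calc (g i)⁻¹ * a.1 * w = (g i)⁻¹ * (a.1 * w * a.1⁻¹) * a.1 := by group
        _ = w * ((g i)⁻¹ * a.1) := by rw [← h5]; group
  have hcA := (C.subgroupOf A).index_mul_card
  rw [Subgroup.index_eq_card, ← Nat.card_eq_of_bijective q hq, Nat.card_fin,
    Nat.card_congr (Subgroup.subgroupOfEquivOfLe hCA).toEquiv] at hcA
  have hdvd : 2 ^ (n - 1) * 2 ^ n ∣ Nat.card G := by
    refine dvd_trans ?_ A.card_subgroup_dvd_card
    rw [← hcA]
    exact Nat.mul_dvd_mul_left _ (hw ▸ orderOf_dvd_card_cent w)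
  rw [← pow_add] at hdvd
  have := hmax _ hdvd
  omega

end Cfsg.Agent.DistinctSizes
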