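import Cfsg.Agent.Lib.Block.DistinctSizes.FiveSquare
import Cfsg.Agent.Lib.Block.DistinctSizes.MaxClass
import Cfsg.Agent.Lib.Block.DistinctSizes.Count

/-!
# Solvable groups with distinct class sizes

The class equation leaves room only for a centraliser of order two, and then the group is the
symmetric group of degree three.
-/

set_option autoImplicit false

set_option linter.unusedSectionVars false

namespace Cfsg.Agent.DistinctSizes

open Subgroup

universe u

variable {G : Type u} [Group G] [Finite G]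

theorem card_cent_one : Nat.card (centralizer ({(1 : G)} : Set G)) = Nat.card G := by
  rw [show centralizer ({(1 : G)} : Set G) = ⊤ from
    (Subgroup.eq_top_iff' _).2 fun g => mem_cent.2 (by rw [mul_one, one_mul]), Subgroup.card_top]

theorem cent_ne_one [Nontrivial G] (x : G) : Nat.card (centralizer ({x} : Set G)) ≠ 1 := by
  intro e
  have hbot := Subgroup.card_eq_one.1 e
  have hx : x = 1 := by
    have := self_mem_cent x
    rwa [hbot, mem_bot] at this
  rw [hx, card_cent_one] at e
  have := Finite.one_lt_card (α := G)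
  omega

/-- an element centralised only by a subgroup of prime order generates a Sylow subgroup -/
theorem sylow_card_of_cent_prime {p : ℕ} [Fact p.Prime] {x : G} (hx1 : x ≠ 1)
    (hx : Nat.card (centralizer ({x} : Set G)) = p) (P : Sylow p G) : Nat.card (P : Subgroup G) = p := by
  set C := centralizer ({x} : Set G)
  have hC : IsPGroup p C := IsPGroup.of_card (n := 1) (by rw [hx, pow_one])
  obtain ⟨Q, hQ⟩ := hC.exists_le_sylow
  rw [P.card_eq_multiplicity, ← Q.card_eq_multiplicity]
  haveI : Nontrivial (Q : Subgroup G) :=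
    ⟨⟨⟨x, hQ (self_mem_cent x)⟩, 1, fun e => hx1 (congrArg Subtype.val e)⟩⟩
  haveI := Q.2.center_nontrivial
  set Z := (center (Q : Subgroup G)).map (Q : Subgroup G).subtype
  have hZ : Z ≤ C := by
    rintro _ ⟨z, hz, rfl⟩
    exact mem_cent.2 (congrArg Subtype.val (Subgroup.mem_center_iff.1 hz ⟨x, hQ (self_mem_cent x)⟩)).symm
  have hZ1 : 1 < Nat.card Z := by
    rw [Subgroup.card_map_of_injective (Q : Subgroup G).subtype_injective]
    exact Finite.one_lt_card
  have hd := Subgroup.card_dvd_of_le hZ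
  rw [hx] at hd
  have hZC : Z = C := Subgroup.eq_of_le_of_card_ge hZ (by
    rw [hx, ((Fact.out : p.Prime).eq_one_or_self_of_dvd _ hd).resolve_left (by omega)])
  have hQC : (Q : Subgroup G) ≤ C := fun g hg => by
    obtain ⟨z, hz, hzx⟩ : x ∈ Z := by rw [hZC]; exact self_mem_cent x
    refine mem_cent.2 ?_
    rw [← hzx]
    exact congrArg Subtype.val (Subgroup.mem_center_iff.1 hz ⟨g, hg⟩)
  rw [le_antisymm hQC hQ, hx]

/-- the subgroup of index two -/
theorem two_dvd_card [Nontrivial G] (hD : Distinct G) (hs : Group.IsSolvable G) : 2 ∣ Nat.card G := by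
  haveI := hs
  obtain ⟨N, -, hN⟩ := hD.ratGroup.exists_index_two
  exact hN ▸ Subgroup.index_dvd_card N

/-- a centraliser of order two occurs only in the symmetric group of degree three -/
theorem sym_three_of_two [Nontrivial G] (hD : Distinct G) (hs : Group.IsSolvable G)
    {x : G} (hx : Nat.card (centralizer ({x} : Set G)) = 2) : Nonempty (G ≃* Equiv.Perm (Fin 3)) := by
  classical
  haveI := hs
  haveI : Fact (Nat.Prime 2) := ⟨Nat.prime_two⟩
  set C := centralizer ({x} : Set G)
  have hx1 : x ≠ 1 := by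
    rintro rfl
    rw [card_cent_one] at hx
    obtain ⟨g, hg⟩ := exists_ne (1 : G)
    obtain ⟨c, hc⟩ := hD 1 g (by
      rw [card_cent_one, hx]
      have h1 := Subgroup.card_subgroup_dvd_card (centralizer ({g} : Set G))
      rw [hx] at h1
      exact (((Nat.prime_two.eq_one_or_self_of_dvd _ h1).resolve_left (cent_ne_one g))).symm)
    rw [mul_one, mul_inv_cancel] at hc
    exact hg hc.symm
  have hox : orderOf x = 2 :=
    (Nat.prime_two.eq_one_or_self_of_dvd _ (hx ▸ orderOf_dvd_card_cent x)).resolve_left fun e =>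
      hx1 (orderOf_eq_one_iff.1 e)
  have hxinv : x⁻¹ = x := inv_eq_of_mul_eq_one_right (by rw [← pow_two, ← hox, pow_orderOf_eq_one])
  have hCmem : ∀ g, g * x = x * g → g = 1 ∨ g = x := fun g hg => by
    have h1 : zpowers x = C := Subgroup.eq_of_le_of_card_ge (zpowers_le.2 (self_mem_cent x))
      (by rw [hx, Nat.card_zpowers, hox])
    have h2 : g ∈ zpowers x := h1 ▸ mem_cent.2 hg
    rw [← mem_powers_iff_mem_zpowers, Submonoid.mem_powers_iff] at h2
    obtain ⟨n, rfl⟩ := h2
    rw [← pow_mod_orderOf, hox]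
    rcases Nat.mod_two_eq_zero_or_one n with e | e <;> rw [e] <;> simp
  obtain ⟨N, hNn, hN⟩ := hD.ratGroup.exists_index_two
  obtain ⟨P⟩ : Nonempty (Sylow 2 G) := inferInstance
  have hNodd : ¬ 2 ∣ Nat.card N := by
    intro hd
    have h1 : 2 ^ 2 ∣ Nat.card G := by
      rw [← N.index_mul_card, hN, pow_two]; exact Nat.mul_dvd_mul_left 2 hd
    have h2 := P.card_eq_multiplicity
    rw [sylow_card_of_cent_prime hx1 hx P] at h2
    have h3 := (Nat.prime_two.pow_dvd_iff_le_factorization Nat.card_pos.ne').1 h1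
    have h4 := Nat.pow_le_pow_right (show 0 < 2 by norm_num) h3
    omega
  have hxN : x ∉ N := fun h => hNodd (hox ▸ Subgroup.orderOf_dvd_natCard N h)
  -- `x` inverts `N`
  have hinv : ∀ a ∈ N, x * a * x = a⁻¹ := by
    let φ : N → N := fun n => ⟨(n : G)⁻¹ * (x * n * x), N.mul_mem (N.inv_mem n.2) (by
      have := hNn.conj_mem n.1 n.2 x
      rwa [hxinv] at this)⟩
    have hφ : Function.Injective φ := by
      intro m n e
      have e1 : (m : G)⁻¹ * x * m = (n : G)⁻¹ * x * n := by
        have := congrArg (fun t : N => (t : G) * x⁻¹) e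
        simpa [φ, mul_assoc] using this
      have e2 : (n : G) * (m : G)⁻¹ * x = x * ((n : G) * (m : G)⁻¹) := by
        calc (n : G) * (m : G)⁻¹ * x = n * ((m : G)⁻¹ * x * m) * (m : G)⁻¹ := by group
          _ = x * ((n : G) * (m : G)⁻¹) := by rw [e1]; group
      rcases hCmem _ e2 with e3 | e3
      · exact (Subtype.ext (mul_inv_eq_one.1 e3)).symm
      · exact absurd (e3 ▸ N.mul_mem n.2 (N.inv_mem m.2)) hxN
    intro a ha
    obtain ⟨n, hn⟩ := (Finite.injective_iff_surjective.1 hφ) ⟨a, ha⟩
    have hn' : (n : G)⁻¹ * (x * n * x) = a := congrArg Subtype.val hn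
    rw [← hn']
    calc x * ((n : G)⁻¹ * (x * n * x)) * x = x⁻¹ * (n : G)⁻¹ * x⁻¹ * n * (x * x) := by rw [hxinv]; group
      _ = ((n : G)⁻¹ * (x * n * x))⁻¹ := by
        rw [show x * x = 1 by rw [← pow_two, ← hox, pow_orderOf_eq_one], mul_one]; group
  have hNab : ∀ a ∈ N, ∀ b ∈ N, a * b = b * a := by
    intro a ha b hb
    have h1 := hinv _ (N.mul_mem ha hb)
    have h2 : x * (a * b) * x = a⁻¹ * b⁻¹ := by
      rw [← hinv a ha, ← hinv b hb]
      calc x * (a * b) * x = x * a * (x * x) * b * x := by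
            rw [show x * x = 1 by rw [← pow_two, ← hox, pow_orderOf_eq_one], mul_one]; group
        _ = x * a * x * (x * b * x) := by group
    rw [h2, mul_inv_rev] at h1
    calc a * b = a * b * (a⁻¹ * b⁻¹) * (b * a) := by group
      _ = b * a := by rw [h1]; group
  have hout : ∀ g, g ∉ N → ∃ n ∈ N, g = x * n := fun g hg =>
    ⟨x * g, (mul_mem_iff_of_index_two hN).2 (iff_of_false hxN hg), by
      rw [← mul_assoc, ← pow_two, ← hox, pow_orderOf_eq_one, one_mul]⟩
  have hcentN : ∀ a ∈ N, a ≠ 1 → centralizer ({a} : Set G) = N := by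
    intro a ha ha1
    ext g
    rw [mem_cent]
    refine ⟨fun hg => ?_, fun hg => hNab g hg a ha⟩
    by_contra hgN
    obtain ⟨n, hn, rfl⟩ := hout g hgN
    have h1 : a⁻¹ = a := by
      rw [← hinv a ha]
      calc x * a * x = x * (n * a * n⁻¹) * x := by rw [hNab n hn a ha, mul_inv_cancel_right]
        _ = x * n * a * (x * n)⁻¹ := by rw [mul_inv_rev, hxinv]; group
        _ = a := by rw [hg, mul_inv_cancel_right]
    have h2 : a ^ 2 = 1 := by rw [pow_two]; nth_rw 1 [← h1]; exact inv_mul_cancel a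
    have h3 := orderOf_dvd_of_pow_eq_one h2
    rcases (Nat.dvd_prime Nat.prime_two).1 h3 with e | e
    · exact ha1 (orderOf_eq_one_iff.1 e)
    · exact hNodd (e ▸ Subgroup.orderOf_dvd_natCard N ha)
  have hNne : N ≠ ⊥ := by
    intro e
    have h1 : Nat.card G = 2 := by rw [← N.index_mul_card, hN, e, Subgroup.card_bot]
    obtain ⟨c, hc⟩ := hD 1 x (by rw [card_cent_one, hx, h1])
    rw [mul_one, mul_inv_cancel] at hc
    exact hx1 hc.symm
  obtain ⟨a, ha, ha1⟩ : ∃ a ∈ N, a ≠ 1 := by
    by_contra hc; push Not at hc; exact hNne ((Subgroup.eq_bot_iff_forall _).2 hc)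
  have hN3 : ∀ b ∈ N, b = 1 ∨ b = a ∨ b = a⁻¹ := by
    intro b hb
    by_cases hb1 : b = 1
    · exact Or.inl hb1
    obtain ⟨g, rfl⟩ := hD a b (by rw [hcentN a ha ha1, hcentN b hb hb1])
    refine Or.inr ?_
    by_cases hg : g ∈ N
    · exact Or.inl (by rw [hNab g hg a ha, mul_inv_cancel_right])
    · obtain ⟨n, hn, rfl⟩ := hout g hg
      refine Or.inr ?_
      rw [← hinv a ha]
      calc x * n * a * (x * n)⁻¹ = x * (n * a * n⁻¹) * x⁻¹ := by group
        _ = x * a * x := by rw [hNab n hn a ha, mul_inv_cancel_right, hxinv]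
  have hcard6 : Nat.card G = 6 := by
    have h3 : Nat.card N ≤ 3 := by
      rw [← SetLike.coe_sort_coe, Nat.card_coe_set_eq]
      refine (Set.ncard_le_ncard (t := ({1, a, a⁻¹} : Set G)) (fun b hb => ?_) (Set.toFinite _)).trans ?_
      · simpa using hN3 b hb
      · exact (Set.ncard_insert_le _ _).trans (Nat.succ_le_succ ((Set.ncard_insert_le _ _).trans
          (Nat.succ_le_succ (Set.ncard_singleton _).le)))
    have h1 : 1 < Nat.card N := (Subgroup.one_lt_card_iff_ne_bot N).2 hNne
    have : Nat.card N = 3 := by omega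
    rw [← N.index_mul_card, hN, this]
  have hxn : ¬ ∀ g : G, g * x * g⁻¹ ∈ zpowers x := by
    intro hall
    have h1 := hall a
    rw [← mem_powers_iff_mem_zpowers, Submonoid.mem_powers_iff] at h1
    obtain ⟨n, hn⟩ := h1
    rw [← pow_mod_orderOf, hox] at hn
    rcases Nat.mod_two_eq_zero_or_one n with e | e
    · rw [e, pow_zero] at hn
      exact hx1 (conj_eq_one_iff.1 hn.symm)
    · rw [e, pow_one] at hn
      rcases hCmem a (mul_inv_eq_iff_eq_mul.1 hn.symm) with h | h
      · exact ha1 h
      · exact hxN (h ▸ ha)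
  let ψ := MulAction.toPermHom G (G ⧸ zpowers x)
  have hidx : Nat.card (G ⧸ zpowers x) = 3 := by
    have h1 := (zpowers x).index_mul_card
    rw [Subgroup.index_eq_card, Nat.card_zpowers, hox, hcard6] at h1
    omega
  have hψ : Function.Injective ψ := by
    rw [← MonoidHom.ker_eq_bot_iff, ← Subgroup.normalCore_eq_ker]
    by_contra hne
    have hd := Subgroup.card_dvd_of_le (zpowers x).normalCore_le
    rw [Nat.card_zpowers, hox] at hd
    have h2 : Nat.card (zpowers x).normalCore = 2 :=
      (Nat.prime_two.eq_one_or_self_of_dvd _ hd).resolve_left fun e => hne (Subgroup.card_eq_one.1 e)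
    have h3 := Subgroup.eq_of_le_of_card_ge (zpowers x).normalCore_le (by rw [Nat.card_zpowers, hox, h2])
    refine hxn fun g => ?_
    rw [← h3]
    exact (zpowers x).normalCore_normal.conj_mem x (by rw [h3]; exact mem_zpowers x) g
  have hbij : Function.Bijective ψ :=
    (Nat.bijective_iff_injective_and_card ψ).2 ⟨hψ, by rw [hcard6, Nat.card_perm, hidx]; rfl⟩
  exact ⟨(MulEquiv.ofBijective ψ hbij).trans (Equiv.permCongrHom (Finite.equivFinOfCardEq hidx))⟩

/-- no centraliser of order three -/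
theorem three_not_mem [Nontrivial G] (hD : Distinct G) (hs : Group.IsSolvable G)
    (h2 : 2 ∉ centOrders G) : 3 ∉ centOrders G := by
  classical
  intro h3
  obtain ⟨x, hx⟩ := mem_centOrders.1 h3
  haveI : Fact (Nat.Prime 3) := ⟨Nat.prime_three⟩
  have hG := hD.ratGroup
  have hsum := sum_inv_centOrders hD
  have h1S : 1 ∉ centOrders G := fun h => by
    obtain ⟨g, hg⟩ := mem_centOrders.1 h
    exact cent_ne_one g hg
  have hd2 := two_dvd_card hD hs
  have hd3 : 3 ∣ Nat.card G := hx ▸ Subgroup.card_subgroup_dvd_card _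
  by_cases h6 : Nat.card G = 6
  · have hsub : centOrders G ⊆ {3, 6} := fun c hc => by
      have hd := dvd_of_mem_centOrders hc
      rw [h6] at hd
      have := Nat.le_of_dvd (by norm_num) hd
      have := pos_of_mem_centOrders hc
      rw [Finset.mem_insert, Finset.mem_singleton]
      interval_cases c <;> first | omega | exact absurd hc h1S | exact absurd hc h2
    have := Finset.sum_le_sum_of_subset_of_nonneg (f := fun c : ℕ => (1 : ℚ) / c) hsub fun i _ _ => by positivity
    rw [hsum, Finset.sum_pair (by norm_num)] at this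
    norm_num at this
  have hx1 : x ≠ 1 := by
    rintro rfl
    rw [card_cent_one] at hx
    omega
  have hox : orderOf x = 3 :=
    (Nat.prime_three.eq_one_or_self_of_dvd _ (hx ▸ orderOf_dvd_card_cent x)).resolve_left fun e =>
      hx1 (orderOf_eq_one_iff.1 e)
  have hCx : zpowers x = centralizer ({x} : Set G) :=
    Subgroup.eq_of_le_of_card_ge (zpowers_le.2 (self_mem_cent x)) (by rw [hx, Nat.card_zpowers, hox])
  have hrest : ∀ c ∈ centOrders G, 3 ∣ c → c = Nat.card G ∨ c = 3 := by
    intro c hc h3c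
    obtain ⟨g, rfl⟩ := mem_centOrders.1 hc
    obtain ⟨t, ht⟩ := exists_prime_orderOf_dvd_card' (G := centralizer ({g} : Set G)) 3 h3c
    obtain ⟨P₀⟩ : Nonempty (Sylow 3 G) := inferInstance
    have hfac := (sylow_card_of_cent_prime hx1 hx P₀).symm.trans P₀.card_eq_multiplicity
    let P : Sylow 3 G := Sylow.ofCard (zpowers x) (by rw [Nat.card_zpowers, hox]; exact hfac)
    let P' : Sylow 3 G := Sylow.ofCard (zpowers (t : G))
      (by rw [Nat.card_zpowers, Subgroup.orderOf_coe, ht]; exact hfac)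
    obtain ⟨h, hh⟩ := MulAction.exists_smul_eq G P P'
    have h1 : h * x * h⁻¹ ∈ zpowers (t : G) := by
      have : h * x * h⁻¹ ∈ ((h • P : Sylow 3 G) : Subgroup G) := by
        rw [Sylow.coe_subgroup_smul, Subgroup.mem_pointwise_smul_iff_inv_smul_mem]
        show (MulAut.conj h)⁻¹ (h * x * h⁻¹) ∈ zpowers x
        rw [← map_inv, MulAut.conj_apply]
        convert mem_zpowers x using 1
        group
      rwa [hh] at this
    have h2' : h * x * h⁻¹ ∈ centralizer ({g} : Set G) := zpowers_le.2 t.2 h1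
    have h3' : h⁻¹ * g * h ∈ zpowers x := by
      rw [hCx, mem_cent]
      have e := mem_cent.1 h2'
      calc h⁻¹ * g * h * x = h⁻¹ * (g * (h * x * h⁻¹)) * h := by group
        _ = x * (h⁻¹ * g * h) := by rw [← e]; group
    rw [show Nat.card (centralizer ({g} : Set G)) = Nat.card (centralizer ({h⁻¹ * g * h} : Set G)) by
      rw [← card_cent_conj h (h⁻¹ * g * h), show h * (h⁻¹ * g * h) * h⁻¹ = g by group]]
    rw [← mem_powers_iff_mem_zpowers, Submonoid.mem_powers_iff] at h3'
    obtain ⟨n, hn⟩ := h3'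
    rw [← hn]
    by_cases h3n : 3 ∣ n
    · obtain ⟨m, rfl⟩ := h3n
      rw [pow_mul, ← hox, pow_orderOf_eq_one, one_pow, card_cent_one]
      exact Or.inl rfl
    · rw [cent_pow_eq (by rw [hox]; exact (Nat.prime_three.coprime_iff_not_dvd.2 h3n).symm), hx]
      exact Or.inr rfl
  set S := ((centOrders G).erase (Nat.card G)).erase 3 with hS
  obtain ⟨T, hT, hTsum⟩ := exists_exponent_fun (S := S) fun c hc => by
    have hc' := Finset.mem_of_mem_erase (Finset.mem_of_mem_erase hc)
    exact ⟨(pos_of_mem_centOrders hc').ne', fun p hp hpc =>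
      hG.prime_le_five hs hp (hpc.trans (dvd_of_mem_centOrders hc'))⟩
  have hTb : ∀ t ∈ T, t.2.1 = 0 ∧ t.2.2 ≠ 1 ∧ t.2.2 ≠ 2 ∧ (t.2.2 = 0 → 2 ≤ t.1) := by
    intro t ht
    obtain ⟨hc3, hc⟩ := Finset.mem_erase.1 (hT t ht)
    obtain ⟨hcG, hc'⟩ := Finset.mem_erase.1 hc
    have hn3 : ¬ 3 ∣ 2 ^ t.1 * 3 ^ t.2.1 * 5 ^ t.2.2 := fun hd => (hrest _ hc' hd).elim hcG hc3
    have hb : t.2.1 = 0 := by
      by_contra hb
      exact hn3 (Dvd.dvd.mul_right (Dvd.dvd.mul_left (dvd_pow_self 3 hb) _) _)
    obtain ⟨g, hg⟩ := mem_centOrders.1 hc'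
    rw [hb, pow_zero, mul_one] at hg hn3 hc'
    refine ⟨hb, fun e => ?_, fun e => ?_, fun e => ?_⟩
    · rcases five_dichotomy hD hs g with h | h | ⟨h, -⟩
      · exact h (by rw [hg, e, pow_one]; exact dvd_mul_left _ _)
      all_goals
        rw [hg, e, pow_one] at h
        have h5 : 5 ∣ 2 ^ t.1 := by
          refine Nat.dvd_of_mul_dvd_mul_right (show 0 < 5 by norm_num) (dvd_trans ?_ h)
          norm_num
        exact absurd (Nat.prime_five.dvd_of_dvd_pow h5) (by norm_num)
    · rcases five_dichotomy hD hs g with h | h | ⟨-, h⟩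
      · exact h (by rw [hg, e]; exact Dvd.dvd.mul_left (by norm_num) _)
      · rw [hg, e] at h
        have h5 : 5 ∣ 2 ^ t.1 := Nat.dvd_of_mul_dvd_mul_right (show 0 < 25 by norm_num) (by simpa using h)
        exact absurd (Nat.prime_five.dvd_of_dvd_pow h5) (by norm_num)
      · exact hn3 (hg ▸ h)
    · rw [e, pow_zero, mul_one] at hc'
      by_contra hlt
      rcases (show t.1 = 0 ∨ t.1 = 1 by omega) with e1 | e1 <;> rw [e1] at hc'
      · exact h1S hc'
      · exact h2 hc'
  have hbound : ∑ t ∈ T, wgt t ≤ 13 / 25 := by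
    rw [← Finset.sum_filter_add_sum_filter_not T (fun t => t.2.2 = 0)]
    have g2 : ∀ a₀ (A : Finset ℕ), (∀ a ∈ A, a₀ ≤ a) → ∑ a ∈ A, (1 / 2 : ℚ) ^ a ≤ (1 / 2) ^ a₀ / (1 - 1 / 2) :=
      fun a₀ A => geom_tail _ (by norm_num) (by norm_num) A a₀
    have e0 : ∑ t ∈ T.filter (fun t => t.2.2 = 0), wgt t ≤ 1 / 2 * (1 * 1) := by
      refine wgt_box _ ((T.filter fun t => t.2.2 = 0).image fun t => t.1) {0} {0}
        ((g2 2 _ ?_).trans (by norm_num)) (by simp) (by simp) fun t ht => ?_
      · intro a ha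
        obtain ⟨t, ht, rfl⟩ := Finset.mem_image.1 ha
        exact (hTb t (Finset.mem_filter.1 ht).1).2.2.2 (Finset.mem_filter.1 ht).2
      · exact ⟨Finset.mem_image_of_mem _ ht, Finset.mem_singleton.2 (hTb t (Finset.mem_filter.1 ht).1).1,
          Finset.mem_singleton.2 (Finset.mem_filter.1 ht).2⟩
    have e3 : ∑ t ∈ T.filter (fun t => ¬ t.2.2 = 0), wgt t ≤ 2 * (1 * (1 / 100)) := by
      refine wgt_box _ ((T.filter fun t => ¬ t.2.2 = 0).image fun t => t.1) {0}
        ((T.filter fun t => ¬ t.2.2 = 0).image fun t => t.2.2)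
        ((g2 0 _ fun a _ => Nat.zero_le a).trans (by norm_num)) (by simp)
        ((geom_tail (1 / 5) (by norm_num) (by norm_num) _ 3 ?_).trans (by norm_num)) fun t ht => ?_
      · intro j hj
        obtain ⟨t, ht, rfl⟩ := Finset.mem_image.1 hj
        obtain ⟨htT, hne⟩ := Finset.mem_filter.1 ht
        obtain ⟨-, n1, n2, -⟩ := hTb t htT
        omega
      · exact ⟨Finset.mem_image_of_mem _ ht, Finset.mem_singleton.2 (hTb t (Finset.mem_filter.1 ht).1).1,
          Finset.mem_image_of_mem _ ht⟩
    linarith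
  have hGmem : Nat.card G ∈ centOrders G := mem_centOrders.2 ⟨1, card_cent_one⟩
  have h3G : 3 ∈ (centOrders G).erase (Nat.card G) :=
    Finset.mem_erase.2 ⟨fun e => by omega, h3⟩
  rw [← Finset.add_sum_erase _ _ hGmem, ← Finset.add_sum_erase _ _ h3G, ← hS, hTsum] at hsum
  have h12 : 12 ≤ Nat.card G := by
    obtain ⟨k, hk⟩ := Nat.Coprime.mul_dvd_of_dvd_of_dvd (by norm_num : Nat.Coprime 2 3) hd2 hd3
    have := Nat.card_pos (α := G)
    omega
  have hle : (1 : ℚ) / (Nat.card G : ℚ) ≤ 1 / 12 :=
    one_div_le_one_div_of_le (by norm_num) (by exact_mod_cast h12)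
  norm_num at hsum hle
  linarith

/-- the exponents of the centraliser orders -/
theorem allowed_exponents (hD : Distinct G) (hs : Group.IsSolvable G) {t : ℕ × ℕ × ℕ}
    (ht : 2 ^ t.1 * 3 ^ t.2.1 * 5 ^ t.2.2 ∈ centOrders G) : t.2.2 ≠ 1 ∧ (t.2.2 = 2 → 1 ≤ t.2.1) := by
  obtain ⟨g, hg⟩ := mem_centOrders.1 ht
  have hn5 : ¬ 5 ∣ 2 ^ t.1 * 3 ^ t.2.1 := fun hd => by
    rcases Nat.prime_five.dvd_mul.1 hd with h | h <;>
      exact absurd (Nat.prime_five.dvd_of_dvd_pow h) (by norm_num)
  refine ⟨fun e => ?_, fun e => ?_⟩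
  · rcases five_dichotomy hD hs g with h | h | ⟨h, -⟩
    · exact h (by rw [hg, e, pow_one]; exact dvd_mul_left _ _)
    all_goals
      rw [hg, e, pow_one] at h
      exact hn5 (Nat.dvd_of_mul_dvd_mul_right (show 0 < 5 by norm_num) (dvd_trans (by norm_num) h))
  · rcases five_dichotomy hD hs g with h | h | ⟨-, h⟩
    · exact absurd (by rw [hg, e]; exact Dvd.dvd.mul_left (by norm_num) _) h
    · rw [hg, e] at h
      exact absurd (Nat.dvd_of_mul_dvd_mul_right (show 0 < 25 by norm_num) (by simpa using h)) hn5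
    · by_contra hb
      rw [hg, show t.2.1 = 0 by omega, pow_zero, mul_one] at h
      rcases Nat.prime_three.dvd_mul.1 h with h' | h' <;>
        exact absurd (Nat.prime_three.dvd_of_dvd_pow h') (by norm_num)

/-- the total weight of centraliser orders other than the first few, with bounded two-part -/
theorem sum_orders_le (hD : Distinct G) (hs : Group.IsSolvable G) {S : Finset ℕ} (hS : S ⊆ centOrders G)
    (A : Finset ℕ) {α : ℚ} (hA : ∑ a ∈ A, (1 / 2 : ℚ) ^ a ≤ α)
    (hmem : ∀ a b j, 2 ^ a * 3 ^ b * 5 ^ j ∈ S → a ∈ A) (E : Finset (ℕ × ℕ × ℕ))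
    (hEA : ∀ e ∈ E, e.1 ∈ A ∧ e.2.2 = 0) (hES : ∀ e ∈ E, 2 ^ e.1 * 3 ^ e.2.1 * 5 ^ e.2.2 ∉ S) :
    ∑ c ∈ S, (1 : ℚ) / c + ∑ e ∈ E, wgt e ≤ α * (307 / 200) := by
  classical
  obtain ⟨T, hT, hTsum⟩ := exists_exponent_fun (S := S) fun c hc =>
    ⟨(pos_of_mem_centOrders (hS hc)).ne', fun p hp hpc =>
      hD.ratGroup.prime_le_five hs hp (hpc.trans (dvd_of_mem_centOrders (hS hc)))⟩
  rw [hTsum]
  refine wgt_allowed T E A hA (fun t ht => ?_) (fun e he => (hEA e he).2) ?_
    fun t ht => allowed_exponents hD hs (hS (hT t ht))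
  · rcases Finset.mem_union.1 ht with h | h
    · exact hmem _ _ _ (hT t h)
    · exact (hEA t h).1
  · rw [Finset.disjoint_left]
    exact fun t ht he => hES t he (hT t ht)

theorem two_exponent_le {M : ℕ} {a b j : ℕ} {n : ℕ} (hn : n ≠ 0) (h : 2 ^ a * 3 ^ b * 5 ^ j ∣ n)
    (hM : n.factorization 2 ≤ M) : a ≤ M :=
  le_trans ((Nat.prime_two.pow_dvd_iff_le_factorization hn).1
    (dvd_trans (Dvd.dvd.mul_right (dvd_mul_right _ _) _) h)) hM

/-- the centre of a nontrivial two-group with a centraliser of order four -/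
theorem center_card_two {P : Type*} [Group P] [Finite P] (hP : IsPGroup 2 P) {x : P}
    (hx : Nat.card (centralizer ({x} : Set P)) = 4) (h8 : 8 ≤ Nat.card P) : Nat.card (center P) = 2 := by
  haveI : Fact (Nat.Prime 2) := ⟨Nat.prime_two⟩
  haveI : Nontrivial P := Finite.one_lt_card_iff_nontrivial.1 (by omega)
  haveI := hP.center_nontrivial
  have hle : center P ≤ centralizer ({x} : Set P) := fun z hz =>
    mem_cent.2 (Subgroup.mem_center_iff.1 hz x).symm
  have h1 : 1 < Nat.card (center P) := Finite.one_lt_card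
  have hd := Subgroup.card_dvd_of_le hle
  rw [hx] at hd
  have h4 := Nat.le_of_dvd (by norm_num) hd
  have hne : Nat.card (center P) ≠ 4 := by
    intro e
    have heq := Subgroup.eq_of_le_of_card_ge hle (by rw [hx, e])
    have htop : centralizer ({x} : Set P) = ⊤ := (Subgroup.eq_top_iff' _).2 fun g =>
      mem_cent.2 (Subgroup.mem_center_iff.1 (heq.ge (self_mem_cent x)) g)
    rw [htop, Subgroup.card_top] at hx
    omega
  interval_cases hh : Nat.card (center P) <;> omega

/-- no centraliser of order four -/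
theorem four_not_mem [Nontrivial G] (hD : Distinct G) (hs : Group.IsSolvable G)
    (h2 : 2 ∉ centOrders G) (h3 : 3 ∉ centOrders G) : 4 ∉ centOrders G := by
  classical
  intro h4
  obtain ⟨x, hx⟩ := mem_centOrders.1 h4
  haveI : Fact (Nat.Prime 2) := ⟨Nat.prime_two⟩
  have hG := hD.ratGroup
  have hsum := sum_inv_centOrders hD
  have h1S : 1 ∉ centOrders G := fun h => by
    obtain ⟨g, hg⟩ := mem_centOrders.1 h
    exact cent_ne_one g hg
  set C := centralizer ({x} : Set G)
  obtain ⟨Q, hCQ⟩ := (IsPGroup.of_card (p := 2) (n := 2) (G := C) (by rw [hx]; rfl)).exists_le_sylow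
  set e := (Nat.card G).factorization 2 with he
  have hQcard : Nat.card (Q : Subgroup G) = 2 ^ e := Q.card_eq_multiplicity
  let E₃ : Finset (ℕ × ℕ × ℕ) := {(0, 0, 0), (1, 0, 0), (0, 1, 0)}
  have hE₃ : ∑ t ∈ E₃, wgt t = 11 / 6 := by
    simp only [E₃, Finset.sum_insert, Finset.mem_insert, Prod.mk.injEq, Finset.mem_singleton,
      zero_ne_one, one_ne_zero, false_and, and_false, or_self, not_false_iff, Finset.sum_singleton, wgt]
    norm_num
  have hlow : ∀ S ⊆ centOrders G, (∀ a b j, 2 ^ a * 3 ^ b * 5 ^ j ∈ S → a ∈ Finset.range 3) →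
      ∑ c ∈ S, (1 : ℚ) / c ≤ 7 / 4 * (307 / 200) - 11 / 6 := by
    intro S hS hmem
    have := sum_orders_le hD hs hS (Finset.range 3) (α := 7 / 4) (by norm_num [Finset.sum_range_succ]) hmem E₃
      (fun t ht => by
        simp only [E₃, Finset.mem_insert, Finset.mem_singleton] at ht
        rcases ht with rfl | rfl | rfl <;> simp)
      (fun t ht => by
        simp only [E₃, Finset.mem_insert, Finset.mem_singleton] at ht
        rcases ht with rfl | rfl | rfl
        · exact fun h => h1S (by simpa using hS h)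
        · exact fun h => h2 (by simpa using hS h)
        · exact fun h => h3 (by simpa using hS h))
    rw [hE₃] at this
    linarith
  rcases Nat.lt_or_ge e 3 with he2 | he3
  · have := hlow (centOrders G) le_rfl fun a b j h =>
      Finset.mem_range.2 (Nat.lt_succ_of_le (two_exponent_le Nat.card_pos.ne' (dvd_of_mem_centOrders h) (by omega)))
    rw [hsum] at this
    norm_num at this
  -- the Sylow subgroup has maximal class, so rationality bounds it
  have h8 : 8 ≤ Nat.card (Q : Subgroup G) := by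
    rw [hQcard]; exact Nat.pow_le_pow_right (show 0 < 2 by norm_num) he3
  set x' : (Q : Subgroup G) := ⟨x, hCQ (self_mem_cent x)⟩
  have hx' : Nat.card (centralizer ({x'} : Set (Q : Subgroup G))) = 4 := by
    rw [← hx]
    refine Nat.card_congr
      { toFun := fun g => ⟨g.1.1, mem_cent.2 (congrArg Subtype.val (mem_cent.1 g.2))⟩
        invFun := fun g => ⟨⟨g.1, hCQ g.2⟩, mem_cent.2 (Subtype.ext (mem_cent.1 g.2))⟩
        left_inv := fun g => rfl
        right_inv := fun g => rfl }
  have he' : e = 3 := by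
    obtain ⟨w, hw⟩ := exists_cyclic_half Q.2 hx' h8
    have hw' : orderOf (w : G) = 2 ^ (e - 1) := by
      rw [Subgroup.orderOf_coe]
      have : 2 ^ e = 2 * 2 ^ (e - 1) := by rw [← pow_succ']; congr 1; omega
      omega
    have := hG.order_le_four (by omega) hw' fun k hk => by
      have := (Nat.prime_two.pow_dvd_iff_le_factorization Nat.card_pos.ne').1 hk
      omega
    omega
  rw [he'] at hQcard
  have hcen := center_card_two Q.2 hx' h8
  obtain ⟨z, hz⟩ : ∃ z : G, ∀ c ∈ centOrders G, 8 ∣ c →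
      c = Nat.card G ∨ (c = Nat.card (centralizer ({z} : Set G))) := by
    haveI : Nontrivial (center (Q : Subgroup G)) := Finite.one_lt_card_iff_nontrivial.1 (by omega)
    obtain ⟨z, hz1⟩ := exists_ne (1 : center (Q : Subgroup G))
    refine ⟨z.1.1, fun c hc h8c => ?_⟩
    obtain ⟨g, rfl⟩ := mem_centOrders.1 hc
    obtain ⟨K, hK⟩ := Sylow.exists_subgroup_card_pow_prime (G := centralizer ({g} : Set G)) 2 (n := 3)
      (by simpa using h8c)
    let R : Sylow 2 G := Sylow.ofCard (K.map (centralizer ({g} : Set G)).subtype)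
      (by rw [Subgroup.card_map_of_injective (Subgroup.subtype_injective _), hK, ← he, he'])
    obtain ⟨h, hh⟩ := MulAction.exists_smul_eq G Q R
    have hcomm : ∀ a ∈ (Q : Subgroup G), (h⁻¹ * g * h) * a = a * (h⁻¹ * g * h) := by
      intro a ha
      have h1 : h * a * h⁻¹ ∈ ((h • Q : Sylow 2 G) : Subgroup G) := by
        rw [Sylow.coe_subgroup_smul, Subgroup.mem_pointwise_smul_iff_inv_smul_mem]
        show (MulAut.conj h)⁻¹ (h * a * h⁻¹) ∈ (Q : Subgroup G)
        rw [← map_inv, MulAut.conj_apply]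
        convert ha using 1
        group
      rw [hh] at h1
      have h2' := mem_cent.1 (Subgroup.map_subtype_le K h1)
      calc h⁻¹ * g * h * a = h⁻¹ * (g * (h * a * h⁻¹)) * h := by group
        _ = a * (h⁻¹ * g * h) := by rw [← h2']; group
    have hgQ : h⁻¹ * g * h ∈ (Q : Subgroup G) := hCQ (mem_cent.2 (hcomm x (hCQ (self_mem_cent x))))
    set g' : center (Q : Subgroup G) := ⟨⟨_, hgQ⟩, Subgroup.mem_center_iff.2 fun a =>
      Subtype.ext (hcomm a.1 a.2).symm⟩
    rw [show Nat.card (centralizer ({g} : Set G)) = Nat.card (centralizer ({h⁻¹ * g * h} : Set G)) by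
      rw [← card_cent_conj h (h⁻¹ * g * h), show h * (h⁻¹ * g * h) * h⁻¹ = g by group]]
    haveI := Fintype.ofFinite (center (Q : Subgroup G))
    have hcases : g' = 1 ∨ g' = z := by
      by_contra hne
      push Not at hne
      have := Fintype.two_lt_card_iff.2 ⟨1, g', z, Ne.symm hne.1, Ne.symm hz1, hne.2⟩
      rw [← Nat.card_eq_fintype_card, hcen] at this
      omega
    rcases hcases with e1 | e1
    · refine Or.inl ?_
      rw [show h⁻¹ * g * h = 1 from congrArg (fun t : center (Q : Subgroup G) => ((t : (Q : Subgroup G)) : G)) e1,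
        card_cent_one]
    · refine Or.inr ?_
      rw [show h⁻¹ * g * h = z.1.1 from congrArg (fun t : center (Q : Subgroup G) => ((t : (Q : Subgroup G)) : G)) e1]
  have h8G : 8 ∣ Nat.card G := by
    exact (Nat.prime_two.pow_dvd_iff_le_factorization (k := 3) Nat.card_pos.ne').2 (by omega)
  by_cases h48 : 48 ≤ Nat.card G
  · have hsplit := Finset.sum_filter_add_sum_filter_not (centOrders G) (fun c => 8 ∣ c) (fun c : ℕ => (1 : ℚ) / c)
    rw [hsum] at hsplit
    have hb1 := hlow ((centOrders G).filter fun c => ¬ 8 ∣ c) (Finset.filter_subset _ _) fun a b j h => by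
      obtain ⟨-, hn8⟩ := Finset.mem_filter.1 h
      refine Finset.mem_range.2 ?_
      by_contra hlt
      exact hn8 (Dvd.dvd.mul_right (Dvd.dvd.mul_right (pow_dvd_pow 2 (show 3 ≤ a by omega)) _) _)
    have hb2 : ∑ c ∈ (centOrders G).filter (fun c => 8 ∣ c), (1 : ℚ) / c ≤ 1 / 48 + 1 / 8 := by
      by_cases hone : ∀ c ∈ (centOrders G).filter (fun c => 8 ∣ c), c = Nat.card G
      · refine (Finset.sum_le_sum_of_subset_of_nonneg (t := {Nat.card G}) (fun c hc =>
          Finset.mem_singleton.2 (hone c hc)) fun i _ _ => by positivity).trans ?_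
        rw [Finset.sum_singleton]
        exact le_trans (one_div_le_one_div_of_le (a := (48 : ℚ)) (by norm_num) (by exact_mod_cast h48)) (by norm_num)
      · push Not at hone
        obtain ⟨c₀, hc₀, hne⟩ := hone
        obtain ⟨hc₀', h8c₀⟩ := Finset.mem_filter.1 hc₀
        have hcz := (hz c₀ hc₀' h8c₀).resolve_left hne
        refine (Finset.sum_le_sum_of_subset_of_nonneg (t := {Nat.card G, c₀}) (fun c hc => ?_)
          fun i _ _ => by positivity).trans ?_
        · obtain ⟨hc', h8c⟩ := Finset.mem_filter.1 hc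
          rw [Finset.mem_insert, Finset.mem_singleton]
          exact (hz c hc' h8c).imp id fun e => e.trans hcz.symm
        · rw [Finset.sum_pair hne.symm]
          refine add_le_add (one_div_le_one_div_of_le (by norm_num) (by exact_mod_cast h48))
            (one_div_le_one_div_of_le (by norm_num) ?_)
          exact_mod_cast Nat.le_of_dvd (pos_of_mem_centOrders hc₀') h8c₀
    linarith
  · have h16 : ¬ 16 ∣ Nat.card G := fun hd => by
      have := (Nat.prime_two.pow_dvd_iff_le_factorization (k := 4) Nat.card_pos.ne').1 hd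
      omega
    have h40 : Nat.card G ≠ 40 := fun e40 => by
      rcases five_dichotomy hD hs (1 : G) with h | h | ⟨h, -⟩ <;> rw [card_cent_one, e40] at h
      · exact h (by norm_num)
      all_goals norm_num at h
    have hG24 : Nat.card G ∣ 24 := by
      obtain ⟨k, hk⟩ := h8G
      have := Nat.card_pos (α := G)
      rw [hk] at h48 h16 h40 ⊢
      have : k ≤ 5 := by omega
      interval_cases k <;> first | omega | norm_num | exact absurd (by norm_num) h16
    have hsub : centOrders G ⊆ {4, 6, 8, 12, 24} := fun c hc => by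
      have hd := (dvd_of_mem_centOrders hc).trans hG24
      have := Nat.le_of_dvd (by norm_num) hd
      have := pos_of_mem_centOrders hc
      simp only [Finset.mem_insert, Finset.mem_singleton]
      interval_cases c <;> first | omega | exact absurd hc h1S | exact absurd hc h2 | exact absurd hc h3
    have := Finset.sum_le_sum_of_subset_of_nonneg (f := fun c : ℕ => (1 : ℚ) / c) hsub fun i _ _ => by positivity
    rw [hsum] at this
    norm_num at this

/-- solvable groups with distinct class sizes -/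
theorem sym_three_of_distinct [Nontrivial G] (hD : Distinct G) (hs : Group.IsSolvable G) :
    Nonempty (G ≃* Equiv.Perm (Fin 3)) := by
  classical
  by_cases h2 : 2 ∈ centOrders G
  · obtain ⟨x, hx⟩ := mem_centOrders.1 h2
    exact sym_three_of_two hD hs hx
  exfalso
  have h3 := three_not_mem hD hs h2
  have h4 := four_not_mem hD hs h2 h3
  let E₄ : Finset (ℕ × ℕ × ℕ) := {(0, 0, 0), (1, 0, 0), (0, 1, 0), (2, 0, 0)}
  set M := (Nat.card G).factorization 2 + 3
  have hgeom : ∑ a ∈ Finset.range M, (1 / 2 : ℚ) ^ a ≤ 2 :=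
    (geom_tail _ (by norm_num) (by norm_num) _ 0 fun a _ => Nat.zero_le a).trans (by norm_num)
  have := sum_orders_le hD hs le_rfl (Finset.range M) hgeom
    (fun a b j h => Finset.mem_range.2 (Nat.lt_of_le_of_lt
      (two_exponent_le Nat.card_pos.ne' (dvd_of_mem_centOrders h) le_rfl) (by omega))) E₄
    (fun t ht => by
      simp only [E₄, Finset.mem_insert, Finset.mem_singleton] at ht
      rcases ht with rfl | rfl | rfl | rfl <;> exact ⟨Finset.mem_range.2 (by omega), rfl⟩)
    (fun t ht => by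
      simp only [E₄, Finset.mem_insert, Finset.mem_singleton] at ht
      rcases ht with rfl | rfl | rfl | rfl
      · intro h
        obtain ⟨g, hg⟩ := mem_centOrders.1 h
        exact cent_ne_one g (by simpa using hg)
      · exact fun h => h2 (by simpa using h)
      · exact fun h => h3 (by simpa using h)
      · exact fun h => h4 (by simpa using h))
  have hE : ∑ t ∈ E₄, wgt t = 25 / 12 := by
    simp only [E₄, Finset.sum_insert, Finset.mem_insert, Prod.mk.injEq, Finset.mem_singleton,
      zero_ne_one, one_ne_zero, false_and, and_false, or_self, not_false_iff, Finset.sum_singleton, wgt,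
      OfNat.ofNat_ne_zero, OfNat.zero_ne_ofNat, OfNat.ofNat_ne_one, OfNat.one_ne_ofNat]
    norm_num
  rw [sum_inv_centOrders hD, hE] at this
  norm_num at this

end Cfsg.Agent.DistinctSizes
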