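import Cfsg.Agent.Lib.Block.DistinctSizes.PlaneOrder

/-!
# Planes over the field with seven elements

The functions on the stabiliser of a plane used by the final step: the sign of the trace and
the orientation of the permutation of the axes.
-/

set_option autoImplicit false

set_option linter.unusedSectionVars false

namespace Cfsg.Agent.DistinctSizes

universe u

theorem seven_trace : (3 : ZMod 7) ≠ 4 ∧ (-(3 : ZMod 7) = 4) ∧ (-(4 : ZMod 7) = 3) ∧
    (3 : ZMod 7) * 3 = 2 ∧ (4 : ZMod 7) * 4 = 2 ∧ (2 : ZMod 7) ≠ 0 ∧ (4 : ZMod 7) ≠ 1 ∧ (2 : ZMod 7) ^ 2 ≠ 1 ∧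
    (4 : ZMod 7) * 2 = 1 := by decide

theorem perm_three_shift : ∀ π σ : Equiv.Perm (Fin 3), π ^ 3 = 1 → σ ^ 3 = 1 → σ ≠ 1 →
    ((if π 0 = 1 then (1 : ℤ) else if π 0 = 2 then -1 else 0) +
      (if (π * σ) 0 = 1 then (1 : ℤ) else if (π * σ) 0 = 2 then -1 else 0) +
      (if (π * σ * σ) 0 = 1 then (1 : ℤ) else if (π * σ * σ) 0 = 2 then -1 else 0)) = 0 := by decide +kernel

theorem perm_three_inv : ∀ π : Equiv.Perm (Fin 3), π ^ 3 = 1 →
    (if π⁻¹ 0 = 1 then (1 : ℤ) else if π⁻¹ 0 = 2 then -1 else 0) =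
      -(if π 0 = 1 then (1 : ℤ) else if π 0 = 2 then -1 else 0) := by decide +kernel

theorem perm_three_conj : ∀ π κ : Equiv.Perm (Fin 3), π ^ 3 = 1 → κ ^ 3 = 1 → κ * π * κ⁻¹ = π := by decide +kernel

theorem perm_three_flip : ∀ τ σ : Equiv.Perm (Fin 3), τ ^ 2 = 1 → τ ≠ 1 → σ ^ 3 = 1 → τ * σ * τ⁻¹ * σ = 1 := by
  decide +kernel

theorem perm_three_eq_one : ∀ σ : Equiv.Perm (Fin 3), σ ^ 3 = 1 → σ 0 ≠ 1 → σ 0 ≠ 2 → σ = 1 := by decide +kernel

theorem perm_three_free : ∀ σ : Equiv.Perm (Fin 3), σ ^ 3 = 1 → σ ≠ 1 → ∀ a, σ a ≠ a := by decide +kernel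

/-- the orientation of a permutation of three letters -/
def orient (π : Equiv.Perm (Fin 3)) : ℤ := if π 0 = 1 then 1 else if π 0 = 2 then -1 else 0

variable [hp : Fact (Nat.Prime 7)] {Y : Type u} [AddCommGroup Y] [Module (ZMod 7) Y]

open Classical in
/-- the sign of the trace -/
noncomputable def traceSign (z : Y ≃ₗ[ZMod 7] Y) : ℤ :=
  if HasTrace z 3 then 1 else if HasTrace z 4 then -1 else 0

theorem HasTrace.unique [Nontrivial Y] {z : Y ≃ₗ[ZMod 7] Y} {t t' : ZMod 7} (h : HasTrace z t)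
    (h' : HasTrace z t') : t = t' := by
  obtain ⟨v, hv⟩ := exists_ne (0 : Y)
  exact smul_left_injective _ hv ((h v).symm.trans (h' v))

theorem HasTrace.neg_right {z : Y ≃ₗ[ZMod 7] Y} {t : ZMod 7} (h : HasTrace z t) {n : Y ≃ₗ[ZMod 7] Y}
    (hn : ∀ w, n w = -w) : HasTrace (z * n) (-t) := fun w => by
  have h1 : (z * n)⁻¹ w = -(z⁻¹ w) := (z * n).injective (by
    rw [apply_inv', LinearEquiv.mul_apply, hn, neg_neg, apply_inv'])
  rw [LinearEquiv.mul_apply, hn, map_neg, h1, ← neg_add, h w, neg_smul]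

theorem HasTrace.conj {z : Y ≃ₗ[ZMod 7] Y} {t : ZMod 7} (h : HasTrace z t) (k : Y ≃ₗ[ZMod 7] Y) :
    HasTrace (k * z * k⁻¹) t := fun w => by
  rw [show (k * z * k⁻¹)⁻¹ = k * z⁻¹ * k⁻¹ by group]
  simp only [LinearEquiv.mul_apply]
  rw [← map_add, h, map_smul, apply_inv']

theorem traceSign_conj (z k : Y ≃ₗ[ZMod 7] Y) : traceSign (k * z * k⁻¹) = traceSign z := by
  have : ∀ t, HasTrace (k * z * k⁻¹) t ↔ HasTrace z t := fun t => by
    refine ⟨fun h => ?_, fun h => h.conj k⟩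
    have := h.conj k⁻¹
    rwa [show k⁻¹ * (k * z * k⁻¹) * k⁻¹⁻¹ = z by group] at this
  unfold traceSign
  by_cases h3 : HasTrace z 3
  · rw [if_pos h3, if_pos ((this 3).2 h3)]
  · rw [if_neg h3, if_neg fun h => h3 ((this 3).1 h)]
    by_cases h4 : HasTrace z 4
    · rw [if_pos h4, if_pos ((this 4).2 h4)]
    · rw [if_neg h4, if_neg fun h => h4 ((this 4).1 h)]

theorem traceSign_neg [Nontrivial Y] (z : Y ≃ₗ[ZMod 7] Y) {n : Y ≃ₗ[ZMod 7] Y} (hn : ∀ w, n w = -w) :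
    traceSign (z * n) = -traceSign z := by
  have key : ∀ t, HasTrace (z * n) t ↔ HasTrace z (-t) := fun t => by
    refine ⟨fun h => ?_, fun h => by simpa using h.neg_right hn⟩
    have := h.neg_right hn
    rwa [mul_assoc, show n * n = 1 from LinearEquiv.ext fun w => by rw [LinearEquiv.mul_apply, hn, hn, neg_neg]; rfl,
      mul_one] at this
  have k3 := key 3
  have k4 := key 4
  rw [seven_trace.2.1] at k3
  rw [seven_trace.2.2.1] at k4
  unfold traceSign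
  by_cases h3 : HasTrace z 3
  · have h4 : ¬ HasTrace z 4 := fun h => seven_trace.1 (h3.unique h)
    simp [k3, k4, h3, h4]
  · by_cases h4 : HasTrace z 4 <;> simp [k3, k4, h3, h4]

namespace PlaneQ

variable [Finite Y] {B : LinearMap.BilinForm (ZMod 7) Y} {Γ : Subgroup (Y ≃ₗ[ZMod 7] Y)}
  {i j : Y ≃ₗ[ZMod 7] Y} (P : PlaneQ B Γ i j)
include P

/-- the permutation of the axes, as a homomorphism -/
noncomputable def permHom : Γ →* Equiv.Perm (Fin 3) :=
  MonoidHom.mk' (fun g => P.perm g.2) fun g g' => P.perm_mul g.2 g'.2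

theorem permHom_eq (g : Γ) : P.permHom g = P.perm g.2 := rfl

theorem pow_four_of_perm {g : Γ} (h : P.permHom g = 1) : g ^ 4 = 1 :=
  Subtype.ext (P.fourth g.2 fun a => by
    have := P.perm_spec g.2 a
    rwa [← P.permHom_eq, h] at this)

theorem pow_24 (g : Γ) : g ^ 24 = 1 := by
  rcases perm_three_cases (P.permHom g) with e | ⟨e, e'⟩ | ⟨e, -, -⟩
  · rw [show 24 = 4 * 6 from rfl, pow_mul, P.pow_four_of_perm e, one_pow]
  · rw [show 24 = 6 * 4 from rfl, pow_mul, (show g ^ 6 = 1 from Subtype.ext (P.sixth g.2 e e')), one_pow]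
  · rw [show 24 = 8 * 3 from rfl, pow_mul, (show g ^ 8 = 1 from Subtype.ext (P.eighth g.2 e)), one_pow]

theorem fourth_of_trace {z : Y ≃ₗ[ZMod 7] Y} {t : ZMod 7} (h : HasTrace z t) (ht : t = 3 ∨ t = 4) (w : Y) :
    z (z (z (z w))) = -w ∧ z⁻¹ w = t • w - z w ∧ z (z (z w)) = z w - t • w := by
  have ht2 : t * t = 2 := by
    rcases ht with rfl | rfl
    · exact seven_trace.2.2.2.1
    · exact seven_trace.2.2.2.2.1
  have h2 : ∀ w, z (z w) = t • z w - w := fun w => by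
    have := h (z w); rw [inv_apply'] at this
    exact eq_sub_of_add_eq this
  refine ⟨?_, eq_sub_of_add_eq' (h w), ?_⟩
  · rw [h2 (z (z w)), h2 (z w), h2 w]
    simp only [smul_sub, smul_smul, ht2]
    linear_combination (norm := module) ht2 • (0 : Y)
  · rw [h2 (z w), h2 w]
    simp only [smul_sub, smul_smul, ht2]
    module

theorem traceSign_pow19 {z : Y ≃ₗ[ZMod 7] Y} (hz : z ∈ Γ) : traceSign (z ^ 19) = -traceSign z := by
  haveI := P.nontrivial'
  have hflip : ∀ z ∈ Γ, ∀ t : ZMod 7, HasTrace z t → (t = 3 ∨ t = 4) → HasTrace (z ^ 19) (-t) := by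
    intro z hz t h ht w
    have h8 : z ^ 8 = 1 := LinearEquiv.ext fun w => by
      show z (z (z (z (z (z (z (z w))))))) = w
      rw [(P.fourth_of_trace h ht _).1, (P.fourth_of_trace h ht _).1, neg_neg]
    have e19 : z ^ 19 = z ^ 3 := by
      rw [show 19 = 8 * 2 + 3 from rfl, pow_add, pow_mul, h8, one_pow, one_mul]
    have e : ∀ w, (z ^ 3) w = z (z (z w)) := fun w => rfl
    have einv : (z ^ 3)⁻¹ w = -z w := (z ^ 3).injective (by
      rw [apply_inv', e, map_neg, map_neg, map_neg, (P.fourth_of_trace h ht w).1, neg_neg])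
    rw [e19, einv, e, (P.fourth_of_trace h ht w).2.2, neg_smul]
    abel
  have h19 : ∀ z ∈ Γ, (z ^ 19) ^ 19 = z := fun z hz => by
    rw [← pow_mul, show 19 * 19 = 24 * 15 + 1 from rfl, pow_succ, pow_mul,
      show z ^ 24 = 1 from congrArg Subtype.val (P.pow_24 ⟨z, hz⟩), one_pow, one_mul]
  unfold traceSign
  have hno : ∀ {z : Y ≃ₗ[ZMod 7] Y}, HasTrace z 3 → ¬ HasTrace z 4 := fun h h' => seven_trace.1 (h.unique h')
  by_cases h3 : HasTrace z 3
  · have := hflip z hz 3 h3 (Or.inl rfl)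
    rw [seven_trace.2.1] at this
    rw [if_pos h3, if_pos this, if_neg fun h => hno h this]
  by_cases h4 : HasTrace z 4
  · have := hflip z hz 4 h4 (Or.inr rfl)
    rw [seven_trace.2.2.1] at this
    rw [if_neg h3, if_pos h4, if_pos this, neg_neg]
  have n3 : ¬ HasTrace (z ^ 19) 3 := fun h => h4 (by
    have := hflip _ (Γ.pow_mem hz 19) 3 h (Or.inl rfl)
    rwa [h19 z hz, seven_trace.2.1] at this)
  have n4 : ¬ HasTrace (z ^ 19) 4 := fun h => h3 (by
    have := hflip _ (Γ.pow_mem hz 19) 4 h (Or.inr rfl)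
    rwa [h19 z hz, seven_trace.2.2.1] at this)
  rw [if_neg h3, if_neg h4, if_neg n3, if_neg n4, neg_zero]

/-- an element of trace `3` or `4` normalises no nontrivial group of exponent three -/
theorem false_of_normalises {z : Γ} {t : ZMod 7} (h : HasTrace z.1 t) (ht : t = 3 ∨ t = 4)
    {R : Subgroup Γ} (hR : ∀ r ∈ R, r ^ 3 = 1) (hz : ∀ r ∈ R, z * r * z⁻¹ ∈ R) {r : Γ} (hr : r ∈ R)
    (hr1 : r ≠ 1) : False := by
  haveI := P.nontrivial'
  obtain ⟨w₀, hw₀⟩ := exists_ne (0 : Y)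
  have hz4 : ∀ w, (z.1 ^ 4) w = -w := fun w => (P.fourth_of_trace h ht w).1
  have hne4 : z ^ 4 ≠ 1 := fun e => hw₀ (P.cov.eq_zero_of_eq_neg
    ((LinearEquiv.congr_fun (congrArg Subtype.val e) w₀).symm.trans (hz4 w₀)))
  obtain ⟨hτ2, hτ1⟩ : P.permHom z ^ 2 = 1 ∧ P.permHom z ≠ 1 := by
    rcases perm_three_cases (P.permHom z) with e | ⟨e, e'⟩ | ⟨e, e', -⟩
    · exact absurd (P.pow_four_of_perm e) hne4
    · refine absurd ?_ hne4
      have h6 : z ^ 6 = 1 := Subtype.ext (P.sixth z.2 e e')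
      have h12 : z ^ 8 = 1 := Subtype.ext (LinearEquiv.ext fun w => by
        show (z.1 ^ (4 + 4)) w = w
        rw [pow_add, LinearEquiv.mul_apply, hz4, hz4, neg_neg])
      calc z ^ 4 = z ^ 4 * z ^ 8 := by rw [h12, mul_one]
        _ = (z ^ 6) ^ 2 := by group
        _ = 1 := by rw [h6, one_pow]
    · exact ⟨e, e'⟩
  have hperm1 : ∀ r ∈ R, P.permHom r = 1 → r = 1 := fun r hr e => by
    have h4 := P.pow_four_of_perm e
    rwa [pow_succ, hR r hr, one_mul] at h4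
  have hσ : P.permHom r ^ 3 = 1 := by rw [← map_pow, hR r hr, map_one]
  have hinv : z * r * z⁻¹ * r = 1 := hperm1 _ (R.mul_mem (hz r hr) hr) (by
    rw [map_mul, map_mul, map_mul, map_inv]; exact perm_three_flip _ _ hτ2 hτ1 hσ)
  have hz1 : z * r * z⁻¹ = r⁻¹ := eq_inv_of_mul_eq_one_left hinv
  have hcomm : z ^ 2 * r = r * z ^ 2 := by
    have h2 : z * r⁻¹ * z⁻¹ = r := by rw [show z * r⁻¹ * z⁻¹ = (z * r * z⁻¹)⁻¹ by group, hz1, inv_inv]
    calc z ^ 2 * r = z * (z * r * z⁻¹) * z := by simp [pow_two, mul_assoc]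
      _ = (z * r⁻¹ * z⁻¹) * z ^ 2 := by rw [hz1]; group
      _ = r * z ^ 2 := by rw [h2]
  have hfix : ∀ a, MapsAxis i j (z ^ 2 : Γ).1 a a := fun a => by
    have := P.perm_spec (z ^ 2).2 a
    rwa [← P.permHom_eq, map_pow, hτ2] at this
  have hfree := perm_three_free _ hσ fun e => hr1 (hperm1 r hr e)
  have hc : ∀ w, r.1 ((z ^ 2 : Γ).1 w) = (z ^ 2 : Γ).1 (r.1 w) := fun w =>
    (LinearEquiv.congr_fun (congrArg Subtype.val hcomm) w).symm
  rcases P.cov.fixes_all P.dim P.qp P.mem_i P.mem_j (z ^ 2).2 hfix with e | e | ⟨a, e | e⟩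
  · refine hne4 ?_
    rw [show 4 = 2 * 2 from rfl, pow_mul, show z ^ 2 = 1 from Subtype.ext (LinearEquiv.ext e), one_pow]
  · refine hne4 ?_
    rw [show 4 = 2 * 2 from rfl, pow_mul, pow_two (z ^ 2)]
    exact Subtype.ext (LinearEquiv.ext fun w => by
      show (z ^ 2 : Γ).1 ((z ^ 2 : Γ).1 w) = w
      rw [e, e, neg_neg])
  · exact hfree a (P.perm_eq r.2 (Or.inl fun w => by rw [← e, ← e]; exact hc w))
  · refine hfree a (P.perm_eq r.2 (Or.inl fun w => ?_))
    have e1 : ∀ w, axis i j a w = -(z ^ 2 : Γ).1 w := fun w => by rw [e, neg_neg]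
    rw [e1, e1, map_neg, hc]

end PlaneQ

end Cfsg.Agent.DistinctSizes
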