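import Mathlib

/-!
# The quartic identity and abelian normal subgroups of covering groups

A covering group is a solvable `p'`-group of isometries of a nondegenerate alternating form in
which every vector is mapped to each of its nonzero multiples by some element.
-/

set_option autoImplicit false

set_option linter.unusedSectionVars false

namespace Cfsg.Agent.DistinctSizes

open scoped TensorProduct

universe u

variable {p : ℕ} [hp : Fact p.Prime] {W : Type u} [AddCommGroup W] [Module (ZMod p) W]

/-- covering group -/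
structure Cover (B : LinearMap.BilinForm (ZMod p) W) (Γ : Subgroup (W ≃ₗ[ZMod p] W)) : Prop where
  five : 5 ≤ p
  alt : ∀ v, B v v = 0
  nd : ∀ v, (∀ w, B v w = 0) → v = 0
  inv : ∀ g ∈ Γ, ∀ v w, B (g v) (g w) = B v w
  cop : ¬ p ∣ Nat.card Γ
  solv : Group.IsSolvable Γ
  cover : ∀ (v : W) (c : ZMod p), c ≠ 0 → ∃ g ∈ Γ, g v = c • v

instance instFiniteEquiv [Finite W] : Finite (W ≃ₗ[ZMod p] W) :=
  Finite.of_injective (fun e : W ≃ₗ[ZMod p] W => (e : W → W)) DFunLike.coe_injective

namespace Cover

variable {B : LinearMap.BilinForm (ZMod p) W} {Γ : Subgroup (W ≃ₗ[ZMod p] W)} (h : Cover B Γ)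
include h

theorem skew (v w : W) : B w v = -B v w := by
  have := h.alt (v + w)
  simp only [map_add, LinearMap.add_apply, h.alt v, h.alt w, zero_add, add_zero] at this
  exact eq_neg_of_add_eq_zero_left this

theorem natCast_ne_zero {n : ℕ} (h0 : 0 < n) (hn : n < 5) : (n : ZMod p) ≠ 0 := fun e => by
  have := Nat.le_of_dvd h0 ((ZMod.natCast_eq_zero_iff n p).1 e)
  have := h.five
  omega

end Cover

/-- the quartic identity: a family permuted up to sign by an element scaling `v` -/
theorem sum_sq_eq_zero {ι : Type*} [Fintype ι] (B : LinearMap.BilinForm (ZMod p) W)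
    (f : ι → Module.End (ZMod p) W) (g : W ≃ₗ[ZMod p] W) (hg : ∀ v w, B (g v) (g w) = B v w)
    (π : Equiv.Perm ι)
    (hf : ∀ x, (∀ w, g (f x w) = f (π x) (g w)) ∨ ∀ w, g (f x w) = -f (π x) (g w))
    {k : ZMod p} (hk : k ^ 4 ≠ 1) {v : W} (hv : g v = k • v) :
    ∑ x, B v (f x v) ^ 2 = 0 := by
  have h1 : ∀ x, B v (f x v) ^ 2 = k ^ 4 * B v (f (π x) v) ^ 2 := by
    intro x
    rw [← hg v (f x v), hv]
    rcases hf x with e | e
    · rw [e, hv]
      simp only [map_smul, LinearMap.smul_apply, smul_eq_mul]
      ring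
    · rw [e, hv]
      simp only [map_smul, map_neg, LinearMap.smul_apply, smul_eq_mul]
      ring
  have h2 : ∑ x, B v (f x v) ^ 2 = k ^ 4 * ∑ x, B v (f x v) ^ 2 := by
    conv_lhs => rw [Finset.sum_congr rfl fun x _ => h1 x, ← Finset.mul_sum, Equiv.sum_comp π (fun x => B v (f x v) ^ 2)]
  by_contra hne
  exact hk ((mul_eq_right₀ hne).1 h2.symm)

theorem two_pow_four_ne_one (h : 5 ≤ p) (h5 : p ≠ 5) : (2 : ZMod p) ^ 4 ≠ 1 := by
  intro e
  have h15 : ((15 : ℕ) : ZMod p) = 0 := by
    have : (2 : ZMod p) ^ 4 - 1 = 0 := sub_eq_zero.2 e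
    rw [← this]; push_cast; ring
  have hd := (ZMod.natCast_eq_zero_iff 15 p).1 h15
  have hp' := hp.out
  have := Nat.le_of_dvd (by norm_num) hd
  interval_cases p <;> first | omega | norm_num at *

/-- the polarised quartic -/
def quart {R : Type*} [CommRing R] {ι : Type*} [Fintype ι] {V : Type*} [AddCommGroup V] [Module R V]
    (c : ι → LinearMap.BilinForm R V) (a b d e : V) : R :=
  ∑ x, ((c x a b + c x b a) * (c x d e + c x e d) + (c x a d + c x d a) * (c x b e + c x e b) +
    (c x a e + c x e a) * (c x d b + c x b d))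

theorem quart_eq_zero {ι : Type*} [Fintype ι] (h2 : (2 : ZMod p) ≠ 0) (h3 : (3 : ZMod p) ≠ 0)
    (c : ι → LinearMap.BilinForm (ZMod p) W) (h : ∀ v, ∑ x, c x v v ^ 2 = 0) (a b d e : W) :
    quart c a b d e = 0 := by
  set q : ι → W → W → ZMod p := fun x u w => c x u w + c x w u with hq
  have hq2 : ∀ v, ∑ x, q x v v ^ 2 = 0 := fun v => by
    have : ∑ x, q x v v ^ 2 = 4 * ∑ x, c x v v ^ 2 := by
      rw [Finset.mul_sum]; exact Finset.sum_congr rfl fun x _ => by simp only [hq]; ring
    rw [this, h, mul_zero]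
  have hl : ∀ x u v w, q x (u + v) w = q x u w + q x v w := fun x u v w => by
    simp only [hq, map_add, LinearMap.add_apply]; ring
  have hr : ∀ x u v w, q x w (u + v) = q x w u + q x w v := fun x u v w => by
    simp only [hq, map_add, LinearMap.add_apply]; ring
  have hn : ∀ x u w, q x (-u) w = -q x u w := fun x u w => by
    simp only [hq, map_neg, LinearMap.neg_apply]; ring
  have hn' : ∀ x u w, q x w (-u) = -q x w u := fun x u w => by
    simp only [hq, map_neg, LinearMap.neg_apply]; ring
  have hs : ∀ x u w, q x u w = q x w u := fun x u w => by simp only [hq]; ring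
  have hS : ∀ u w, ∑ x, (q x u u * q x w w + 2 * q x u w ^ 2) = 0 := by
    intro u w
    have key : ∀ x, q x (u + w) (u + w) ^ 2 + q x (u + -w) (u + -w) ^ 2 - 2 * q x u u ^ 2 -
        2 * q x w w ^ 2 = 4 * (q x u u * q x w w + 2 * q x u w ^ 2) := fun x => by
      rw [hl, hr, hr, hl, hr, hr, hn', hn, hn', hn, hs x w u]; ring
    have h0 : ∑ x, (q x (u + w) (u + w) ^ 2 + q x (u + -w) (u + -w) ^ 2 - 2 * q x u u ^ 2 -
        2 * q x w w ^ 2) = 0 := by
      simp only [Finset.sum_sub_distrib, Finset.sum_add_distrib, ← Finset.mul_sum, hq2]; ring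
    rw [Finset.sum_congr rfl fun x _ => key x, ← Finset.mul_sum] at h0
    exact (mul_eq_zero.1 h0).resolve_left (by rw [show (4 : ZMod p) = 2 * 2 by norm_num]; exact mul_ne_zero h2 h2)
  have hR : ∀ u v w, ∑ x, (q x u v * q x w w + 2 * (q x u w * q x v w)) = 0 := by
    intro u v w
    have key : ∀ x, (q x (u + v) (u + v) * q x w w + 2 * q x (u + v) w ^ 2) -
        (q x u u * q x w w + 2 * q x u w ^ 2) - (q x v v * q x w w + 2 * q x v w ^ 2) =
        2 * (q x u v * q x w w + 2 * (q x u w * q x v w)) := fun x => by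
      rw [hl x u v w, hl, hr, hr, hs x v u]; ring
    have h0 : ∑ x, ((q x (u + v) (u + v) * q x w w + 2 * q x (u + v) w ^ 2) -
        (q x u u * q x w w + 2 * q x u w ^ 2) - (q x v v * q x w w + 2 * q x v w ^ 2)) = 0 := by
      simp only [Finset.sum_sub_distrib, hS, sub_zero]
    rw [Finset.sum_congr rfl fun x _ => key x, ← Finset.mul_sum] at h0
    exact (mul_eq_zero.1 h0).resolve_left h2
  have key : ∀ x, (q x a b * q x (d + e) (d + e) + 2 * (q x a (d + e) * q x b (d + e))) -
      (q x a b * q x d d + 2 * (q x a d * q x b d)) - (q x a b * q x e e + 2 * (q x a e * q x b e)) =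
      2 * (q x a b * q x d e + q x a d * q x b e + q x a e * q x d b) := fun x => by
    rw [hl, hr, hr, hr, hr, hs x e d, hs x d b]; ring
  have h0 : ∑ x, ((q x a b * q x (d + e) (d + e) + 2 * (q x a (d + e) * q x b (d + e))) -
      (q x a b * q x d d + 2 * (q x a d * q x b d)) - (q x a b * q x e e + 2 * (q x a e * q x b e))) = 0 := by
    simp only [Finset.sum_sub_distrib, hR, sub_zero]
  rw [Finset.sum_congr rfl fun x _ => key x, ← Finset.mul_sum] at h0
  exact (mul_eq_zero.1 h0).resolve_left h2

section Ext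

variable {L : Type*} [Field L] [Algebra (ZMod p) L]

/-- the polarised quartic vanishes after extending the scalars -/
theorem quart_baseChange {ι : Type*} [Fintype ι] (c : ι → LinearMap.BilinForm (ZMod p) W)
    (h : ∀ a b d e, quart c a b d e = 0) (a b d e : L ⊗[ZMod p] W) :
    quart (fun x => (c x).baseChange L) a b d e = 0 := by
  have z : ∀ (C : LinearMap.BilinForm L (L ⊗[ZMod p] W)) (u : L ⊗[ZMod p] W), C 0 u = 0 ∧ C u 0 = 0 :=
    fun C u => ⟨by simp, by simp⟩
  induction a using TensorProduct.induction_on with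
  | zero => simp [quart]
  | add a a' ha ha' =>
    simp only [quart, map_add, LinearMap.add_apply] at ha ha' ⊢
    rw [← add_zero (0 : L)]; nth_rw 1 [← ha]; rw [← ha', ← Finset.sum_add_distrib]
    exact Finset.sum_congr rfl fun x _ => by ring
  | tmul r a =>
  induction b using TensorProduct.induction_on with
  | zero => simp [quart]
  | add b b' hb hb' =>
    simp only [quart, map_add, LinearMap.add_apply] at hb hb' ⊢
    rw [← add_zero (0 : L)]; nth_rw 1 [← hb]; rw [← hb', ← Finset.sum_add_distrib]
    exact Finset.sum_congr rfl fun x _ => by ring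
  | tmul s b =>
  induction d using TensorProduct.induction_on with
  | zero => simp [quart]
  | add d d' hd hd' =>
    simp only [quart, map_add, LinearMap.add_apply] at hd hd' ⊢
    rw [← add_zero (0 : L)]; nth_rw 1 [← hd]; rw [← hd', ← Finset.sum_add_distrib]
    exact Finset.sum_congr rfl fun x _ => by ring
  | tmul t d =>
  induction e using TensorProduct.induction_on with
  | zero => simp [quart]
  | add e e' he he' =>
    simp only [quart, map_add, LinearMap.add_apply] at he he' ⊢
    rw [← add_zero (0 : L)]; nth_rw 1 [← he]; rw [← he', ← Finset.sum_add_distrib]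
    exact Finset.sum_congr rfl fun x _ => by ring
  | tmul w e =>
  have := congrArg (algebraMap (ZMod p) L) (h a b d e)
  rw [map_zero] at this
  rw [← mul_zero (r * s * t * w), ← this]
  simp only [quart, LinearMap.BilinForm.baseChange_tmul, map_sum, Finset.mul_sum, map_add, map_mul,
    Algebra.smul_def]
  exact Finset.sum_congr rfl fun x _ => by ring

theorem baseChange_inv {B : LinearMap.BilinForm (ZMod p) W} {g : Module.End (ZMod p) W}
    (hg : ∀ v w, B (g v) (g w) = B v w) (a b : L ⊗[ZMod p] W) :
    B.baseChange L (g.baseChange L a) (g.baseChange L b) = B.baseChange L a b := by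
  induction a using TensorProduct.induction_on with
  | zero => simp
  | add a a' ha ha' => simp only [map_add, LinearMap.add_apply, ha, ha']
  | tmul r a =>
    induction b using TensorProduct.induction_on with
    | zero => simp
    | add b b' hb hb' => simp only [map_add, hb, hb']
    | tmul s b => simp only [LinearMap.baseChange_tmul, LinearMap.BilinForm.baseChange_tmul, hg]

theorem baseChange_skew {B : LinearMap.BilinForm (ZMod p) W} (hg : ∀ v w, B w v = -B v w)
    (a b : L ⊗[ZMod p] W) : B.baseChange L b a = -B.baseChange L a b := by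
  induction a using TensorProduct.induction_on with
  | zero => simp
  | add a a' ha ha' => simp only [map_add, LinearMap.add_apply, ha, ha', neg_add]
  | tmul r a =>
    induction b using TensorProduct.induction_on with
    | zero => simp
    | add b b' hb hb' => simp only [map_add, LinearMap.add_apply, hb, hb', neg_add]
    | tmul s b =>
      rw [LinearMap.BilinForm.baseChange_tmul, LinearMap.BilinForm.baseChange_tmul, hg a b, neg_smul,
        mul_comm]

theorem baseChange_compl₂ {B : LinearMap.BilinForm (ZMod p) W} {f : Module.End (ZMod p) W}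
    (a b : L ⊗[ZMod p] W) :
    LinearMap.BilinForm.baseChange L (B.compl₂ f) a b = B.baseChange L a (f.baseChange L b) := by
  induction a using TensorProduct.induction_on with
  | zero => simp
  | add a a' ha ha' => simp only [map_add, LinearMap.add_apply, ha, ha']
  | tmul r a =>
    induction b using TensorProduct.induction_on with
    | zero => simp
    | add b b' hb hb' => simp only [map_add, hb, hb']
    | tmul s b =>
      rw [LinearMap.baseChange_tmul, LinearMap.BilinForm.baseChange_tmul,
        LinearMap.BilinForm.baseChange_tmul, LinearMap.compl₂_apply]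

end Ext

/-- commuting endomorphisms have a common eigenvector in every invariant nonzero subspace -/
theorem exists_common_eigenvector {L V ι : Type*} [Field L] [IsAlgClosed L] [AddCommGroup V]
    [Module L V] [FiniteDimensional L V] (f : ι → Module.End L V) (hc : ∀ i j, f i * f j = f j * f i)
    (s : Finset ι) : ∀ Y : Submodule L V, Y ≠ ⊥ → (∀ i, ∀ y ∈ Y, f i y ∈ Y) →
      ∃ Z ≤ Y, Z ≠ ⊥ ∧ (∀ i, ∀ z ∈ Z, f i z ∈ Z) ∧ ∀ i ∈ s, ∃ μ : L, ∀ z ∈ Z, f i z = μ • z := by
  classical
  induction s using Finset.induction_on with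
  | empty => exact fun Y hY hi => ⟨Y, le_rfl, hY, hi, fun i hi => absurd hi (Finset.notMem_empty i)⟩
  | @insert i s his ih =>
    intro Y hY hinv
    obtain ⟨Z, hZY, hZ, hZi, hZs⟩ := ih Y hY hinv
    haveI : Nontrivial Z := Submodule.nontrivial_iff_ne_bot.2 hZ
    obtain ⟨μ, hμ⟩ := Module.End.exists_eigenvalue ((f i).restrict (hZi i))
    obtain ⟨⟨z, hz⟩, hz1, hz0⟩ := hμ.exists_hasEigenvector
    refine ⟨Z ⊓ Module.End.eigenspace (f i) μ, inf_le_left.trans hZY, fun e => hz0 ?_, fun j w hw => ?_,
      fun j hj => ?_⟩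
    · rw [Module.End.mem_eigenspace_iff] at hz1
      have : z ∈ Z ⊓ Module.End.eigenspace (f i) μ :=
        ⟨hz, Module.End.mem_eigenspace_iff.2 (congrArg Subtype.val hz1)⟩
      rw [e, Submodule.mem_bot] at this
      exact Subtype.ext this
    · refine ⟨hZi j w hw.1, Module.End.mem_eigenspace_iff.2 ?_⟩
      rw [← Module.End.mul_apply, hc, Module.End.mul_apply, Module.End.mem_eigenspace_iff.1 hw.2, map_smul]
    · rcases Finset.mem_insert.1 hj with rfl | hj
      · exact ⟨μ, fun w hw => Module.End.mem_eigenspace_iff.1 hw.2⟩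
      · obtain ⟨ν, hν⟩ := hZs j hj
        exact ⟨ν, fun w hw => hν w hw.1⟩

namespace Cover

variable [Finite W] {B : LinearMap.BilinForm (ZMod p) W} {Γ : Subgroup (W ≃ₗ[ZMod p] W)}

/-- the quartic identity for a normalised finite subgroup -/
theorem sum_sq (h : Cover B Γ) (h5 : p ≠ 5) {A : Subgroup (W ≃ₗ[ZMod p] W)} [Fintype A]
    (hn : ∀ g ∈ Γ, ∀ a ∈ A, g * a * g⁻¹ ∈ A) (v : W) :
    ∑ a : A, B v ((a : W ≃ₗ[ZMod p] W) v) ^ 2 = 0 := by
  have h2 := h.natCast_ne_zero (n := 2) (by norm_num) (by norm_num)
  obtain ⟨g, hg, hgv⟩ := h.cover v 2 (by simpa using h2)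
  let π : Equiv.Perm A := Equiv.ofBijective (fun a => ⟨g * a.1 * g⁻¹, hn g hg a a.2⟩)
    ((Finite.injective_iff_bijective).1 fun a b e => Subtype.ext (by simpa using congrArg Subtype.val e))
  refine sum_sq_eq_zero B (fun a : A => ((a : W ≃ₗ[ZMod p] W) : W →ₗ[ZMod p] W)) g (h.inv g hg) π
    (fun a => Or.inl fun w => ?_) (two_pow_four_ne_one h.five h5) hgv
  show g (a.1 w) = (g * a.1 * g⁻¹) (g w)
  rw [LinearEquiv.mul_apply, LinearEquiv.mul_apply]
  exact congrArg (fun z => g (a.1 z)) (g.symm_apply_apply w).symm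

/-- abelian normal subgroups of a covering group have exponent two -/
theorem sq_eq_one_of_abelian (h : Cover B Γ) (h5 : p ≠ 5) {A : Subgroup (W ≃ₗ[ZMod p] W)} (hA : A ≤ Γ)
    (hn : ∀ g ∈ Γ, ∀ a ∈ A, g * a * g⁻¹ ∈ A) (hab : ∀ a ∈ A, ∀ b ∈ A, a * b = b * a)
    {a : W ≃ₗ[ZMod p] W} (ha : a ∈ A) : a * a = 1 := by
  classical
  haveI : Fintype A := Fintype.ofFinite A
  by_contra hne
  set L := AlgebraicClosure (ZMod p)
  let c : A → LinearMap.BilinForm (ZMod p) W := fun x =>
    B.compl₂ ((x : W ≃ₗ[ZMod p] W) : W →ₗ[ZMod p] W)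
  have h2 := h.natCast_ne_zero (n := 2) (by norm_num) (by norm_num)
  have h3 := h.natCast_ne_zero (n := 3) (by norm_num) (by norm_num)
  have hq := quart_baseChange (L := L) c
    (quart_eq_zero (by simpa using h2) (by simpa using h3) c (fun v => h.sum_sq h5 hn v))
  have hinjL : Function.Injective (algebraMap (ZMod p) L) := (algebraMap (ZMod p) L).injective
  have hΦ : ∀ v : L ⊗[ZMod p] W, ∑ x, (c x).baseChange L v v ^ 2 = 0 := by
    intro v
    have := hq v v v v
    have e : quart (fun x => (c x).baseChange L) v v v v =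
        (12 : L) * ∑ x, (c x).baseChange L v v ^ 2 := by
      rw [quart, Finset.mul_sum]; exact Finset.sum_congr rfl fun x _ => by ring
    rw [e] at this
    refine (mul_eq_zero.1 this).resolve_left fun h12 => ?_
    have : algebraMap (ZMod p) L (((2 : ℕ) : ZMod p) * ((2 : ℕ) : ZMod p) * ((3 : ℕ) : ZMod p)) = 0 := by
      rw [← h12]; simp only [map_mul, map_natCast]; norm_num
    exact mul_ne_zero (mul_ne_zero h2 h2) h3 (hinjL (this.trans (map_zero _).symm))
  let X : A → Module.End L (L ⊗[ZMod p] W) := fun x =>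
    ((x : W ≃ₗ[ZMod p] W) : W →ₗ[ZMod p] W).baseChange L
  have hXmul : ∀ x y : A, X (x * y) = X x * X y := fun x y =>
    LinearMap.ext fun v => by
      induction v using TensorProduct.induction_on with
      | zero => simp
      | add v w hv hw => simp only [map_add, hv, hw]
      | tmul r v => simp [X, LinearMap.baseChange_tmul]
  have hX1 : X 1 = 1 := LinearMap.ext fun v => by
    induction v using TensorProduct.induction_on with
    | zero => simp
    | add v w hv hw => simp only [map_add, hv, hw]
    | tmul r v => simp [X, LinearMap.baseChange_tmul]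
  let Xh : A →* Module.End L (L ⊗[ZMod p] W) := { toFun := X, map_one' := hX1, map_mul' := hXmul }
  have hcm : ∀ x y : A, X x * X y = X y * X x := fun x y => by
    rw [← hXmul, ← hXmul]
    exact congrArg X (Subtype.ext (hab x x.2 y y.2))
  set a' : A := ⟨a, ha⟩
  set Z := X (a' * a')
  obtain ⟨n, hn0, hn1⟩ : ∃ n : ℕ, 0 < n ∧ (a' * a') ^ n = 1 ∧ (n : ZMod p) ≠ 0 :=
    ⟨orderOf (a' * a'), orderOf_pos _, pow_orderOf_eq_one _, fun e => h.cop
      (((ZMod.natCast_eq_zero_iff _ p).1 e).trans ((orderOf_dvd_natCard _).trans (Subgroup.card_dvd_of_le hA)))⟩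
  obtain ⟨hn1, hnp⟩ := hn1
  set R := LinearMap.range (Z - 1)
  have hRne : R ≠ ⊥ := by
    intro e
    have e := LinearMap.range_eq_bot.1 e
    obtain ⟨w, hw⟩ : ∃ w, (a * a) w ≠ w := by
      by_contra hc; push Not at hc; exact hne (LinearEquiv.ext hc)
    refine hw ?_
    have he := LinearMap.congr_fun e ((1 : L) ⊗ₜ[ZMod p] w)
    rw [LinearMap.sub_apply, LinearMap.zero_apply, sub_eq_zero] at he
    simp only [Z, X, LinearMap.baseChange_tmul, Module.End.one_apply] at he
    exact (Module.Flat.tensorProduct_mk_injective (R := ZMod p) (M := W) (S := L)) he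
  have hRinv : ∀ x, ∀ r ∈ R, X x r ∈ R := by
    rintro x _ ⟨r, rfl⟩
    exact ⟨X x r, by
      simp only [LinearMap.sub_apply, Module.End.one_apply, map_sub, Z]
      rw [← Module.End.mul_apply, hcm, Module.End.mul_apply]⟩
  obtain ⟨E, hER, hE, -, hEs⟩ := exists_common_eigenvector X hcm Finset.univ R hRne hRinv
  obtain ⟨u, huE, hu⟩ := (Submodule.ne_bot_iff E).1 hE
  choose lam hlam using fun x : A => hEs x (Finset.mem_univ x)
  have hlu : ∀ x, X x u = lam x • u := fun x => hlam x u huE
  have hlmul : ∀ x y, lam (x * y) = lam x * lam y := fun x y => smul_left_injective L hu <| by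
    show lam (x * y) • u = (lam x * lam y) • u
    rw [← hlu, hXmul, Module.End.mul_apply, hlu, map_smul, hlu, smul_smul, mul_comm]
  have hl1 : lam 1 = 1 := smul_left_injective L hu <| by
    show lam 1 • u = (1 : L) • u
    rw [← hlu, hX1, one_smul, Module.End.one_apply]
  have hsq : lam (a' * a') ≠ 1 := by
    intro e
    obtain ⟨r, hr⟩ := hER huE
    have hs : ∀ i : ℕ, (Z ^ i) u = u := by
      intro i
      induction i with
      | zero => rw [pow_zero, Module.End.one_apply]
      | succ i ih => rw [pow_succ, Module.End.mul_apply, hlu, e, one_smul, ih]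
    have hz : (∑ i ∈ Finset.range n, Z ^ i) u = 0 := by
      rw [← hr, ← Module.End.mul_apply]
      refine (congrArg (fun T : Module.End L (L ⊗[ZMod p] W) => T r) (geom_sum_mul Z n)).trans ?_
      rw [show Z ^ n = 1 from (map_pow Xh (a' * a') n).symm.trans (by rw [hn1, map_one])]
      simp
    rw [LinearMap.sum_apply, Finset.sum_congr rfl fun i _ => hs i, Finset.sum_const, Finset.card_range,
      ← Nat.cast_smul_eq_nsmul L] at hz
    rcases smul_eq_zero.1 hz with h0 | h0
    · refine hnp (hinjL ?_)
      rw [map_natCast, map_zero]; exact h0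
    · exact hu h0
  set BL := B.baseChange L
  have hinv : ∀ x : A, ∀ v w, BL (X x v) (X x w) = BL v w := fun x => baseChange_inv (h.inv x.1 (hA x.2))
  have hskew := baseChange_skew (L := L) h.skew
  -- a partner of `u`
  obtain ⟨w₀, hw₀⟩ : ∃ w₀, BL u w₀ ≠ 0 := by
    by_contra hc
    push Not at hc
    haveI : FiniteDimensional (ZMod p) W := Module.Finite.of_finite
    set b := Module.finBasis (ZMod p) W
    have hBinj : Function.Injective B := (injective_iff_map_eq_zero B).2 fun v hv =>
      h.nd v fun w => LinearMap.congr_fun hv w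
    have hsur := (LinearMap.injective_iff_surjective_of_finrank_eq_finrank
      (Subspace.dual_finrank_eq (K := ZMod p) (V := W)).symm).1 hBinj
    refine hu ((Algebra.TensorProduct.basis L b).repr.map_eq_zero_iff.1 (Finsupp.ext fun i => ?_))
    obtain ⟨y, hy⟩ := hsur (b.coord i)
    have key : ∀ v, BL v ((1 : L) ⊗ₜ[ZMod p] y) = -((Algebra.TensorProduct.basis L b).repr v) i := by
      intro v
      induction v using TensorProduct.induction_on with
      | zero => simp
      | add v w hv hw => simp only [map_add, LinearMap.add_apply, Finsupp.add_apply, hv, hw, neg_add]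
      | tmul r v =>
        rw [LinearMap.BilinForm.baseChange_tmul, mul_one, Algebra.TensorProduct.basis_repr_tmul, h.skew,
          hy, Finsupp.smul_apply, Finsupp.mapRange_apply]
        simp [Algebra.smul_def, mul_comm]
        ring
    have := key u
    rw [hc] at this
    simpa using this.symm
  set w := ∑ x : A, lam x • X x w₀
  have hlw : ∀ x, X x w = lam x⁻¹ • w := by
    intro x
    simp only [w, map_sum, map_smul, Finset.smul_sum, ← Module.End.mul_apply, ← hXmul]
    refine Fintype.sum_equiv (Equiv.mulLeft x) _ _ fun y => ?_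
    rw [Equiv.coe_mulLeft, smul_smul, ← hlmul, inv_mul_cancel_left]
  have huw : BL u w = (Fintype.card A : L) * BL u w₀ := by
    simp only [w, map_sum, map_smul, smul_eq_mul]
    rw [Finset.sum_congr rfl fun x _ => show lam x * BL u (X x w₀) = BL u w₀ from ?_, Finset.sum_const,
      Finset.card_univ, nsmul_eq_mul]
    conv_rhs => rw [← hinv x u w₀, hlu, map_smul, LinearMap.smul_apply, smul_eq_mul]
  have huw0 : BL u w ≠ 0 := by
    rw [huw]
    refine mul_ne_zero (fun e => h.cop ?_) hw₀
    have e' : (Fintype.card A : ZMod p) = 0 := hinjL (by rw [map_natCast, map_zero]; exact e)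
    rw [ZMod.natCast_eq_zero_iff, ← Nat.card_eq_fintype_card] at e'
    exact e'.trans (Subgroup.card_dvd_of_le hA)
  have hL2 : (2 : L) ≠ 0 := fun e => h2 (hinjL (by rw [map_natCast, map_zero]; exact_mod_cast e))
  have hdiag : ∀ v, BL v v = 0 := fun v =>
    (mul_eq_zero.1 (show (2 : L) * BL v v = 0 by linear_combination hskew v v)).resolve_left hL2
  have hval : ∀ x, (c x).baseChange L (u + w) (u + w) ^ 2 =
      BL u w ^ 2 * (lam (x⁻¹ * x⁻¹) + lam (x * x) - 2) := by
    intro x
    rw [baseChange_compl₂]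
    show BL (u + w) (X x (u + w)) ^ 2 = _
    have h1 : lam x⁻¹ * lam x = 1 := by rw [← hlmul, inv_mul_cancel, hl1]
    simp only [map_add, LinearMap.add_apply, hlu, hlw, map_smul, smul_eq_mul, hdiag, hlmul]
    rw [hskew u w]
    linear_combination (-2 * BL u w ^ 2) * h1
  have hnt : ∑ x : A, lam (x * x) = 0 := by
    have hcA : ∀ x y : A, x * y = y * x := fun x y => Subtype.ext (hab x x.2 y y.2)
    have e : lam (a' * a') * ∑ x : A, lam (x * x) = ∑ x : A, lam (x * x) := by
      rw [Finset.mul_sum]
      refine Fintype.sum_equiv (Equiv.mulLeft a') _ _ fun x => ?_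
      rw [Equiv.coe_mulLeft, ← hlmul]
      congr 1
      rw [mul_assoc a' a', mul_assoc a' x, ← mul_assoc x a' x, hcA x a', mul_assoc a' x x]
    by_contra hS
    exact hsq ((mul_eq_right₀ hS).1 e)
  have hnt' : ∑ x : A, lam (x⁻¹ * x⁻¹) = 0 := by
    rw [← hnt]
    exact Fintype.sum_equiv (Equiv.inv A) _ _ fun x => rfl
  have := hΦ (u + w)
  rw [Finset.sum_congr rfl fun x _ => hval x, ← Finset.mul_sum] at this
  rcases mul_eq_zero.1 this with h0 | h0
  · exact huw0 (sq_eq_zero_iff.1 h0)
  · rw [Finset.sum_sub_distrib, Finset.sum_add_distrib, hnt, hnt', Finset.sum_const, Finset.card_univ,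
      nsmul_eq_mul, add_zero, zero_sub, neg_eq_zero] at h0
    rcases mul_eq_zero.1 h0 with h0 | h0
    · refine h.cop ?_
      have e' : (Fintype.card A : ZMod p) = 0 := hinjL (by rw [map_natCast, map_zero]; exact h0)
      rw [ZMod.natCast_eq_zero_iff, ← Nat.card_eq_fintype_card] at e'
      exact e'.trans (Subgroup.card_dvd_of_le hA)
    · exact hL2 h0

end Cover

end Cfsg.Agent.DistinctSizes
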