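import Cfsg.Agent.Lib.Block.DistinctSizes.Quartic

/-!
# Restriction of covering groups to invariant subspaces
-/

set_option autoImplicit false

set_option linter.unusedSectionVars false

namespace Cfsg.Agent.DistinctSizes

universe u

variable {p : ℕ} [hp : Fact p.Prime] {W : Type u} [AddCommGroup W] [Module (ZMod p) W]

/-- the automorphisms preserving a subspace -/
def preserver (Y : Submodule (ZMod p) W) : Subgroup (W ≃ₗ[ZMod p] W) where
  carrier := {g | ∀ w, g w ∈ Y ↔ w ∈ Y}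
  one_mem' := fun _ => Iff.rfl
  mul_mem' := fun {g g'} hg hg' w => (hg (g' w)).trans (hg' w)
  inv_mem' := fun {g} hg w => by
    rw [← hg (g⁻¹ w), show g (g⁻¹ w) = w from g.apply_symm_apply w]

/-- restriction to an invariant subspace -/
noncomputable def restrictHom (Y : Submodule (ZMod p) W) : preserver Y →* (Y ≃ₗ[ZMod p] Y) where
  toFun g := LinearEquiv.ofBijective ((g.1 : W →ₗ[ZMod p] W).restrict fun w hw => (g.2 w).2 hw)
    ⟨fun a b e => Subtype.ext (g.1.injective (congrArg Subtype.val e)),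
      fun b => ⟨⟨g.1.symm b.1, (g.2 _).1 ((g.1.apply_symm_apply b.1).symm ▸ b.2)⟩,
        Subtype.ext (g.1.apply_symm_apply b.1)⟩⟩
  map_one' := LinearEquiv.ext fun _ => Subtype.ext rfl
  map_mul' := fun _ _ => LinearEquiv.ext fun _ => Subtype.ext rfl

/-- the restricted form -/
def restrictForm (B : LinearMap.BilinForm (ZMod p) W) (Y : Submodule (ZMod p) W) :
    LinearMap.BilinForm (ZMod p) Y :=
  B.compl₁₂ Y.subtype Y.subtype

@[simp] theorem restrictForm_apply (B : LinearMap.BilinForm (ZMod p) W) (Y : Submodule (ZMod p) W)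
    (a b : Y) : restrictForm B Y a b = B a.1 b.1 := rfl

/-- the image of a group of automorphisms on a subspace it preserves -/
noncomputable def imageOn (Y : Submodule (ZMod p) W) (S : Subgroup (W ≃ₗ[ZMod p] W)) :
    Subgroup (Y ≃ₗ[ZMod p] Y) :=
  (S.subgroupOf (preserver Y)).map (restrictHom Y)

theorem mem_imageOn {Y : Submodule (ZMod p) W} {S : Subgroup (W ≃ₗ[ZMod p] W)}
    {g : Y ≃ₗ[ZMod p] Y} :
    g ∈ imageOn Y S ↔ ∃ h ∈ S, h ∈ preserver Y ∧ ∀ y : Y, (g y : W) = h y.1 := by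
  constructor
  · rintro ⟨h, hh, rfl⟩
    exact ⟨h.1, hh, h.2, fun y => rfl⟩
  · rintro ⟨h, hh, hY, e⟩
    exact ⟨⟨h, hY⟩, hh, LinearEquiv.ext fun y => Subtype.ext (e y).symm⟩

theorem exists_imageOn {Y : Submodule (ZMod p) W} {S : Subgroup (W ≃ₗ[ZMod p] W)}
    {h : W ≃ₗ[ZMod p] W} (hh : h ∈ S) (hY : h ∈ preserver Y) :
    ∃ g ∈ imageOn Y S, ∀ y : Y, (g y : W) = h y.1 :=
  ⟨restrictHom Y ⟨h, hY⟩, mem_imageOn.2 ⟨h, hh, hY, fun _ => rfl⟩, fun _ => rfl⟩

theorem preserver_of_maps [Finite W] {Y : Submodule (ZMod p) W} {g : W ≃ₗ[ZMod p] W}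
    (h : ∀ y ∈ Y, g y ∈ Y) : g ∈ preserver Y := by
  intro w
  refine ⟨fun hw => ?_, h w⟩
  obtain ⟨y, hy⟩ := (Finite.injective_iff_surjective (f := fun y : Y => (⟨g y.1, h y.1 y.2⟩ : Y))).1
    (fun a b e => Subtype.ext (g.injective (congrArg Subtype.val e))) ⟨g w, hw⟩
  rw [← g.injective (congrArg Subtype.val hy : g y.1 = g w)]
  exact y.2

/-- the vectors fixed by every element of a group -/
def fixedSpace (A : Subgroup (W ≃ₗ[ZMod p] W)) : Submodule (ZMod p) W where
  carrier := {w | ∀ a ∈ A, a w = w}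
  zero_mem' := fun a _ => map_zero a
  add_mem' := fun {x y} hx hy a ha => by rw [map_add, hx a ha, hy a ha]
  smul_mem' := fun c x hx a ha => by rw [map_smul, hx a ha]

theorem fixedSpace_preserver [Finite W] {A : Subgroup (W ≃ₗ[ZMod p] W)} {g : W ≃ₗ[ZMod p] W}
    (h : ∀ a ∈ A, g⁻¹ * a * g ∈ A) : g ∈ preserver (fixedSpace A) :=
  preserver_of_maps fun y hy a ha => by
    have := hy _ (h a ha)
    simp only [LinearEquiv.mul_apply] at this
    conv_rhs => rw [← this]
    exact (g.apply_symm_apply _).symm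

namespace Cover

variable [Finite W] {B : LinearMap.BilinForm (ZMod p) W} {Γ : Subgroup (W ≃ₗ[ZMod p] W)} (h : Cover B Γ)
include h

/-- the fixed space of a subgroup is nondegenerate -/
theorem nd_fixedSpace {A : Subgroup (W ≃ₗ[ZMod p] W)} (hA : A ≤ Γ) {w : W} (hw : w ∈ fixedSpace A)
    (h0 : ∀ y ∈ fixedSpace A, B w y = 0) : w = 0 := by
  classical
  haveI : Fintype A := Fintype.ofFinite A
  refine h.nd w fun u => ?_
  have hs : ∑ a : A, (a : W ≃ₗ[ZMod p] W) u ∈ fixedSpace A := by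
    intro b hb
    rw [map_sum]
    exact Fintype.sum_equiv (Equiv.mulLeft (⟨b, hb⟩ : A)) _ _ fun a => rfl
  have h1 := h0 _ hs
  have h2 : ∀ a : A, B w ((a : W ≃ₗ[ZMod p] W) u) = B w u := fun a => by
    nth_rw 1 [← hw a.1 a.2]; exact h.inv a.1 (hA a.2) w u
  simp only [map_sum, h2, Finset.sum_const, Finset.card_univ, nsmul_eq_mul] at h1
  refine (mul_eq_zero.1 h1).resolve_left fun e => h.cop ?_
  rw [ZMod.natCast_eq_zero_iff, ← Nat.card_eq_fintype_card] at e
  exact e.trans (Subgroup.card_dvd_of_le hA)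

/-- restriction of a covering group -/
theorem restrict {Y : Submodule (ZMod p) W} {S : Subgroup (W ≃ₗ[ZMod p] W)} (hS : S ≤ Γ)
    (hnd : ∀ w ∈ Y, (∀ y ∈ Y, B w y = 0) → w = 0)
    (hcov : ∀ v ∈ Y, ∀ c : ZMod p, c ≠ 0 → ∃ g ∈ S, g ∈ preserver Y ∧ g v = c • v) :
    Cover (restrictForm B Y) (imageOn Y S) where
  five := h.five
  alt v := h.alt v.1
  nd v hv := Subtype.ext (hnd v.1 v.2 fun y hy => hv ⟨y, hy⟩)
  inv g hg v w := by
    obtain ⟨g', hg', -, e⟩ := mem_imageOn.1 hg
    rw [restrictForm_apply, restrictForm_apply, e, e]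
    exact h.inv g' (hS hg') _ _
  cop hd := by
    refine h.cop (hd.trans ((Subgroup.card_map_dvd _ _).trans ?_))
    refine dvd_trans ?_ (Subgroup.card_dvd_of_le hS)
    exact Subgroup.card_dvd_of_injective ((preserver Y).subtype.subgroupComap S)
      fun a b e => Subtype.ext (Subtype.ext (congrArg (fun z : S => (z : W ≃ₗ[ZMod p] W)) e))
  solv := by
    haveI := h.solv
    haveI : Group.IsSolvable S :=
      Group.isSolvable_of_isSolvable_injective (Subgroup.inclusion_injective hS)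
    haveI : Group.IsSolvable (S.subgroupOf (preserver Y)) :=
      Group.isSolvable_of_isSolvable_injective (f := (preserver Y).subtype.subgroupComap S)
        fun a b e => Subtype.ext (Subtype.ext (congrArg (fun z : S => (z : W ≃ₗ[ZMod p] W)) e))
    exact Group.isSolvable_of_surjective ((restrictHom Y).subgroupMap_surjective _)
  cover v c hc := by
    obtain ⟨g, hg, hgY, e⟩ := hcov v.1 v.2 c hc
    obtain ⟨g', hg', e'⟩ := exists_imageOn hg hgY
    exact ⟨g', hg', Subtype.ext ((e' v).trans e)⟩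

end Cover

end Cfsg.Agent.DistinctSizes
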