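import Cfsg.Agent.Lib.Block.DistinctSizes.Blocks
import Cfsg.Agent.Lib.Block.DistinctSizes.PlaneSeven
import Cfsg.Agent.Lib.Block.DistinctSizes.Basic

/-!
# No rational covering group in characteristic at least seven

An induced class function which is negated by a rationality automorphism vanishes; evaluated
near a block it gives the vanishing of the trace sign, and then of the orientation of the axes.
-/

set_option autoImplicit false

set_option linter.unusedSectionVars false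

namespace Cfsg.Agent.DistinctSizes

universe u

open Classical in
/-- the summand of the class function induced by `φ ∘ ρ` -/
noncomputable def indTerm {G L : Type*} [Group G] [Group L] (H : Subgroup G) (ρ : H →* L) (φ : L → ℤ)
    (g x : G) : ℤ :=
  if hh : g⁻¹ * x * g ∈ H then φ (ρ ⟨_, hh⟩) else 0

theorem indTerm_of_mem {G L : Type*} [Group G] [Group L] {H : Subgroup G} (ρ : H →* L) (φ : L → ℤ)
    {g x : G} (hh : g⁻¹ * x * g ∈ H) : indTerm H ρ φ g x = φ (ρ ⟨_, hh⟩) := dif_pos hh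

theorem indTerm_of_not_mem {G L : Type*} [Group G] [Group L] {H : Subgroup G} (ρ : H →* L) (φ : L → ℤ)
    {g x : G} (hh : g⁻¹ * x * g ∉ H) : indTerm H ρ φ g x = 0 := dif_neg hh

/-- an induced function negated by a rationality automorphism vanishes -/
theorem induced_vanish {G L : Type*} [Group G] [Finite G] [Group L] (hG : RatGroup G) (H : Subgroup G)
    (ρ : H →* L) [Fintype ρ.ker] (φ : L → ℤ) {m : ℕ} (hm : m.Coprime (Nat.card G))
    (hφm : ∀ h : H, φ (ρ (h ^ m)) = -φ (ρ h))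
    (hφc : ∀ k h : H, φ (ρ (k⁻¹ * h * k)) = φ (ρ h))
    (hcancel : ∀ (y : H) (g : G), g ∉ H → ∑ s : ρ.ker, indTerm H ρ φ g ((y * s.1 : H) : G) = 0)
    (y : H) : φ (ρ y) = 0 := by
  classical
  haveI : Fintype G := Fintype.ofFinite G
  haveI : Fintype H := Fintype.ofFinite H
  set f : G → ℤ := fun x => ∑ g, indTerm H ρ φ g x with hf
  have hconj : ∀ a x : G, f (a * x * a⁻¹) = f x := by
    intro a x
    refine Fintype.sum_equiv (Equiv.mulLeft a⁻¹) _ _ fun g => ?_
    simp only [Equiv.coe_mulLeft]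
    have e : g⁻¹ * (a * x * a⁻¹) * g = (a⁻¹ * g)⁻¹ * x * (a⁻¹ * g) := by group
    by_cases hh : g⁻¹ * (a * x * a⁻¹) * g ∈ H
    · rw [indTerm_of_mem ρ φ hh, indTerm_of_mem ρ φ (e ▸ hh)]
      exact congrArg (fun z => φ (ρ z)) (Subtype.ext e)
    · rw [indTerm_of_not_mem ρ φ hh, indTerm_of_not_mem ρ φ (e ▸ hh)]
  have hpow : ∀ x : G, f (x ^ m) = -f x := by
    intro x
    simp only [hf]
    rw [← Finset.sum_neg_distrib]
    refine Finset.sum_congr rfl fun g _ => ?_
    have e : g⁻¹ * x ^ m * g = (g⁻¹ * x * g) ^ m := by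
      have := conj_pow (i := m) (a := g⁻¹) (b := x)
      rw [inv_inv] at this
      exact this.symm
    by_cases hh : g⁻¹ * x * g ∈ H
    · have hh' : g⁻¹ * x ^ m * g ∈ H := e ▸ H.pow_mem hh m
      rw [indTerm_of_mem ρ φ hh', indTerm_of_mem ρ φ hh, ← hφm]
      exact congrArg (fun z => φ (ρ z)) (Subtype.ext e)
    · have hh' : g⁻¹ * x ^ m * g ∉ H := by
        intro h'
        rw [e] at h'
        obtain ⟨k, hk⟩ := exists_pow_eq_self_of_coprime
          (Nat.Coprime.coprime_dvd_right (orderOf_dvd_natCard (g⁻¹ * x * g)) hm)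
        exact hh (hk ▸ H.pow_mem h' k)
      rw [indTerm_of_not_mem ρ φ hh', indTerm_of_not_mem ρ φ hh, neg_zero]
  have hzero : ∀ x : G, f x = 0 := by
    intro x
    obtain ⟨a, ha⟩ := hG x m (Nat.Coprime.coprime_dvd_right (orderOf_dvd_natCard x) hm)
    have := hpow x
    rw [← ha, hconj] at this
    omega
  have h1 : ∑ s : ρ.ker, f ((y * s.1 : H) : G) = 0 := Finset.sum_eq_zero fun s _ => hzero _
  simp only [hf] at h1
  rw [Finset.sum_comm, ← Finset.sum_subset (Finset.subset_univ (Finset.univ.filter fun g : G => g ∈ H))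
    (fun g _ hg => hcancel y g (by simpa using hg))] at h1
  have hin : ∀ g ∈ Finset.univ.filter (fun g : G => g ∈ H),
      ∑ s : ρ.ker, indTerm H ρ φ g ((y * s.1 : H) : G) = Fintype.card ρ.ker * φ (ρ y) := by
    intro g hg
    rw [Finset.mem_filter] at hg
    have : ∀ s : ρ.ker, indTerm H ρ φ g ((y * s.1 : H) : G) = φ (ρ y) := fun s => by
      rw [indTerm_of_mem ρ φ (H.mul_mem (H.mul_mem (H.inv_mem hg.2) (y * s.1 : H).2) hg.2)]
      refine (hφc ⟨g, hg.2⟩ (y * s.1)).trans ?_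
      rw [map_mul, MonoidHom.mem_ker.1 s.2, mul_one]
    rw [Finset.sum_congr rfl fun s _ => this s, Finset.sum_const, Finset.card_univ, nsmul_eq_mul]
  rw [Finset.sum_congr rfl hin, Finset.sum_const, nsmul_eq_mul, ← mul_assoc] at h1
  refine (mul_eq_zero.1 h1).resolve_left (mul_ne_zero ?_ ?_)
  · exact_mod_cast (Finset.card_pos.2 ⟨1, Finset.mem_filter.2 ⟨Finset.mem_univ _, H.one_mem⟩⟩).ne'
  · exact_mod_cast Fintype.card_ne_zero

/-- translating by a kernel element which shifts the values -/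
theorem indTerm_translate {G L : Type*} [Group G] [Group L] {H : Subgroup G} (ρ : H →* L) (φ : L → ℤ)
    {g r : G} (hr : g⁻¹ * r * g ∈ H) (x : G) :
    (g⁻¹ * (x * r) * g ∈ H ↔ g⁻¹ * x * g ∈ H) ∧
      ∀ hh : g⁻¹ * x * g ∈ H, indTerm H ρ φ g (x * r) = φ (ρ ⟨_, hh⟩ * ρ ⟨_, hr⟩) := by
  have e : g⁻¹ * (x * r) * g = g⁻¹ * x * g * (g⁻¹ * r * g) := by group
  refine ⟨?_, fun hh => ?_⟩
  · rw [e]; exact H.mul_mem_cancel_right hr
  · rw [indTerm_of_mem ρ φ (e ▸ H.mul_mem hh hr), ← map_mul]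
    exact congrArg (fun z => φ (ρ z)) (Subtype.ext e)

namespace Cover

variable [hp : Fact (Nat.Prime 7)] {W : Type u} [AddCommGroup W] [Module (ZMod 7) W] [Finite W]
  {B : LinearMap.BilinForm (ZMod 7) W} {Γ : Subgroup (W ≃ₗ[ZMod 7] W)} (h : Cover B Γ)
include h

theorem no_rational_seven (hrat : RatGroup Γ) {U : Submodule (ZMod 7) W} (hU : IsBlock B Γ U)
    {i j : U ≃ₗ[ZMod 7] U} (P : PlaneQ (restrictForm B U) (imageOn U Γ) i j) : False := by
  classical
  haveI : Nontrivial U := Submodule.nontrivial_iff_ne_bot.2 hU.ne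
  let H : Subgroup Γ := (preserver U).subgroupOf Γ
  let ρ₁ : H →* (U ≃ₗ[ZMod 7] U) := (restrictHom U).comp
    { toFun := fun x => ⟨x.1.1, x.2⟩, map_one' := rfl, map_mul' := fun _ _ => rfl }
  have hρ₁ : ∀ x, ρ₁ x ∈ imageOn U Γ := fun x => mem_imageOn.2 ⟨x.1.1, x.1.2, x.2, fun _ => rfl⟩
  let ρ : H →* imageOn U Γ := ρ₁.codRestrict _ hρ₁
  have hρ : ∀ (x : H) (u : U), (((ρ x).1 u : U) : W) = x.1.1 u.1 := fun x u => rfl
  have hsurj : ∀ z : imageOn U Γ, ∃ x : H, ρ x = z := fun z => by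
    obtain ⟨x, hx, hxU, e⟩ := mem_imageOn.1 z.2
    exact ⟨⟨⟨x, hx⟩, hxU⟩, Subtype.ext (LinearEquiv.ext fun u => Subtype.ext (e u).symm)⟩
  haveI : Fintype ρ.ker := Fintype.ofFinite _
  obtain ⟨v₀, hv₀⟩ := exists_ne (0 : U)
  have hv₀' : v₀.1 ≠ 0 := fun e => hv₀ (Subtype.ext e)
  have hsep : ∀ c : Γ, c ∉ H → ∀ a ∈ U, ∀ b ∈ U, B a (c.1 b) = 0 := fun c hc =>
    (hU.sep c.1 c.2).resolve_left hc
  -- from two blocks the eigen elements on the second are determined up to the kernel on the first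
  have hindep : ∀ g : Γ, g ∉ H → ∀ E : Subgroup (imageOn U Γ),
      (∀ (r : H) (hr : g⁻¹ * r.1 * g ∈ H), r ∈ ρ.ker → ρ ⟨_, hr⟩ ∈ E) →
      ∀ u u' : U, u ≠ 0 → u' ≠ 0 → ∃ z z' : imageOn U Γ,
        z.1 u = (2 : ZMod 7) • u ∧ z'.1 u' = (2 : ZMod 7) • u' ∧ z⁻¹ * z' ∈ E := by
    intro g hg E hE
    have key : ∀ u : U, u ≠ 0 → ∃ x : H, ∃ hx : g⁻¹ * x.1 * g ∈ H,
        (ρ x).1 v₀ = (2 : ZMod 7) • v₀ ∧ (ρ ⟨_, hx⟩).1 u = (2 : ZMod 7) • u := by
      intro u hu
      obtain ⟨c0, hc0, hcv⟩ := h.cover (v₀.1 + g.1 u.1) 3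
        (h.natCast_ne_zero (n := 3) (by norm_num) (by norm_num))
      set c : Γ := ⟨c0, hc0⟩
      have hpair : ∀ y, B (v₀.1 + g.1 u.1) y = B (v₀.1 + g.1 u.1) y := fun _ => rfl
      have hgo : ∀ a ∈ U, ∀ b ∈ U, B (g.1 a) b = 0 := fun a ha b hb => by
        rw [h.skew, hsep g hg b hb a ha, neg_zero]
      have hA : c ∈ H ∨ g⁻¹ * c ∈ H := by
        by_contra hc
        push Not at hc
        refine hv₀' (hU.nd v₀.1 v₀.2 fun y hy => ?_)
        have h1 := h.inv c0 hc0 (v₀.1 + g.1 u.1) y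
        have h2 := hsep _ hc.1 v₀.1 v₀.2 y hy
        have h3 : B (g.1 u.1) (c0 y) = 0 := by
          have h4 := hsep _ hc.2 u.1 u.2 y hy
          rw [← h.inv g.1 g.2] at h4
          simpa [LinearEquiv.mul_apply, apply_inv', c] using h4
        simp only [hcv, map_smul, LinearMap.smul_apply, map_add, LinearMap.add_apply, h3,
          show B v₀.1 (c0 y) = 0 from h2, hgo u.1 u.2 y hy, add_zero, smul_zero] at h1
        exact h1.symm
      have hB : c * g ∈ H ∨ g⁻¹ * c * g ∈ H := by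
        by_contra hc
        push Not at hc
        refine hu (Subtype.ext (hU.nd u.1 u.2 fun y hy => ?_))
        have h1 := h.inv c0 hc0 (v₀.1 + g.1 u.1) (g.1 y)
        have h2 : B v₀.1 (c0 (g.1 y)) = 0 := hsep _ hc.1 v₀.1 v₀.2 y hy
        have h3 : B (g.1 u.1) (c0 (g.1 y)) = 0 := by
          have h4 := hsep _ hc.2 u.1 u.2 y hy
          rw [← h.inv g.1 g.2] at h4
          simpa [LinearEquiv.mul_apply, apply_inv', c] using h4
        simp only [hcv, map_smul, LinearMap.smul_apply, map_add, LinearMap.add_apply, h2, h3,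
          hsep g hg v₀.1 v₀.2 y hy, h.inv g.1 g.2, zero_add, smul_zero] at h1
        exact h1.symm
      obtain ⟨hx1, hx2⟩ : c * c ∈ H ∧ g⁻¹ * (c * c) * g ∈ H := by
        rcases hA with a1 | a2 <;> rcases hB with b1 | b2
        · exact absurd (by simpa [← mul_assoc] using H.mul_mem (H.inv_mem a1) b1) hg
        · exact ⟨H.mul_mem a1 a1, by
            rw [show g⁻¹ * (c * c) * g = g⁻¹ * c * g * (g⁻¹ * c * g) by group]; exact H.mul_mem b2 b2⟩
        · refine ⟨?_, ?_⟩
          · rw [show c * c = c * g * (g⁻¹ * c) by group]; exact H.mul_mem b1 a2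
          · rw [show g⁻¹ * (c * c) * g = g⁻¹ * c * (c * g) by group]; exact H.mul_mem a2 b1
        · exact absurd (by simpa [← mul_assoc] using H.mul_mem (H.inv_mem a2) b2) hg
      have h9 : (c * c).1 (v₀.1 + g.1 u.1) = (2 : ZMod 7) • (v₀.1 + g.1 u.1) := by
        show c0 (c0 _) = _
        rw [hcv, map_smul, hcv, smul_smul, seven_trace.2.2.2.1]
      -- the two components
      have ha : (c * c).1 v₀.1 ∈ U := (hx1 v₀.1).2 v₀.2
      have hb : (g⁻¹ * (c * c) * g).1 u.1 ∈ U := (hx2 u.1).2 u.2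
      have e : (c * c).1 v₀.1 - (2 : ZMod 7) • v₀.1 =
          g.1 ((2 : ZMod 7) • u.1 - (g⁻¹ * (c * c) * g).1 u.1) := by
        simp only [Subgroup.coe_mul, InvMemClass.coe_inv, LinearEquiv.mul_apply] at h9 ⊢
        rw [map_sub, apply_inv', map_smul, sub_eq_sub_iff_add_eq_add, ← map_add, ← map_add, h9, smul_add, add_comm]
      have e0 : (c * c).1 v₀.1 - (2 : ZMod 7) • v₀.1 = 0 := by
        refine hU.nd _ (U.sub_mem ha (U.smul_mem _ v₀.2)) fun y hy => ?_
        rw [e]
        exact hgo _ (U.sub_mem (U.smul_mem _ u.2) hb) y hy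
      refine ⟨⟨c * c, hx1⟩, hx2, Subtype.ext ?_, Subtype.ext ?_⟩
      · exact sub_eq_zero.1 e0
      · rw [e0] at e
        exact (sub_eq_zero.1 (g.1.map_eq_zero_iff.1 e.symm)).symm
    intro u u' hu hu'
    obtain ⟨x, hx, ev, eu⟩ := key u hu
    obtain ⟨x', hx', ev', eu'⟩ := key u' hu'
    refine ⟨_, _, eu, eu', ?_⟩
    have hmem : g⁻¹ * (x⁻¹ * x' : H).1 * g ∈ H := by
      rw [show g⁻¹ * (x⁻¹ * x' : H).1 * g = (g⁻¹ * x.1 * g)⁻¹ * (g⁻¹ * x'.1 * g) by
        simp only [Subgroup.coe_mul, InvMemClass.coe_inv]; group]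
      exact H.mul_mem (H.inv_mem hx) hx'
    have := hE (x⁻¹ * x') hmem (by
      rw [MonoidHom.mem_ker, map_mul, map_inv, inv_mul_eq_one]
      exact Subtype.ext (P.cov.eq_of_apply P.dim (ρ x).2 (ρ x').2 hv₀ (ev.trans ev'.symm)))
    rw [← map_inv, ← map_mul]
    convert this using 2
    refine Subtype.ext ?_
    simp only [Subgroup.coe_mul, InvMemClass.coe_inv]
    group
  -- the first function: the sign of the trace
  obtain ⟨m, hm, hm19⟩ : ∃ m : ℕ, m.Coprime (Nat.card Γ) ∧ m % 24 = 19 := by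
    haveI : NeZero (24 * Nat.card Γ) := ⟨mul_ne_zero (by norm_num) Nat.card_pos.ne'⟩
    obtain ⟨x, hx⟩ := ZMod.unitsMap_surjective (dvd_mul_right 24 (Nat.card Γ))
      (ZMod.unitOfCoprime 19 (by norm_num))
    refine ⟨(x : ZMod (24 * Nat.card Γ)).val,
      Nat.Coprime.coprime_dvd_right (dvd_mul_left _ _) (ZMod.val_coe_unit_coprime x), ?_⟩
    have h1 := congrArg (fun y : (ZMod 24)ˣ => (y : ZMod 24).val) hx
    simp only [ZMod.unitsMap_val, ZMod.coe_unitOfCoprime] at h1
    rw [ZMod.cast_eq_val, ZMod.val_natCast, ZMod.val_natCast] at h1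
    exact h1.trans (by norm_num)
  obtain ⟨n, hn, hn'⟩ : ∃ n ∈ imageOn U Γ, ∀ w, n w = -w :=
    ⟨i * i, (imageOn U Γ).mul_mem P.mem_i P.mem_i, fun w => P.qp.ii w⟩
  have htr : ∀ y : H, traceSign (ρ y).1 = 0 := by
    refine induced_vanish hrat H ρ (fun z => traceSign z.1) hm ?_ ?_ ?_
    · intro x
      rw [map_pow, SubmonoidClass.coe_pow, show m = 24 * (m / 24) + 19 by omega, pow_add, pow_mul,
        show (ρ x).1 ^ 24 = 1 from congrArg Subtype.val (P.pow_24 (ρ x)), one_pow, one_mul]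
      exact P.traceSign_pow19 (ρ x).2
    · intro k x
      have := traceSign_conj (ρ x).1 (ρ k).1⁻¹
      rw [inv_inv] at this
      rw [map_mul, map_mul, map_inv]
      exact this
    · intro y g hg
      let R : Subgroup ρ.ker :=
        { carrier := {r | g⁻¹ * r.1.1 * g ∈ H}
          one_mem' := by simp
          mul_mem' := fun {a b} ha hb => by
            show g⁻¹ * (a.1.1 * b.1.1) * g ∈ H
            rw [show g⁻¹ * (a.1.1 * b.1.1) * g = g⁻¹ * a.1.1 * g * (g⁻¹ * b.1.1 * g) by group]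
            exact H.mul_mem ha hb
          inv_mem' := fun {a} ha => by
            show g⁻¹ * a.1.1⁻¹ * g ∈ H
            rw [show g⁻¹ * a.1.1⁻¹ * g = (g⁻¹ * a.1.1 * g)⁻¹ by group]
            exact H.inv_mem ha }
      let θ : R →* imageOn U Γ :=
        { toFun := fun r => ρ ⟨g⁻¹ * r.1.1.1 * g, r.2⟩
          map_one' := by
            rw [show (⟨g⁻¹ * (1 : R).1.1.1 * g, (1 : R).2⟩ : H) = 1 from Subtype.ext (by simp), map_one]
          map_mul' := fun a b => by
            rw [← map_mul]; congr 1; refine Subtype.ext ?_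
            simp only [Subgroup.coe_mul]; group }
      by_cases hneg : ∃ r : R, θ r = ⟨n, hn⟩
      · obtain ⟨r, hr⟩ := hneg
        set S := ∑ s : ρ.ker, indTerm H ρ (fun z => traceSign z.1) g ((y * s.1 : H) : Γ) with hS
        have h1 : S = -S := by
          conv_lhs => rw [hS, ← Equiv.sum_comp (Equiv.mulRight r.1)]
          rw [hS, ← Finset.sum_neg_distrib]
          refine Finset.sum_congr rfl fun s _ => ?_
          have e : ((y * (Equiv.mulRight r.1 s).1 : H) : Γ) = ((y * s.1 : H) : Γ) * r.1.1.1 := by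
            simp [mul_assoc]
          rw [e]
          obtain ⟨hiff, hval⟩ := indTerm_translate ρ (fun z => traceSign z.1) r.2 ((y * s.1 : H) : Γ)
          by_cases hh : g⁻¹ * ((y * s.1 : H) : Γ) * g ∈ H
          · rw [hval hh, indTerm_of_mem ρ _ hh, show ρ ⟨_, r.2⟩ = ⟨n, hn⟩ from hr]
            exact traceSign_neg _ hn'
          · rw [indTerm_of_not_mem ρ _ hh, indTerm_of_not_mem ρ _ (mt hiff.1 hh), neg_zero]
        omega
      refine Finset.sum_eq_zero fun s _ => ?_
      by_cases hh : g⁻¹ * ((y * s.1 : H) : Γ) * g ∈ H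
      swap
      · exact indTerm_of_not_mem ρ _ hh
      rw [indTerm_of_mem ρ _ hh]
      by_contra hne
      obtain ⟨t, ht, ht'⟩ : ∃ t, (t = 3 ∨ t = 4) ∧ HasTrace (ρ ⟨_, hh⟩).1 t := by
        by_contra hcon
        push Not at hcon
        refine hne ?_
        simp only [traceSign]
        rw [if_neg (hcon 3 (Or.inl rfl)), if_neg (hcon 4 (Or.inr rfl))]
      obtain ⟨r, hr1⟩ : ∃ r : R, θ r ≠ 1 := by
        by_contra hall
        push Not at hall
        have hz : ∀ u u' : U, u ≠ 0 → u' ≠ 0 → ∃ z : imageOn U Γ,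
            z.1 u = (2 : ZMod 7) • u ∧ z.1 u' = (2 : ZMod 7) • u' := by
          intro u u' hu hu'
          obtain ⟨z, z', e, e', hE⟩ := hindep g hg ⊥ (fun r hr hk => by
            rw [Subgroup.mem_bot]; exact hall ⟨⟨r, hk⟩, hr⟩) u u' hu hu'
          rw [Subgroup.mem_bot, inv_mul_eq_one] at hE
          exact ⟨z, e, hE ▸ e'⟩
        obtain ⟨u', hu'⟩ := P.cov.partner P.dim hv₀
        have hu0 : u' ≠ 0 := fun e => hu' (by rw [e, map_zero])
        obtain ⟨z, e, e'⟩ := hz v₀ u' hv₀ hu0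
        have h1 := P.cov.inv z.1 z.2 v₀ u'
        rw [e, e', map_smul, map_smul, LinearMap.smul_apply, smul_eq_mul, smul_eq_mul, ← mul_assoc,
          mul_eq_right₀ hu', ← pow_two] at h1
        exact seven_trace.2.2.2.2.2.2.2.1 h1
      -- the image of `R` has exponent three
      have hcube : ∀ x ∈ θ.range, x ^ 3 = 1 := by
        intro x hx
        have hinv : ∀ y ∈ θ.range, y ^ 2 = 1 → y = 1 := by
          intro y hy hy2
          refine Subtype.ext ((P.cov.sq_one P.dim y.2 fun w => ?_).resolve_right fun e => ?_)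
          · rw [← LinearEquiv.mul_apply, ← pow_two, ← SubmonoidClass.coe_pow, hy2]; rfl
          · obtain ⟨r', rfl⟩ := hy
            exact hneg ⟨r', Subtype.ext (LinearEquiv.ext fun w => (e w).trans (hn' w).symm)⟩
        have h2 := hinv _ (θ.range.pow_mem hx 12) (by rw [← pow_mul]; exact P.pow_24 x)
        have h3 := hinv _ (θ.range.pow_mem hx 6) (by rw [← pow_mul]; exact h2)
        exact hinv _ (θ.range.pow_mem hx 3) (by rw [← pow_mul]; exact h3)
      refine P.false_of_normalises ht' ht hcube ?_ (θ.mem_range.2 ⟨r, rfl⟩) hr1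
      rintro _ ⟨q, rfl⟩
      set x : Γ := ((y * s.1 : H) : Γ)
      have hq : g⁻¹ * (x * q.1.1.1 * x⁻¹) * g ∈ H := by
        rw [show g⁻¹ * (x * q.1.1.1 * x⁻¹) * g =
          g⁻¹ * x * g * (g⁻¹ * q.1.1.1 * g) * (g⁻¹ * x * g)⁻¹ by group]
        exact H.mul_mem (H.mul_mem hh q.2) (H.inv_mem hh)
      refine ⟨⟨⟨(y * s.1) * q.1.1 * (y * s.1)⁻¹, ρ.normal_ker.conj_mem _ q.1.2 _⟩, hq⟩, ?_⟩
      show ρ _ = ρ _ * ρ _ * (ρ _)⁻¹
      rw [← map_inv, ← map_mul, ← map_mul]
      congr 1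
      refine Subtype.ext ?_
      simp only [x, Subgroup.coe_mul, InvMemClass.coe_inv]
      group
  -- so the axes are only permuted cyclically
  have hA3 : ∀ z : imageOn U Γ, P.permHom z ^ 3 = 1 := by
    intro z
    rcases perm_three_cases (P.permHom z) with e | ⟨e, -⟩ | ⟨e2, e1, a, b, c, -, hbc, hab, hbc', hac⟩
    · rw [e, one_pow]
    · exact e
    · exfalso
      obtain ⟨x, hx, hx4⟩ := P.exists_fourth_neg z.2 e2 e1 hbc hab hbc' hac
      obtain ⟨k, hk⟩ := hsurj ⟨x, hx⟩
      have h0 := htr k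
      rw [hk] at h0
      rcases P.hasTrace_of_fourth_neg rfl hx hx4 with t | t
      · simp [traceSign, t] at h0
      · have : ¬ HasTrace x 3 := fun t3 => seven_trace.1 (t3.unique t)
        simp [traceSign, t, this] at h0
  -- the second function: the orientation
  have hor : ∀ y : H, orient (P.permHom (ρ y)) = 0 := by
    refine induced_vanish hrat H ρ (fun z => orient (P.permHom z)) (m := Nat.card Γ - 1)
      ?_ ?_ ?_ ?_
    · rcases Nat.lt_or_ge (Nat.card Γ) 2 with h1 | h1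
      · rw [show Nat.card Γ = 1 by have := Nat.card_pos (α := Γ); omega]; exact Nat.coprime_one_right _
      · exact (Nat.coprime_self_sub_left (by omega)).2 (Nat.coprime_one_left _)
    · intro x
      have hinv : x ^ (Nat.card Γ - 1) = x⁻¹ := eq_inv_of_mul_eq_one_left (by
        rw [← pow_succ, Nat.sub_add_cancel Nat.card_pos]
        exact Subtype.ext (by rw [SubmonoidClass.coe_pow]; exact pow_card_eq_one'))
      rw [hinv, map_inv, map_inv]
      exact perm_three_inv _ (hA3 _)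
    · intro k x
      simp only [map_mul, map_inv]
      have := perm_three_conj (P.permHom (ρ x)) (P.permHom (ρ k))⁻¹ (hA3 _) (by rw [inv_pow, hA3, inv_one])
      rw [inv_inv] at this
      rw [this]
    · intro y g hg
      obtain ⟨r, hrR, hr⟩ : ∃ r : ρ.ker, ∃ hr : g⁻¹ * r.1.1 * g ∈ H, P.permHom (ρ ⟨_, hr⟩) ≠ 1 := by
        by_contra hall
        push Not at hall
        have hE : ∀ (r : H) (hr : g⁻¹ * r.1 * g ∈ H), r ∈ ρ.ker → ρ ⟨_, hr⟩ ∈ P.permHom.ker :=
          fun r hr hk => MonoidHom.mem_ker.2 (hall ⟨r, hk⟩ hr)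
        -- an element scaling `u` by 3, and an eigenvector of the other eigenvalue
        obtain ⟨a, ha, hau⟩ := P.cov.cover v₀ 3 (P.cov.natCast_ne_zero (n := 3) (by norm_num) (by norm_num))
        obtain ⟨ha3, hafree⟩ := P.free_of_scales rfl ha hv₀ hau
        have hz2 : (a * a) v₀ = (2 : ZMod 7) • v₀ := by
          rw [LinearEquiv.mul_apply, hau, map_smul, hau, smul_smul, seven_trace.2.2.2.1]
        set z2 : imageOn U Γ := ⟨a * a, (imageOn U Γ).mul_mem ha ha⟩
        obtain ⟨u', hu'⟩ := P.cov.partner P.dim hv₀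
        obtain ⟨w, hw0, hw⟩ : ∃ w : U, w ≠ 0 ∧ z2.1 w = (4 : ZMod 7) • w := by
          obtain ⟨t, ht⟩ := P.cov.exists_hasTrace P.dim z2.2
          have ht6 : t = 2 + 4 := by
            refine smul_left_injective _ hv₀ ?_
            have h1 := ht v₀
            have hinv : z2.1⁻¹ v₀ = (4 : ZMod 7) • v₀ := z2.1.injective (by
              rw [apply_inv', map_smul, hz2, smul_smul, seven_trace.2.2.2.2.2.2.2.2, one_smul])
            show t • v₀ = ((2 : ZMod 7) + 4) • v₀
            rw [← h1, hinv, hz2, add_smul]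
          have h2 : ∀ w, z2.1 (z2.1 w) = ((2 : ZMod 7) + 4) • z2.1 w - w := fun w => by
            have := ht (z2.1 w); rw [inv_apply', ht6] at this
            exact eq_sub_of_add_eq this
          refine ⟨z2.1 u' - (2 : ZMod 7) • u', fun e => ?_, ?_⟩
          · have h1 := P.cov.inv z2.1 z2.2 v₀ u'
            rw [hz2, sub_eq_zero.1 e, map_smul, map_smul, LinearMap.smul_apply, smul_eq_mul, smul_eq_mul,
              ← mul_assoc, mul_eq_right₀ hu', ← pow_two] at h1
            exact seven_trace.2.2.2.2.2.2.2.1 h1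
          · rw [map_sub, map_smul, h2, smul_sub, smul_smul, seven_trace.2.2.2.2.2.2.2.2]
            module
        obtain ⟨z, z', e, e', hzE⟩ := hindep g hg P.permHom.ker hE v₀ w hv₀ hw0
        have hz : z = z2 := Subtype.ext (P.cov.eq_of_apply P.dim z.2 z2.2 hv₀ (e.trans hz2.symm))
        have hz' : z' = z2⁻¹ := Subtype.ext (P.cov.eq_of_apply P.dim z'.2 z2⁻¹.2 hw0 (e'.trans
          (z2.1.injective (by
            rw [InvMemClass.coe_inv, apply_inv', map_smul, hw, smul_smul, mul_comm,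
              seven_trace.2.2.2.2.2.2.2.2, one_smul]))))
        rw [hz, hz', MonoidHom.mem_ker, map_mul, map_inv] at hzE
        set σ := P.permHom ⟨a, ha⟩
        have hσ : P.permHom z2 = σ * σ := map_mul P.permHom ⟨a, ha⟩ ⟨a, ha⟩
        rw [hσ] at hzE
        have h4 : (σ * σ * (σ * σ))⁻¹ = 1 := by rw [mul_inv_rev]; exact hzE
        rw [inv_eq_one, show σ * σ * (σ * σ) = σ ^ 3 * σ by simp [pow_succ, mul_assoc], hA3, one_mul] at h4
        exact hafree 0 (congrArg (fun τ : Equiv.Perm (Fin 3) => τ 0) h4)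
      set φ : imageOn U Γ → ℤ := fun z => orient (P.permHom z)
      set S := ∑ s : ρ.ker, indTerm H ρ φ g ((y * s.1 : H) : Γ) with hS
      have h1 : S = ∑ s : ρ.ker, indTerm H ρ φ g (((y * s.1 : H) : Γ) * r.1.1) := by
        rw [hS, ← Equiv.sum_comp (Equiv.mulRight r)]
        refine Finset.sum_congr rfl fun s _ => ?_
        simp [mul_assoc]
      have h2 : S = ∑ s : ρ.ker, indTerm H ρ φ g (((y * s.1 : H) : Γ) * r.1.1 * r.1.1) := by
        rw [h1, ← Equiv.sum_comp (Equiv.mulRight r)]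
        refine Finset.sum_congr rfl fun s _ => ?_
        simp [mul_assoc]
      have h3 : S + S + S = 0 := by
        conv_lhs => arg 1; arg 2; rw [h1]
        conv_lhs => arg 2; rw [h2]
        rw [hS, ← Finset.sum_add_distrib, ← Finset.sum_add_distrib]
        refine Finset.sum_eq_zero fun s _ => ?_
        set x : Γ := ((y * s.1 : H) : Γ)
        obtain ⟨i1, v1⟩ := indTerm_translate ρ φ hrR x
        obtain ⟨i2, v2⟩ := indTerm_translate ρ φ hrR (x * r.1.1)
        by_cases hh : g⁻¹ * x * g ∈ H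
        · have hh1 := i1.2 hh
          rw [indTerm_of_mem ρ φ hh, v1 hh, v2 hh1,
            show ρ ⟨_, hh1⟩ = ρ ⟨_, hh⟩ * ρ ⟨_, hrR⟩ by
              rw [← map_mul]; exact congrArg ρ (Subtype.ext (by simp only [Subgroup.coe_mul]; group))]
          simp only [φ, map_mul, orient]
          exact perm_three_shift _ _ (hA3 _) (hA3 _) hr
        · rw [indTerm_of_not_mem ρ φ hh, indTerm_of_not_mem ρ φ (mt i1.1 hh),
            indTerm_of_not_mem ρ φ (mt i1.1 hh ∘ i2.1)]
          rfl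
      omega
  -- but covering elements are not trivial on the axes
  obtain ⟨a, ha, hau⟩ := P.cov.cover v₀ 3 (P.cov.natCast_ne_zero (n := 3) (by norm_num) (by norm_num))
  obtain ⟨ha3, hafree⟩ := P.free_of_scales rfl ha hv₀ hau
  obtain ⟨k, hk⟩ := hsurj ⟨a, ha⟩
  have h0 := hor k
  rw [hk] at h0
  have h0' : P.permHom ⟨a, ha⟩ = 1 := by
    refine perm_three_eq_one _ (hA3 _) (fun e => ?_) fun e => ?_
    · simp [orient, e] at h0
    · simp [orient, e] at h0
  exact hafree 0 (congrArg (fun τ : Equiv.Perm (Fin 3) => τ 0) h0')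

end Cover

variable {p : ℕ} [hp : Fact p.Prime] {W : Type u} [AddCommGroup W] [Module (ZMod p) W]

/-- there is no rational covering group in characteristic at least seven -/
theorem Cover.false_of_rational [Finite W] [Nontrivial W] {B : LinearMap.BilinForm (ZMod p) W}
    {Γ : Subgroup (W ≃ₗ[ZMod p] W)} (h : Cover B Γ) (h7 : 7 ≤ p) (hrat : RatGroup Γ) : False := by
  obtain ⟨hp7, U, i, j, hU, P⟩ := h.exists_plane_block h7
  subst hp7
  exact h.no_rational_seven hrat hU P

end Cfsg.Agent.DistinctSizes
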